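import Mathlib

/-!
Groups acting on cubic graphs with two orbits of vertices: stabilisers, kernels and walks.
-/

set_option autoImplicit false
set_option linter.style.haveILetI false

namespace H79.GAm

open MulAction

variable {G : Type*} [Group G] {V : Type*} [MulAction G V]

/-- stabiliser of a vertex -/
abbrev stb (G : Type*) [Group G] {V : Type*} [MulAction G V] (v : V) : Subgroup G :=
  MulAction.stabilizer G v

/-- stabiliser of two vertices -/
abbrev edg (G : Type*) [Group G] {V : Type*} [MulAction G V] (v w : V) : Subgroup G :=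
  stb G v ⊓ stb G w

/-- A group acting on a connected cubic graph, edge-transitively with two orbits of vertices,
with finite 2-groups as stabilisers of edges. -/
structure Cub (G : Type*) [Group G] (V : Type*) [MulAction G V] where
  /-- adjacency -/
  Adj : V → V → Prop
  /-- the side of a vertex -/
  side : V → Bool
  adj_symm : ∀ {v w}, Adj v w → Adj w v
  adj_smul : ∀ {v w}, Adj v w → ∀ g : G, Adj (g • v) (g • w)
  side_adj : ∀ {v w}, Adj v w → side w = !side v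
  side_smul : ∀ (g : G) (v : V), side (g • v) = side v
  side_trans : ∀ v w, side v = side w → ∃ g : G, g • v = w
  nbrs : ∀ v, ∃ x y z, x ≠ y ∧ x ≠ z ∧ y ≠ z ∧ Adj v x ∧ Adj v y ∧ Adj v z ∧
    ∀ w, Adj v w → w = x ∨ w = y ∨ w = z
  trans : ∀ {v w w'}, Adj v w → Adj v w' → ∃ g : G, g • v = v ∧ g • w = w'
  swap : ∀ {v w}, Adj v w → ∃ g : G, g • v = v ∧ g • w = w ∧ ∃ x, Adj v x ∧ g • x ≠ x
  two : ∀ {v w}, Adj v w → IsPGroup 2 (edg G v w)
  fin : ∀ {v w}, Adj v w → Finite (edg G v w)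
  faith : ∀ {v w}, Adj v w → ∀ N : Subgroup G, N ≤ edg G v w →
    stb G v ≤ Subgroup.normalizer (N : Set G) → stb G w ≤ Subgroup.normalizer (N : Set G) → N = ⊥
  conn : ∀ S : Set V, S.Nonempty → (∀ v ∈ S, ∀ w, Adj v w → w ∈ S) → ∀ v, v ∈ S
  inj : ∀ g : G, (∀ v : V, g • v = v) → g = 1

namespace Cub

variable (Γ : Cub G V)

theorem ne_of_adj {v w : V} (h : Γ.Adj v w) : v ≠ w := by
  intro e
  have := Γ.side_adj h
  rw [e] at this
  cases hs : Γ.side w <;> rw [hs] at this <;> simp at this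

theorem side_smul_adj {v w : V} {g : G} (h : Γ.Adj v w) (hv : g • v = v) : Γ.Adj v (g • w) := by
  have := Γ.adj_smul h g
  rwa [hv] at this

theorem three {v w x y z : V} (hw : Γ.Adj v w) (hx : Γ.Adj v x) (hy : Γ.Adj v y) (hz : Γ.Adj v z)
    (hwx : w ≠ x) (hwy : w ≠ y) (hxy : x ≠ y) : z = w ∨ z = x ∨ z = y := by
  obtain ⟨p, q, r, -, -, -, -, -, -, h⟩ := Γ.nbrs v
  rcases h w hw with rfl | rfl | rfl <;> rcases h x hx with rfl | rfl | rfl <;>
    rcases h y hy with rfl | rfl | rfl <;>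
    rcases h z hz with rfl | rfl | rfl <;> simp_all

/-- the third neighbour -/
theorem third {v w : V} (hw : Γ.Adj v w) :
    ∃ x y, Γ.Adj v x ∧ Γ.Adj v y ∧ x ≠ w ∧ y ≠ w ∧ x ≠ y := by
  obtain ⟨p, q, r, hpq, hpr, hqr, hp, hq, hr, h⟩ := Γ.nbrs v
  rcases h w hw with rfl | rfl | rfl
  exacts [⟨q, r, hq, hr, hpq.symm, hpr.symm, hqr⟩, ⟨p, r, hp, hr, hpq, hqr.symm, hpr⟩,
    ⟨p, q, hp, hq, hpr, hqr, hpq⟩]

theorem exists_third {v w x : V} (hw : Γ.Adj v w) (hx : Γ.Adj v x) (hwx : w ≠ x) :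
    ∃ y, Γ.Adj v y ∧ y ≠ w ∧ y ≠ x := by
  obtain ⟨p, q, hp, hq, hpw, hqw, hpq⟩ := Γ.third hw
  by_cases h : p = x
  · exact ⟨q, hq, hqw, fun e => hpq (h.trans e.symm)⟩
  · exact ⟨p, hp, hpw, h⟩

theorem exists_ne {v w : V} (hw : Γ.Adj v w) : ∃ x, Γ.Adj v x ∧ x ≠ w := by
  obtain ⟨x, -, hx, -, hxw, -, -⟩ := Γ.third hw
  exact ⟨x, hx, hxw⟩

theorem exists_adj (v : V) : ∃ w, Γ.Adj v w := by
  obtain ⟨x, -, -, -, -, -, hx, -⟩ := Γ.nbrs v
  exact ⟨x, hx⟩

/-- an element fixing `v`, a neighbour `w` and moving another one swaps the two others -/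
theorem smul_other {v w x y : V} {g : G} (hw : Γ.Adj v w) (hx : Γ.Adj v x) (hy : Γ.Adj v y)
    (hwx : w ≠ x) (hwy : w ≠ y) (hxy : x ≠ y) (hv : g • v = v) (hgw : g • w = w)
    (hgx : g • x ≠ x) : g • x = y ∧ g • y = x := by
  have e1 : g • x = y := by
    rcases Γ.three hw hx hy (Γ.side_smul_adj hx hv) hwx hwy hxy with h | h | h
    · exact absurd (MulAction.injective g (h.trans hgw.symm)) hwx.symm
    · exact absurd h hgx
    · exact h
  refine ⟨e1, ?_⟩
  rcases Γ.three hw hx hy (Γ.side_smul_adj hy hv) hwx hwy hxy with h | h | h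
  · exact absurd (MulAction.injective g (h.trans hgw.symm)) hwy.symm
  · exact h
  · exact absurd (MulAction.injective g (h.trans e1.symm)) hxy.symm

/-- the kernel of the stabiliser of `v` on the neighbours of `v` -/
def kn (v : V) : Subgroup G := stb G v ⊓ ⨅ w, ⨅ (_ : Γ.Adj v w), stb G w

theorem mem_kn {v : V} {g : G} : g ∈ Γ.kn v ↔ g • v = v ∧ ∀ w, Γ.Adj v w → g • w = w := by
  simp [kn, Subgroup.mem_inf, Subgroup.mem_iInf, mem_stabilizer_iff]

theorem mem_kn_of_two {v x y : V} {g : G} (hv : g • v = v) (hx : Γ.Adj v x) (hy : Γ.Adj v y)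
    (hxy : x ≠ y) (hgx : g • x = x) (hgy : g • y = y) : g ∈ Γ.kn v := by
  refine Γ.mem_kn.2 ⟨hv, fun w hw => ?_⟩
  obtain ⟨z, hz, hzx, hzy⟩ := Γ.exists_third hx hy hxy
  rcases Γ.three hx hy hz (Γ.side_smul_adj hw hv) hxy hzx.symm hzy.symm with h | h | h
  · exact h.trans (MulAction.injective g (h.trans hgx.symm)).symm
  · exact h.trans (MulAction.injective g (h.trans hgy.symm)).symm
  · rcases Γ.three hx hy hz hw hxy hzx.symm hzy.symm with rfl | rfl | rfl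
    exacts [hgx, hgy, h]

theorem kn_le_edg {v w : V} (h : Γ.Adj v w) : Γ.kn v ≤ edg G v w := fun _ hg =>
  ⟨(Γ.mem_kn.1 hg).1, (Γ.mem_kn.1 hg).2 w h⟩

theorem kn_le_stb (v : V) : Γ.kn v ≤ stb G v := inf_le_left

theorem smul_of_kn {v w : V} {g : G} (hg : g ∈ Γ.kn v) (h : Γ.Adj v w) : g • w = w :=
  (Γ.mem_kn.1 hg).2 w h

theorem conj_mem_kn {v : V} {q : G} (hq : q ∈ Γ.kn v) (g : G) :
    g * q * g⁻¹ ∈ Γ.kn (g • v) := by
  obtain ⟨h1, h2⟩ := Γ.mem_kn.1 hq
  refine Γ.mem_kn.2 ⟨by simp [mul_smul, h1], fun w hw => ?_⟩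
  have h3 := Γ.adj_smul hw g⁻¹
  rw [inv_smul_smul] at h3
  simp [mul_smul, h2 _ h3]

theorem conj_mem_kn_iff {v : V} {q g : G} : g * q * g⁻¹ ∈ Γ.kn (g • v) ↔ q ∈ Γ.kn v := by
  refine ⟨fun h => ?_, fun h => Γ.conj_mem_kn h g⟩
  have := Γ.conj_mem_kn h g⁻¹
  simpa [mul_assoc] using this

theorem kn_normal {v : V} {g q : G} (hg : g • v = v) (hq : q ∈ Γ.kn v) :
    g * q * g⁻¹ ∈ Γ.kn v := by
  have := Γ.conj_mem_kn hq g
  rwa [hg] at this

/-- an element of an edge stabiliser outside the kernel moves all other neighbours -/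
theorem moves {v w x : V} {g : G} (hw : Γ.Adj v w) (hx : Γ.Adj v x) (hxw : x ≠ w)
    (hg : g ∈ edg G v w) (hgk : g ∉ Γ.kn v) : g • x ≠ x := fun h =>
  hgk (Γ.mem_kn_of_two hg.1 hw hx hxw.symm hg.2 h)

theorem mul_mem_kn {v w : V} {g h : G} (hw : Γ.Adj v w) (hg : g ∈ edg G v w)
    (hgk : g ∉ Γ.kn v) (hh : h ∈ edg G v w) (hhk : h ∉ Γ.kn v) : g * h ∈ Γ.kn v := by
  obtain ⟨x, y, hx, hy, hxw, hyw, hxy⟩ := Γ.third hw
  have h1 := Γ.smul_other hw hx hy hxw.symm hyw.symm hxy hg.1 hg.2 (Γ.moves hw hx hxw hg hgk)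
  have h2 := Γ.smul_other hw hx hy hxw.symm hyw.symm hxy hh.1 hh.2 (Γ.moves hw hx hxw hh hhk)
  refine Γ.mem_kn_of_two (mul_mem hg.1 hh.1) hw hx hxw.symm ?_ ?_
  · exact (mul_mem hg.2 hh.2 : g * h ∈ stb G w)
  · rw [mul_smul, h2.1, h1.2]

theorem mem_or {v w : V} {g h : G} (hw : Γ.Adj v w) (hg : g ∈ edg G v w)
    (hgk : g ∉ Γ.kn v) (hh : h ∈ edg G v w) : h ∈ Γ.kn v ∨ h * g ∈ Γ.kn v := by
  by_cases hhk : h ∈ Γ.kn v
  · exact Or.inl hhk
  · exact Or.inr (Γ.mul_mem_kn hw hh hhk hg hgk)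

theorem exists_swap {v w : V} (hw : Γ.Adj v w) : ∃ g ∈ edg G v w, g ∉ Γ.kn v := by
  obtain ⟨g, hv, hgw, x, hx, hgx⟩ := Γ.swap hw
  exact ⟨g, ⟨hv, hgw⟩, fun h => hgx (Γ.smul_of_kn h hx)⟩

theorem stb_le {v w : V} (hw : Γ.Adj v w) {X : Subgroup G} (hX : edg G v w ≤ X) {g : G}
    (hg : g ∈ X) (hgv : g • v = v) (hgw : g • w ≠ w) : stb G v ≤ X := by
  intro h hh
  have hh' : h • v = v := hh
  obtain ⟨t, ht, htk⟩ := Γ.exists_swap hw
  have hx := Γ.side_smul_adj hw hgv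
  obtain ⟨y, hy, hyw, hyx⟩ := Γ.exists_third hw hx (Ne.symm hgw)
  have hs := Γ.smul_other hw hx hy (Ne.symm hgw) hyw.symm hyx.symm ht.1 ht.2
    (Γ.moves hw hx hgw ht htk)
  rcases Γ.three hw hx hy (Γ.side_smul_adj hw hh') (Ne.symm hgw) hyw.symm hyx.symm with e | e | e
  · exact hX ⟨hh, e⟩
  · have : g⁻¹ * h ∈ edg G v w := ⟨(stb G v).mul_mem ((stb G v).inv_mem hgv) hh,
      mem_stabilizer_iff.2 (by rw [mul_smul, e, inv_smul_smul])⟩
    simpa using mul_mem hg (hX this)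
  · have : (t * g)⁻¹ * h ∈ edg G v w := ⟨(stb G v).mul_mem ((stb G v).inv_mem ((stb G v).mul_mem ht.1 hgv)) hh,
      mem_stabilizer_iff.2 (by rw [mul_smul, e, inv_smul_eq_iff, mul_smul, hs.1])⟩
    have h2 := mul_mem (mul_mem (hX ht) hg) (hX this)
    rwa [mul_inv_cancel_left] at h2

theorem stb_le_sup {v x y : V} (hx : Γ.Adj v x) (hy : Γ.Adj v y) (hxy : x ≠ y) :
    stb G v ≤ edg G v x ⊔ edg G v y := by
  obtain ⟨t, ht, htk⟩ := Γ.exists_swap hy
  exact Γ.stb_le hx le_sup_left (Subgroup.mem_sup_right ht) ht.1 (Γ.moves hy hx hxy ht htk)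

theorem fin_le {v w : V} (hw : Γ.Adj v w) {X : Subgroup G} (hX : X ≤ edg G v w) : Finite X :=
  haveI := Γ.fin hw
  Finite.of_injective _ (Subgroup.inclusion_injective hX)

/-- a subgroup of an edge stabiliser has at most twice the order of its part in the kernel -/
theorem card_le_two {v w : V} (hw : Γ.Adj v w) {X Y : Subgroup G} (hX : X ≤ edg G v w)
    (hXY : X ⊓ Γ.kn v ≤ Y) (hY : Finite Y) : Nat.card X ≤ 2 * Nat.card Y := by
  classical
  haveI := Γ.fin_le hw hX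
  haveI := hY
  by_cases h : X ≤ Γ.kn v
  · have := Subgroup.card_le_of_le ((le_inf le_rfl h).trans hXY)
    omega
  obtain ⟨g, hg, hgk⟩ := SetLike.not_le_iff_exists.1 h
  have hY' : ∀ x : X, (x : G) ∉ Γ.kn v → (x : G) * g ∈ Y := fun x hx =>
    hXY ⟨mul_mem x.2 hg, (Γ.mul_mem_kn hw (hX x.2) hx (hX hg) hgk)⟩
  let f : X → Y ⊕ Y := fun x =>
    if hx : (x : G) ∈ Γ.kn v then Sum.inl ⟨x, hXY ⟨x.2, hx⟩⟩ else Sum.inr ⟨_, hY' x hx⟩
  have hf : Function.Injective f := by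
    intro a b e
    simp only [f] at e
    split_ifs at e with h1 h2 h2
    · exact Subtype.ext (congrArg (fun y : Y => (y : G)) (Sum.inl.inj e))
    · exact Subtype.ext (mul_right_cancel (congrArg (fun y : Y => (y : G)) (Sum.inr.inj e)))
  have := Nat.card_le_card_of_injective f hf
  rw [Nat.card_sum] at this
  omega

/-- faithfulness: a nontrivial normal subgroup of an edge stabiliser has a central involution -/
theorem exists_central {v w : V} (hw : Γ.Adj v w) {N : Subgroup G} (hN : N ≤ edg G v w)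
    (hn : edg G v w ≤ Subgroup.normalizer (N : Set G)) (hne : N ≠ ⊥) :
    ∃ x ∈ N, x ≠ 1 ∧ x * x = 1 ∧ ∀ t ∈ edg G v w, t * x = x * t := by
  classical
  haveI := Γ.fin hw
  haveI : Fact (Nat.Prime 2) := ⟨Nat.prime_two⟩
  set P := edg G v w with hP
  haveI : Nontrivial N := (Subgroup.nontrivial_iff_ne_bot _).2 hne
  haveI := Γ.fin_le hw hN
  have hNP : IsPGroup 2 N := (Γ.two hw).to_le hN
  letI act : MulAction P N :=
    { smul := fun t x => ⟨(t : G) * x * (t : G)⁻¹,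
        (Subgroup.mem_normalizer_iff.1 (hn t.2) x).1 x.2⟩
      one_smul := fun x => Subtype.ext (by show (1 : G) * x * (1 : G)⁻¹ = _; simp)
      mul_smul := fun a b x => Subtype.ext (by
        show ((a : G) * b) * x * ((a : G) * b)⁻¹ = (a : G) * ((b : G) * x * (b : G)⁻¹) * (a : G)⁻¹
        group) }
  obtain ⟨n, hn0, hcard⟩ := hNP.nontrivial_iff_card.1 ‹_›
  have h1 : (1 : N) ∈ MulAction.fixedPoints P N := fun t => Subtype.ext (by
    show (t : G) * 1 * (t : G)⁻¹ = 1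
    simp)
  obtain ⟨x, hx, hx1⟩ := (Γ.two hw).exists_fixed_point_of_prime_dvd_card_of_fixed_point
    N (hcard ▸ dvd_pow_self 2 (by omega)) h1
  have hc : ∀ t ∈ P, t * (x : G) = x * t := by
    intro t ht
    have e := congrArg Subtype.val (hx ⟨t, ht⟩)
    change t * (x : G) * t⁻¹ = x at e
    exact mul_inv_eq_iff_eq_mul.1 e
  obtain ⟨k, hk⟩ := hNP x
  have hfin : ∃ j, (x : G) ^ 2 ^ j = 1 := ⟨k, by simpa using congrArg Subtype.val hk⟩
  obtain ⟨j, hj⟩ : ∃ j, Nat.find hfin = j + 1 := by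
    refine ⟨Nat.find hfin - 1, (Nat.succ_pred_eq_of_ne_zero fun h0 => hx1 ?_).symm⟩
    have := Nat.find_spec hfin
    rw [h0, pow_zero, pow_one] at this
    exact (Subtype.ext this).symm
  refine ⟨(x : G) ^ 2 ^ j, pow_mem x.2 _, Nat.find_min hfin (by omega), ?_, fun t ht => ?_⟩
  · have := Nat.find_spec hfin
    rwa [hj, pow_succ, pow_mul, pow_two] at this
  · exact (Commute.pow_right (hc t ht) _).eq

/-! ### walks -/

/-- a walk of length `n` -/
def Wk : ℕ → V → V → Prop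
  | 0, v, w => v = w
  | n + 1, v, w => ∃ u, Γ.Adj v u ∧ Wk n u w

theorem wk_one {v w : V} (h : Γ.Adj v w) : Γ.Wk 1 v w := ⟨w, h, rfl⟩

theorem wk_two {v u w : V} (h : Γ.Adj v u) (h' : Γ.Adj u w) : Γ.Wk 2 v w := ⟨u, h, w, h', rfl⟩

theorem wk_add : ∀ {m n : ℕ} {v u w : V}, Γ.Wk m v u → Γ.Wk n u w → Γ.Wk (m + n) v w := by
  intro m
  induction m with
  | zero => intro n v u w h h'; rw [Nat.zero_add]; exact (show v = u from h) ▸ h'
  | succ m ih =>
    intro n v u w h h'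
    obtain ⟨y, hy, h⟩ := h
    rw [Nat.add_right_comm]
    exact ⟨y, hy, ih h h'⟩

theorem wk_symm : ∀ {n : ℕ} {v w : V}, Γ.Wk n v w → Γ.Wk n w v := by
  intro n
  induction n with
  | zero => intro v w h; exact Eq.symm h
  | succ n ih =>
    intro v w h
    obtain ⟨y, hy, h⟩ := h
    exact Γ.wk_add (ih h) (Γ.wk_one (Γ.adj_symm hy))

theorem wk_smul : ∀ {n : ℕ} {v w : V}, Γ.Wk n v w → ∀ g : G, Γ.Wk n (g • v) (g • w) := by
  intro n
  induction n with
  | zero => intro v w h g; exact congrArg (g • ·) h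
  | succ n ih =>
    intro v w h g
    obtain ⟨y, hy, h⟩ := h
    exact ⟨g • y, Γ.adj_smul hy g, ih h g⟩

theorem wk_side : ∀ {n : ℕ} {v w : V}, Γ.Wk n v w →
    (Γ.side w = Γ.side v ↔ Even n) := by
  intro n
  induction n with
  | zero => intro v w h; subst h; simp
  | succ n ih =>
    intro v w h
    obtain ⟨y, hy, h⟩ := h
    have h1 := ih h
    rw [Γ.side_adj hy] at h1
    rw [Nat.even_add_one, ← h1]
    cases Γ.side v <;> cases Γ.side w <;> simp

/-- `f 0, …, f n` is a walk without back-tracking -/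
def Red (n : ℕ) (f : ℕ → V) : Prop :=
  (∀ i, i < n → Γ.Adj (f i) (f (i + 1))) ∧ ∀ i, i + 2 ≤ n → f (i + 2) ≠ f i

variable {Γ}

theorem Red.mono {m n : ℕ} {f : ℕ → V} (h : Γ.Red n f) (hmn : m ≤ n) : Γ.Red m f :=
  ⟨fun i hi => h.1 i (by omega), fun i hi => h.2 i (by omega)⟩

theorem Red.drop {m n : ℕ} {f : ℕ → V} (h : Γ.Red n f) {k : ℕ} (hk : k + m ≤ n) :
    Γ.Red m (fun i => f (k + i)) :=
  ⟨fun i hi => h.1 (k + i) (by omega), fun i hi => h.2 (k + i) (by omega)⟩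

theorem Red.rev {n : ℕ} {f : ℕ → V} (h : Γ.Red n f) : Γ.Red n (fun i => f (n - i)) := by
  constructor
  · intro i hi
    have := h.1 (n - (i + 1)) (by omega)
    rw [show n - (i + 1) + 1 = n - i by omega] at this
    exact Γ.adj_symm this
  · intro i hi
    have := h.2 (n - (i + 2)) (by omega)
    rw [show n - (i + 2) + 2 = n - i by omega] at this
    exact this.symm

theorem Red.smul {n : ℕ} {f : ℕ → V} (h : Γ.Red n f) (g : G) : Γ.Red n (fun i => g • f i) :=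
  ⟨fun i hi => Γ.adj_smul (h.1 i hi) g,
    fun i hi e => h.2 i hi (MulAction.injective g e)⟩

theorem Red.adj' {n : ℕ} {f : ℕ → V} (h : Γ.Red n f) {i : ℕ} (hi : i < n) :
    Γ.Adj (f (i + 1)) (f i) := Γ.adj_symm (h.1 i hi)

theorem Red.wk {n : ℕ} {f : ℕ → V} (h : Γ.Red n f) : ∀ {d i j : ℕ}, i + d = j → j ≤ n →
    Γ.Wk d (f i) (f j) := by
  intro d
  induction d with
  | zero => intro i j h1 _; exact congrArg f h1
  | succ d ih => intro i j h1 h2; exact ⟨f (i + 1), h.1 i (by omega), ih (by omega) h2⟩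

theorem Red.wk' {n : ℕ} {f : ℕ → V} (h : Γ.Red n f) {d i j : ℕ} (h1 : i + d = j) (h2 : j ≤ n) :
    Γ.Wk d (f j) (f i) := Γ.wk_symm (h.wk h1 h2)

theorem Red.side {n : ℕ} {f : ℕ → V} (h : Γ.Red n f) {i j : ℕ} (hi : i ≤ j) (hj : j ≤ n) :
    (Γ.side (f j) = Γ.side (f i) ↔ Even (j - i)) :=
  Γ.wk_side (h.wk (by omega) hj)

/-- extend a walk at its end -/
theorem Red.snoc {n : ℕ} {f : ℕ → V} (h : Γ.Red n f) {x : V} (hx : Γ.Adj (f n) x)
    (hne : ∀ m, m + 1 = n → x ≠ f m) :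
    Γ.Red (n + 1) (fun i => if i ≤ n then f i else x) := by
  constructor
  · intro i hi
    rcases Nat.lt_or_ge i n with h1 | h1
    · simp only [if_pos h1.le, if_pos (show i + 1 ≤ n by omega)]
      exact h.1 i h1
    · obtain rfl : i = n := by omega
      simp [hx]
  · intro i hi
    rcases Nat.lt_or_ge (i + 1) n with h1 | h1
    · simp [if_pos (show i ≤ n by omega), if_pos (show i + 2 ≤ n by omega),
        h.2 i (by omega)]
    · obtain rfl : i + 1 = n := by omega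
      simp [hne i rfl]

variable (Γ)

/-- transitivity on walks of length `i` starting on side `s` -/
def Tr (s : Bool) (i : ℕ) : Prop :=
  ∀ f f' : ℕ → V, Γ.Red i f → Γ.Red i f' → Γ.side (f 0) = s → Γ.side (f' 0) = s →
    ∃ g : G, ∀ j ≤ i, g • f j = f' j

theorem tr_zero (s : Bool) : Γ.Tr s 0 := by
  intro f f' _ _ h h'
  obtain ⟨g, hg⟩ := Γ.side_trans (f 0) (f' 0) (h.trans h'.symm)
  exact ⟨g, fun j hj => by obtain rfl : j = 0 := Nat.le_zero.1 hj; exact hg⟩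

theorem tr_one (s : Bool) : Γ.Tr s 1 := by
  intro f f' hf hf' h h'
  obtain ⟨g, hg⟩ := Γ.side_trans (f 0) (f' 0) (h.trans h'.symm)
  have h1 := Γ.adj_smul (hf.1 0 (by omega)) g
  rw [hg] at h1
  obtain ⟨k, hk, hk'⟩ := Γ.trans h1 (hf'.1 0 (by omega))
  refine ⟨k * g, fun j hj => ?_⟩
  rcases Nat.le_one_iff_eq_zero_or_eq_one.1 hj with rfl | rfl
  · rw [mul_smul, hg, hk]
  · rw [mul_smul]; exact hk'

theorem tr_succ {s : Bool} {i : ℕ} (hi : 1 ≤ i) (h : Γ.Tr s i)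
    (hm : ∃ (f : ℕ → V) (g : G), Γ.Red (i + 1) f ∧ Γ.side (f 0) = s ∧
      (∀ j ≤ i, g • f j = f j) ∧ g • f (i + 1) ≠ f (i + 1)) : Γ.Tr s (i + 1) := by
  obtain ⟨m, t, hmr, hms, hfix, hmov⟩ := hm
  obtain ⟨k, rfl⟩ : ∃ k, i = k + 1 := ⟨i - 1, by omega⟩
  intro f f' hf hf' hs hs'
  obtain ⟨g, hg⟩ := h f f' (hf.mono (by omega)) (hf'.mono (by omega)) hs hs'
  by_cases he : g • f (k + 2) = f' (k + 2)
  · refine ⟨g, fun j hj => ?_⟩
    rcases Nat.lt_or_ge j (k + 2) with h1 | h1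
    · exact hg j (by omega)
    · obtain rfl : j = k + 2 := by omega
      exact he
  obtain ⟨a, ha⟩ := h m f' (hmr.mono (by omega)) (hf'.mono (by omega)) hms hs'
  have hx : Γ.Adj (f' (k + 1)) (g • f (k + 2)) := by
    have := Γ.adj_smul (hf.1 (k + 1) (by omega)) g
    rwa [hg (k + 1) le_rfl] at this
  have hy : Γ.Adj (f' (k + 1)) (a • m (k + 2)) := by
    have := Γ.adj_smul (hmr.1 (k + 1) (by omega)) a
    rwa [ha (k + 1) le_rfl] at this
  have hw : Γ.Adj (f' (k + 1)) (f' k) := hf'.adj' (by omega)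
  have hx' : Γ.Adj (f' (k + 1)) (f' (k + 2)) := hf'.1 (k + 1) (by omega)
  set s' := a * t * a⁻¹ with hs''
  have hsfix : ∀ j ≤ k + 1, s' • f' j = f' j := fun j hj => by
    rw [hs'', mul_smul, mul_smul, ← ha j hj, inv_smul_smul, hfix j hj]
  have hsmov : s' • (a • m (k + 2)) ≠ a • m (k + 2) := by
    rw [hs'', mul_smul, mul_smul, inv_smul_smul]
    exact fun e => hmov (MulAction.injective a e)
  have hk1 : s' ∈ edg G (f' (k + 1)) (f' k) := ⟨hsfix _ le_rfl, hsfix k (by omega)⟩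
  have hk2 : s' ∉ Γ.kn (f' (k + 1)) := fun hk => hsmov (Γ.smul_of_kn hk hy)
  have n1 : g • f (k + 2) ≠ f' k := fun e => hf.2 k (by omega)
    (MulAction.injective g (e.trans (hg k (by omega)).symm))
  have n2 : f' (k + 2) ≠ f' k := hf'.2 k (by omega)
  have hsw := Γ.smul_other hw hx hx' n1.symm n2.symm he hk1.1 hk1.2 (Γ.moves hw hx n1 hk1 hk2)
  refine ⟨s' * g, fun j hj => ?_⟩
  rcases Nat.lt_or_ge j (k + 2) with h1 | h1
  · rw [mul_smul, hg j (by omega), hsfix j (by omega)]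
  · obtain rfl : j = k + 2 := by omega
    rw [mul_smul]; exact hsw.1

theorem tr_two (s : Bool) : Γ.Tr s 2 := by
  by_cases h : ∃ v, Γ.side v = s
  · obtain ⟨v, hv⟩ := h
    obtain ⟨w, hw⟩ := Γ.exists_adj v
    obtain ⟨g, hg, hgk⟩ := Γ.exists_swap (Γ.adj_symm hw)
    obtain ⟨x, hx, hxv⟩ := Γ.exists_ne (Γ.adj_symm hw)
    refine Γ.tr_succ le_rfl (Γ.tr_one s)
      ⟨fun i => if i ≤ 1 then (if i = 0 then v else w) else x, g, ?_, by simp [hv], ?_, ?_⟩
    · constructor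
      · intro i hi
        rcases (show i = 0 ∨ i = 1 by omega) with rfl | rfl <;> simp [hw, hx]
      · intro i hi
        obtain rfl : i = 0 := by omega
        simpa using hxv
    · intro j hj
      rcases Nat.le_one_iff_eq_zero_or_eq_one.1 hj with rfl | rfl
      · simpa using hg.2
      · simpa using hg.1
    · simpa using Γ.moves (Γ.adj_symm hw) hx hxv hg hgk
  · intro f f' hf hf' hs
    exact absurd ⟨_, hs⟩ h

/-- if some walk of length `i` cannot be extended transitively, none can -/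
theorem blocked {s : Bool} {i : ℕ} (hi : 1 ≤ i) (h : Γ.Tr s i) (hn : ¬ Γ.Tr s (i + 1))
    {f : ℕ → V} (hf : Γ.Red i f) (hs : Γ.side (f 0) = s) {g : G}
    (hg : ∀ j ≤ i, g • f j = f j) : g ∈ Γ.kn (f i) := by
  obtain ⟨k, rfl⟩ : ∃ k, i = k + 1 := ⟨i - 1, by omega⟩
  by_contra hk
  have hw := hf.adj' (show k < k + 1 by omega)
  obtain ⟨x, hx, hxw⟩ := Γ.exists_ne hw
  apply hn
  refine Γ.tr_succ (by omega) h ⟨fun j => if j ≤ k + 1 then f j else x, g, ?_, by simpa using hs,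
    fun j hj => by simp [if_pos hj, hg j hj], ?_⟩
  · exact hf.snoc hx fun m hm => (show m = k by omega) ▸ hxw
  · simpa using Γ.moves hw hx hxw ⟨hg _ le_rfl, hg k (by omega)⟩ hk

/-- transitivity is preserved under reversing -/
theorem Tr.rev {s : Bool} {i : ℕ} (h : Γ.Tr s i) :
    Γ.Tr (if Even i then s else !s) i := by
  intro f f' hf hf' hs hs'
  have key : ∀ f : ℕ → V, Γ.Red i f → Γ.side (f 0) = (if Even i then s else !s) →
      Γ.side (f (i - 0)) = s := by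
    intro f hf hs
    have h1 := hf.side (Nat.zero_le i) le_rfl
    rw [hs, Nat.sub_zero] at h1
    rw [Nat.sub_zero]
    by_cases he : Even i
    · rw [if_pos he] at h1; exact h1.2 he
    · rw [if_neg he] at h1
      have := mt h1.1 he
      revert this
      cases Γ.side (f i) <;> cases s <;> simp
  obtain ⟨g, hg⟩ := h _ _ hf.rev hf'.rev (key f hf hs) (key f' hf' hs')
  refine ⟨g, fun j hj => ?_⟩
  have := hg (i - j) (by omega)
  simpa [show i - (i - j) = j by omega] using this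

end Cub

end H79.GAm
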