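import Cfsg.Agent.H79.GAmalgam.Basic

/-!
The central involutions of the edge stabilisers when one side centralises them, the distance `b`,
and the case `b = 1`.
-/

set_option autoImplicit false
set_option linter.style.haveILetI false

namespace H79.GAm

open MulAction

variable {G : Type*} [Group G] {V : Type*} [MulAction G V]

/-- One side (`false`) centralises the central involutions of the edge stabilisers; the other
side is constrained. -/
structure Amal (G : Type*) [Group G] (V : Type*) [MulAction G V] extends Cub G V where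
  cons : ∀ {a : V}, side a = true → ∀ g : G, g • a = a →
    (∀ q ∈ Cub.kn toCub a, g * q = q * g) → g ∈ Cub.kn toCub a
  cent : ∀ {c a : V}, side c = false → Adj c a → ∀ x ∈ edg G c a, x * x = 1 →
    (∀ t ∈ edg G c a, t * x = x * t) → ∀ g : G, g • c = c → g * x = x * g

namespace Amal

variable (Γ : Amal G V)

theorem side_c {a c : V} (h : Γ.Adj a c) (ha : Γ.side a = true) : Γ.side c = false := by
  rw [Γ.side_adj h, ha]; rfl

theorem side_a {a c : V} (h : Γ.Adj c a) (hc : Γ.side c = false) : Γ.side a = true := by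
  rw [Γ.side_adj h, hc]; rfl

/-- central involutions of the stabiliser of `c` fixing all its neighbours -/
def zc (c : V) : Subgroup G where
  carrier := {x | x ∈ Γ.kn c ∧ x * x = 1 ∧ ∀ g ∈ stb G c, g * x = x * g}
  one_mem' := ⟨one_mem _, one_mul _, fun g _ => by rw [one_mul, mul_one]⟩
  mul_mem' := by
    rintro x y ⟨hx, hx1, hx2⟩ ⟨hy, hy1, hy2⟩
    refine ⟨mul_mem hx hy, ?_, fun g hg => ?_⟩
    · calc x * y * (x * y) = x * (y * x) * y := by group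
        _ = x * x * (y * y) := by rw [← (hy2 x (Γ.kn_le_stb c hx))]; group
        _ = 1 := by rw [hx1, hy1, mul_one]
    · rw [← mul_assoc, hx2 g hg, mul_assoc, hy2 g hg, mul_assoc]
  inv_mem' := by
    rintro x ⟨hx, hx1, hx2⟩
    rw [inv_eq_of_mul_eq_one_right hx1]
    exact ⟨hx, hx1, hx2⟩

theorem zc_kn {c : V} {x : G} (h : x ∈ Γ.zc c) : x ∈ Γ.kn c := h.1

theorem zc_sq {c : V} {x : G} (h : x ∈ Γ.zc c) : x * x = 1 := h.2.1

theorem zc_comm {c : V} {x g : G} (h : x ∈ Γ.zc c) (hg : g • c = c) : g * x = x * g := h.2.2 g hg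

theorem conj_zc {c : V} {x : G} (h : x ∈ Γ.zc c) (g : G) : g * x * g⁻¹ ∈ Γ.zc (g • c) := by
  refine ⟨Γ.conj_mem_kn h.1 g, ?_, fun t ht => ?_⟩
  · calc g * x * g⁻¹ * (g * x * g⁻¹) = g * (x * x) * g⁻¹ := by group
      _ = 1 := by rw [h.2.1, mul_one, mul_inv_cancel]
  · have ht' : t • g • c = g • c := ht
    have := h.2.2 (g⁻¹ * t * g)
      (mem_stabilizer_iff.2 (by rw [mul_smul, mul_smul, ht', inv_smul_smul]))
    calc t * (g * x * g⁻¹) = g * (g⁻¹ * t * g * x) * g⁻¹ := by group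
      _ = _ := by rw [this]; group

/-- an involution of an edge stabiliser centralising it lies in `zc` -/
theorem mem_zc {c a : V} (hc : Γ.side c = false) (h : Γ.Adj c a) {x : G} (hx : x ∈ edg G c a)
    (h2 : x * x = 1) (hcomm : ∀ t ∈ edg G c a, t * x = x * t) : x ∈ Γ.zc c := by
  have hg := Γ.cent hc h x hx h2 hcomm
  refine ⟨?_, h2, hg⟩
  refine Γ.mem_kn.2 ⟨hx.1, fun w hw => ?_⟩
  obtain ⟨g, hgc, rfl⟩ := Γ.trans h hw
  have hxa : x • a = a := hx.2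
  calc x • g • a = (x * g) • a := (mul_smul x g a).symm
    _ = (g * x) • a := by rw [hg g hgc]
    _ = g • a := by rw [mul_smul, hxa]

theorem exists_zc {c a : V} (hc : Γ.side c = false) (h : Γ.Adj c a) :
    ∃ x ∈ Γ.zc c, x ≠ 1 := by
  have hne : edg G c a ≠ ⊥ := fun e => by
    obtain ⟨g, hg, hgk⟩ := Γ.exists_swap h
    rw [e, Subgroup.mem_bot] at hg
    exact hgk (hg ▸ one_mem _)
  obtain ⟨x, hx, hx1, hx2, hx3⟩ :=
    Γ.exists_central h le_rfl Subgroup.le_normalizer hne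
  exact ⟨x, Γ.mem_zc hc h hx hx2 hx3, hx1⟩

theorem zc_disjoint {a c c' : V} (ha : Γ.side a = true) (h : Γ.Adj a c) (h' : Γ.Adj a c')
    (hne : c ≠ c') {x : G} (hx : x ∈ Γ.zc c) (hx' : x ∈ Γ.zc c') : x = 1 := by
  have h1 : stb G a ≤ Subgroup.centralizer (Subgroup.zpowers x : Set G) := by
    refine (Γ.stb_le_sup h h' hne).trans ?_
    rw [Subgroup.le_centralizer_iff, Subgroup.zpowers_le, Subgroup.mem_centralizer_iff]
    suffices edg G a c ⊔ edg G a c' ≤ Subgroup.centralizer {x} from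
      fun g hg => Subgroup.mem_centralizer_singleton_iff.1 (this hg)
    refine sup_le ?_ ?_ <;> intro g hg <;> rw [Subgroup.mem_centralizer_singleton_iff]
    · exact Γ.zc_comm hx hg.2
    · exact Γ.zc_comm hx' hg.2
  have h2 : stb G c ≤ Subgroup.centralizer (Subgroup.zpowers x : Set G) := by
    rw [Subgroup.le_centralizer_iff, Subgroup.zpowers_le, Subgroup.mem_centralizer_iff]
    exact fun g hg => Γ.zc_comm hx hg
  have := Γ.faith (Γ.adj_symm h) (Subgroup.zpowers x)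
    (Subgroup.zpowers_le.2 (Γ.kn_le_edg (Γ.adj_symm h) hx.1))
    (h2.trans (Subgroup.centralizer_le_normalizer _))
    (h1.trans (Subgroup.centralizer_le_normalizer _))
  exact Subgroup.zpowers_eq_bot.1 this

/-- the elements of `kn a` of order at most two centralising `kn a` -/
def zk (a : V) : Subgroup G where
  carrier := {x | x ∈ Γ.kn a ∧ x * x = 1 ∧ ∀ q ∈ Γ.kn a, q * x = x * q}
  one_mem' := ⟨one_mem _, one_mul _, fun g _ => by rw [one_mul, mul_one]⟩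
  mul_mem' := by
    rintro x y ⟨hx, hx1, hx2⟩ ⟨hy, hy1, hy2⟩
    refine ⟨mul_mem hx hy, ?_, fun g hg => ?_⟩
    · calc x * y * (x * y) = x * (y * x) * y := by group
        _ = x * x * (y * y) := by rw [← (hy2 x hx)]; group
        _ = 1 := by rw [hx1, hy1, mul_one]
    · rw [← mul_assoc, hx2 g hg, mul_assoc, hy2 g hg, mul_assoc]
  inv_mem' := by
    rintro x ⟨hx, hx1, hx2⟩
    rw [inv_eq_of_mul_eq_one_right hx1]
    exact ⟨hx, hx1, hx2⟩

/-- the subgroup generated by the `zc` of the neighbours -/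
def za (a : V) : Subgroup G := ⨆ c, ⨆ (_ : Γ.Adj a c), Γ.zc c

theorem zc_le_za {a c : V} (h : Γ.Adj a c) : Γ.zc c ≤ Γ.za a := le_iSup₂_of_le c h le_rfl

theorem za_le_zk {a : V} (ha : Γ.side a = true) : Γ.za a ≤ Γ.zk a := by
  refine iSup₂_le fun c hc x hx => ?_
  have hxe : x ∈ edg G a c := ⟨(Γ.kn_le_edg (Γ.adj_symm hc) hx.1).2, (Γ.mem_kn.1 hx.1).1⟩
  have hcm : ∀ q ∈ Γ.kn a, q * x = x * q := fun q hq => Γ.zc_comm hx (Γ.smul_of_kn hq hc)
  exact ⟨Γ.cons ha x hxe.1 (fun q hq => (hcm q hq).symm), hx.2.1, hcm⟩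

theorem za_kn {a : V} (ha : Γ.side a = true) {x : G} (h : x ∈ Γ.za a) : x ∈ Γ.kn a :=
  (Γ.za_le_zk ha h).1

theorem za_sq {a : V} (ha : Γ.side a = true) {x : G} (h : x ∈ Γ.za a) : x * x = 1 :=
  (Γ.za_le_zk ha h).2.1

theorem za_inv {a : V} (ha : Γ.side a = true) {x : G} (h : x ∈ Γ.za a) : x⁻¹ = x :=
  inv_eq_of_mul_eq_one_right (Γ.za_sq ha h)

theorem za_comm {a : V} (ha : Γ.side a = true) {x q : G} (h : x ∈ Γ.za a) (hq : q ∈ Γ.kn a) :
    q * x = x * q :=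
  (Γ.za_le_zk ha h).2.2 q hq

theorem za_le_edg {a c : V} (ha : Γ.side a = true) (h : Γ.Adj a c) : Γ.za a ≤ edg G a c :=
  fun _ hx => Γ.kn_le_edg h (Γ.za_kn ha hx)

theorem za_finite {a : V} (ha : Γ.side a = true) : Finite (Γ.za a) := by
  obtain ⟨c, hc⟩ := Γ.exists_adj a
  exact Γ.fin_le hc (Γ.za_le_edg ha hc)

theorem za_le_conj (a : V) (g : G) :
    Γ.za a ≤ (Γ.za (g • a)).comap (MulAut.conj g).toMonoidHom :=
  iSup₂_le fun _ hc _ hx => Γ.zc_le_za (Γ.adj_smul hc g) (Γ.conj_zc hx g)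

theorem conj_za {a : V} {x : G} (h : x ∈ Γ.za a) (g : G) : g * x * g⁻¹ ∈ Γ.za (g • a) :=
  Γ.za_le_conj a g h

theorem za_normal {a : V} {x g : G} (h : x ∈ Γ.za a) (hg : g • a = a) :
    g * x * g⁻¹ ∈ Γ.za a := by
  have := Γ.conj_za h g
  rwa [hg] at this

/-- a fixed point of an element moving neighbours lies in `zc` -/
theorem za_fixed {a c : V} (ha : Γ.side a = true) (h : Γ.Adj a c) {x t : G} (hx : x ∈ Γ.za a)
    (ht : t ∈ edg G a c) (htk : t ∉ Γ.kn a) (hcomm : t * x = x * t) : x ∈ Γ.zc c := by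
  have hxe := Γ.za_le_edg ha h hx
  refine Γ.mem_zc (Γ.side_c h ha) (Γ.adj_symm h) ⟨hxe.2, hxe.1⟩ (Γ.za_sq ha hx) fun s hs => ?_
  rcases Γ.mem_or h ht htk (⟨hs.2, hs.1⟩ : s ∈ edg G a c) with h1 | h1
  · exact Γ.za_comm ha hx h1
  · have h2 := Γ.za_comm ha hx h1
    rw [mul_assoc, hcomm, ← mul_assoc, ← mul_assoc] at h2
    exact mul_right_cancel h2

theorem za_comm_mem {a c : V} (ha : Γ.side a = true) (h : Γ.Adj a c) {x t : G}
    (hx : x ∈ Γ.za a) (ht : t ∈ edg G a c) : x * (t * x * t⁻¹) ∈ Γ.zc c := by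
  by_cases htk : t ∈ Γ.kn a
  · rw [Γ.za_comm ha hx htk, mul_inv_cancel_right, Γ.za_sq ha hx]
    exact one_mem _
  have hy : x * (t * x * t⁻¹) ∈ Γ.za a := mul_mem hx (Γ.za_normal hx ht.1)
  refine Γ.za_fixed ha h hy ht htk ?_
  have h1 : t * t * x = x * (t * t) := Γ.za_comm ha hx (Γ.mul_mem_kn h ht htk ht htk)
  have h2 := Γ.za_comm ha hx (Γ.za_kn ha (Γ.za_normal hx ht.1))
  calc t * (x * (t * x * t⁻¹)) = t * x * t⁻¹ * (t * t * x) * t⁻¹ := by group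
    _ = t * x * t⁻¹ * (x * (t * t)) * t⁻¹ := by rw [h1]
    _ = (t * x * t⁻¹ * x) * t := by group
    _ = x * (t * x * t⁻¹) * t := by rw [h2]

theorem za_ne_bot {a : V} (ha : Γ.side a = true) : ∃ x ∈ Γ.za a, x ≠ 1 := by
  obtain ⟨c, hc⟩ := Γ.exists_adj a
  obtain ⟨x, hx, hx1⟩ := Γ.exists_zc (Γ.side_c hc ha) (Γ.adj_symm hc)
  exact ⟨x, Γ.zc_le_za hc hx, hx1⟩

/-- centralising `za a` means fixing all neighbours -/
theorem mem_kn_of_comm {a : V} (ha : Γ.side a = true) {g : G} (hg : g • a = a)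
    (h : ∀ x ∈ Γ.za a, g * x = x * g) : g ∈ Γ.kn a := by
  obtain ⟨c, hc⟩ := Γ.exists_adj a
  obtain ⟨x, hx, hx1⟩ := Γ.exists_zc (Γ.side_c hc ha) (Γ.adj_symm hc)
  refine Γ.mem_kn.2 ⟨hg, fun w hw => ?_⟩
  by_contra hne
  obtain ⟨y, hy, hy1⟩ := Γ.exists_zc (Γ.side_c hw ha) (Γ.adj_symm hw)
  have h1 := Γ.conj_zc hy g
  rw [h y (Γ.zc_le_za hw hy), mul_inv_cancel_right] at h1
  exact hy1 (Γ.zc_disjoint ha hw (Γ.side_smul_adj hw hg) (Ne.symm hne) hy h1)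

theorem conj_za_eq {r r' : V} {x z : G} (hx : x ∈ Γ.za r) (hc : z * x = x * z)
    (hr' : z • r = r') : x ∈ Γ.za r' := by
  have := Γ.conj_za hx z
  rwa [hc, mul_inv_cancel_right, hr'] at this

theorem zc_sq_le_za {a : V} (ha : Γ.side a = true) {c c' : V} (h : Γ.Adj a c) (h' : Γ.Adj a c')
    (hne : c ≠ c') : Nat.card (Γ.zc c) * Nat.card (Γ.zc c') ≤ Nat.card (Γ.za a) := by
  haveI := Γ.za_finite ha
  rw [← Nat.card_prod]
  refine Nat.card_le_card_of_injective (fun p : Γ.zc c × Γ.zc c' =>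
    (⟨(p.1 : G) * p.2, mul_mem (Γ.zc_le_za h p.1.2) (Γ.zc_le_za h' p.2.2)⟩ : Γ.za a)) ?_
  intro p q e
  have e' : (p.1 : G) * p.2 = q.1 * q.2 := congrArg Subtype.val e
  have h1 : (q.1 : G)⁻¹ * p.1 = q.2 * (p.2 : G)⁻¹ := by
    rw [inv_mul_eq_iff_eq_mul, ← mul_assoc, ← e', mul_inv_cancel_right]
  have h2 := Γ.zc_disjoint ha h h' hne (mul_mem (inv_mem q.1.2) p.1.2)
    (h1 ▸ mul_mem q.2.2 (inv_mem p.2.2))
  have h3 : (p.1 : G) = q.1 := (inv_mul_eq_one.1 h2).symm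
  rw [h3] at e'
  exact Prod.ext (Subtype.ext h3) (Subtype.ext (mul_left_cancel e'))

theorem card_zc_eq {c c' : V} (hc : Γ.side c = false) (hc' : Γ.side c' = false) :
    Nat.card (Γ.zc c) = Nat.card (Γ.zc c') := by
  obtain ⟨g, rfl⟩ := Γ.side_trans c c' (hc.trans hc'.symm)
  exact Nat.card_congr
    { toFun := fun x => ⟨g * x * g⁻¹, Γ.conj_zc x.2 g⟩
      invFun := fun x => ⟨g⁻¹ * x * g, by
        have := Γ.conj_zc x.2 g⁻¹
        rwa [inv_inv, inv_smul_smul] at this⟩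
      left_inv := fun x => Subtype.ext (by simp [mul_assoc])
      right_inv := fun x => Subtype.ext (by simp [mul_assoc]) }

theorem one_lt_card_zc {c a : V} (hc : Γ.side c = false) (h : Γ.Adj c a) :
    1 < Nat.card (Γ.zc c) := by
  obtain ⟨x, hx, hx1⟩ := Γ.exists_zc hc h
  haveI := Γ.fin_le h (fun y (hy : y ∈ Γ.zc c) => Γ.kn_le_edg h hy.1)
  exact (Subgroup.one_lt_card_iff_ne_bot _).2 fun e => hx1 (Subgroup.mem_bot.1 (e ▸ hx))

/-- if the two kernels at an edge are comparable we get a contradiction -/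
theorem kn_not_le {a c : V} (ha : Γ.side a = true) (h : Γ.Adj a c) :
    ¬ Γ.kn c ≤ Γ.kn a ∧ ¬ Γ.kn a ≤ Γ.kn c := by
  have h' := Γ.adj_symm h
  have key : Γ.kn a = Γ.kn c → False := by
    intro e
    obtain ⟨x, hx, hx1⟩ := Γ.za_ne_bot ha
    have hn : ∀ v, stb G v ≤ Subgroup.normalizer (Γ.kn v : Set G) := by
      intro v g hg
      rw [Subgroup.mem_normalizer_iff]
      refine fun q => ⟨fun hq => Γ.kn_normal hg hq, fun hq => ?_⟩
      rw [← Γ.conj_mem_kn_iff (g := g), (show g • v = v from hg)]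
      exact hq
    have := Γ.faith h (Γ.kn a) (Γ.kn_le_edg h) (hn a) (e ▸ hn c)
    exact hx1 (Subgroup.mem_bot.1 (this ▸ Γ.za_kn ha hx))
  constructor
  · intro hle
    refine key (le_antisymm (fun g hg => ?_) hle)
    by_contra hgc
    obtain ⟨t, ht, htk⟩ := Γ.exists_swap h
    have htc : t ∉ Γ.kn c := fun e => htk (hle e)
    have h1 := hle (Γ.mul_mem_kn h' (⟨ht.2, ht.1⟩ : t ∈ edg G c a) htc
      (⟨(Γ.kn_le_edg h hg).2, (Γ.kn_le_edg h hg).1⟩ : g ∈ edg G c a) hgc)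
    exact htk ((Subgroup.mul_mem_cancel_right _ hg).1 h1)
  · intro hle
    refine key (le_antisymm hle fun g hg => ?_)
    by_contra hga
    obtain ⟨t, ht, htk⟩ := Γ.exists_swap h'
    have hta : t ∉ Γ.kn a := fun e => htk (hle e)
    have h1 := hle (Γ.mul_mem_kn h (⟨ht.2, ht.1⟩ : t ∈ edg G a c) hta
      (⟨(Γ.kn_le_edg h' hg).2, (Γ.kn_le_edg h' hg).1⟩ : g ∈ edg G a c) hga)
    exact htk ((Subgroup.mul_mem_cancel_right _ hg).1 h1)

/-- `za a` fixes every end of a walk of length `n ≤ r` -/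
def Fixes (r : ℕ) : Prop :=
  ∀ a, Γ.side a = true → ∀ n ≤ r, ∀ w, Γ.Wk n a w → Γ.za a ≤ stb G w

theorem fixes_one : Γ.Fixes 1 := by
  intro a ha n hn w hw x hx
  rcases Nat.le_one_iff_eq_zero_or_eq_one.1 hn with rfl | rfl
  · exact (show a = w from hw) ▸ (Γ.mem_kn.1 (Γ.za_kn ha hx)).1
  · obtain ⟨u, hu, e⟩ := hw
    exact (show u = w from e) ▸ Γ.smul_of_kn (Γ.za_kn ha hx) hu

theorem not_fixes {a : V} (ha : Γ.side a = true) : ∃ r, ¬ Γ.Fixes r := by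
  by_contra h
  push Not at h
  obtain ⟨x, hx, hx1⟩ := Γ.za_ne_bot ha
  refine hx1 (Γ.inj x fun v => ?_)
  obtain ⟨n, hn⟩ := Γ.conn {v | ∃ n, Γ.Wk n a v} ⟨a, 0, rfl⟩
    (fun v ⟨n, hn⟩ w hw => ⟨n + 1, Γ.wk_add hn (Γ.wk_one hw)⟩) v
  exact h n a ha n le_rfl v hn hx

theorem wk_fun : ∀ {n : ℕ} {v w : V}, Γ.Wk n v w →
    ∃ f : ℕ → V, f 0 = v ∧ f n = w ∧ ∀ i < n, Γ.Adj (f i) (f (i + 1)) := by
  intro n
  induction n with
  | zero => intro v w h; exact ⟨fun _ => v, rfl, h, fun i hi => absurd hi (Nat.not_lt_zero i)⟩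
  | succ n ih =>
    rintro v w ⟨u, hu, h⟩
    obtain ⟨f, h0, hn, hf⟩ := ih h
    refine ⟨fun i => match i with | 0 => v | j + 1 => f j, rfl, hn, fun i hi => ?_⟩
    match i with
    | 0 => simpa [h0] using hu
    | j + 1 => exact hf j (by omega)

theorem exists_crit {b : ℕ} (hb : Γ.Fixes b) (hn : ¬ Γ.Fixes (b + 1)) :
    ∃ f : ℕ → V, Γ.Red (b + 1) f ∧ Γ.side (f 0) = true ∧
      ¬ Γ.za (f 0) ≤ stb G (f (b + 1)) := by
  unfold Fixes at hn
  push Not at hn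
  obtain ⟨a, ha, n, hn, w, hw, hle⟩ := hn
  obtain rfl : n = b + 1 := by
    by_contra hne
    exact hle (hb a ha n (by omega) w hw)
  obtain ⟨f, rfl, rfl, hf⟩ := Γ.wk_fun hw
  refine ⟨f, ⟨hf, fun i hi e => hle ?_⟩, ha, hle⟩
  obtain ⟨d, hd⟩ : ∃ d, b + 1 = i + 2 + d := ⟨b + 1 - (i + 2), by omega⟩
  have key : ∀ {d i j : ℕ}, i + d = j → j ≤ b + 1 → Γ.Wk d (f i) (f j) := by
    intro d
    induction d with
    | zero => intro i j h1 _; exact congrArg f h1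
    | succ d ih => intro i j h1 h2; exact ⟨f (i + 1), hf i (by omega), ih (by omega) h2⟩
  have h2 := key (d := d) (i := i + 2) (j := b + 1) (by omega) le_rfl
  rw [e] at h2
  exact hb _ ha (i + d) (by omega) _ (Γ.wk_add (key (d := i) (i := 0) (by omega) (by omega)) h2)

end Amal

/-- a fixed value of the critical distance -/
structure Deep (G : Type*) [Group G] (V : Type*) [MulAction G V] extends Amal G V where
  b : ℕ
  one_le : 1 ≤ b
  fixes : Amal.Fixes toAmal b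
  crit : ∃ f : ℕ → V, Cub.Red (Γ := toCub) (b + 1) f ∧ side (f 0) = true ∧
    ¬ Amal.za toAmal (f 0) ≤ stb G (f (b + 1))

theorem Amal.exists_deep (Γ : Amal G V) [Nonempty V] : ∃ D : Deep G V, D.toAmal = Γ := by
  classical
  obtain ⟨a, ha⟩ : ∃ a, Γ.side a = true := by
    obtain ⟨v⟩ := ‹Nonempty V›
    obtain ⟨w, hw⟩ := Γ.exists_adj v
    cases hs : Γ.side v with
    | true => exact ⟨v, hs⟩
    | false => exact ⟨w, Γ.side_a hw hs⟩
  have hex := Γ.not_fixes ha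
  have h1 : 1 < Nat.find hex := by
    rw [Nat.lt_find_iff]
    intro r hr h
    exact h (fun a ha n hn w hw => Γ.fixes_one a ha n (by omega) w hw)
  have hb : Γ.Fixes (Nat.find hex - 1) := not_not.1 (Nat.find_min hex (by omega))
  have hn := Nat.find_spec hex
  rw [show Nat.find hex = Nat.find hex - 1 + 1 by omega] at hn
  exact ⟨⟨Γ, Nat.find hex - 1, by omega, hb, Γ.exists_crit hb hn⟩, rfl⟩

namespace Deep

variable (Γ : Deep G V)

/-- a critical walk -/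
def Crit (f : ℕ → V) : Prop :=
  Γ.Red (Γ.b + 1) f ∧ Γ.side (f 0) = true ∧ ¬ Γ.za (f 0) ≤ stb G (f (Γ.b + 1))

theorem za_fix {a w : V} (ha : Γ.side a = true) {n : ℕ} (hn : n ≤ Γ.b) (hw : Γ.Wk n a w)
    {x : G} (hx : x ∈ Γ.za a) : x • w = w :=
  Γ.fixes a ha n hn w hw hx

theorem zc_fix {c w : V} (hc : Γ.side c = false) {n : ℕ} (hn : n ≤ Γ.b + 1) (hw : Γ.Wk n c w)
    {x : G} (hx : x ∈ Γ.zc c) : x • w = w := by
  match n, hn, hw with
  | 0, _, hw => exact (show c = w from hw) ▸ (Γ.mem_kn.1 hx.1).1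
  | n + 1, hn, ⟨a, ha, hw⟩ =>
    exact Γ.za_fix (Γ.side_a ha hc) (by omega) hw (Γ.zc_le_za (Γ.adj_symm ha) hx)

theorem za_mem_kn {a w : V} (ha : Γ.side a = true) {n : ℕ} (hn : n + 1 ≤ Γ.b)
    (hw : Γ.Wk n a w) {x : G} (hx : x ∈ Γ.za a) : x ∈ Γ.kn w :=
  Γ.mem_kn.2 ⟨Γ.za_fix ha (by omega) hw hx,
    fun u hu => Γ.za_fix ha hn (Γ.wk_add hw (Γ.wk_one hu)) hx⟩

theorem za_za {a a' : V} (ha : Γ.side a = true) (ha' : Γ.side a' = true) {n : ℕ}
    (hn : n + 1 ≤ Γ.b) (hw : Γ.Wk n a a') {x y : G} (hx : x ∈ Γ.za a) (hy : y ∈ Γ.za a') :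
    x * y = y * x :=
  Γ.za_comm ha' hy (Γ.za_mem_kn ha hn hw hx)

theorem za_zc {a c : V} (ha : Γ.side a = true) {n : ℕ}
    (hn : n ≤ Γ.b) (hw : Γ.Wk n a c) {x y : G} (hx : x ∈ Γ.za a) (hy : y ∈ Γ.zc c) :
    x * y = y * x :=
  Γ.zc_comm hy (Γ.za_fix ha hn hw hx)

theorem zc_zc {c c' : V} (hc : Γ.side c = false) {n : ℕ}
    (hn : n ≤ Γ.b + 1) (hw : Γ.Wk n c c') {x y : G} (hx : x ∈ Γ.zc c) (hy : y ∈ Γ.zc c') :
    x * y = y * x :=
  Γ.zc_comm hy (Γ.zc_fix hc hn hw hx)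

variable {Γ}

theorem Crit.side {f : ℕ → V} (h : Γ.Crit f) {j : ℕ} (hj : j ≤ Γ.b + 1) :
    Γ.side (f j) = decide (Even j) := by
  have := h.1.side (Nat.zero_le j) hj
  rw [h.2.1, Nat.sub_zero] at this
  by_cases he : Even j
  · rw [decide_eq_true he]; exact this.2 he
  · rw [decide_eq_false he]
    exact Bool.eq_false_iff.2 (mt this.1 he)

theorem Crit.side_even {f : ℕ → V} (h : Γ.Crit f) {j : ℕ} (hj : j ≤ Γ.b + 1) (he : Even j) :
    Γ.side (f j) = true := (h.side hj).trans (decide_eq_true he)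

theorem Crit.side_odd {f : ℕ → V} (h : Γ.Crit f) {j : ℕ} (hj : j ≤ Γ.b + 1) (he : ¬ Even j) :
    Γ.side (f j) = false := (h.side hj).trans (decide_eq_false he)

/-- the element moving the end of a critical walk -/
theorem Crit.mover {f : ℕ → V} (h : Γ.Crit f) :
    ∃ z ∈ Γ.za (f 0), z • f (Γ.b + 1) ≠ f (Γ.b + 1) ∧ z ∉ Γ.kn (f Γ.b) ∧
      ∀ j ≤ Γ.b, z • f j = f j := by
  obtain ⟨z, hz, hzm⟩ := SetLike.not_le_iff_exists.1 h.2.2
  have hm : z • f (Γ.b + 1) ≠ f (Γ.b + 1) := fun e => hzm e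
  exact ⟨z, hz, hm, fun hk => hm (Γ.smul_of_kn hk (h.1.1 Γ.b (by omega))),
    fun j hj => Γ.za_fix h.2.1 hj (h.1.wk (Nat.zero_add j) (by omega)) hz⟩

variable (Γ)

theorem exists_Crit : ∃ f, Γ.Crit f := Γ.crit

theorem tr_free {i : ℕ} (h1 : 1 ≤ i) (hi : i ≤ Γ.b) (hp : Even (Γ.b - i))
    (h : Γ.Tr true i) : Γ.Tr true (i + 1) := by
  obtain ⟨f, hf⟩ := Γ.exists_Crit
  obtain ⟨z, -, hzm, -, hfix⟩ := hf.mover
  refine Γ.tr_succ h1 h ⟨fun j => f (Γ.b - i + j), z, hf.1.drop (by omega), ?_,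
    fun j hj => hfix _ (by omega), ?_⟩
  · exact hf.side_even (by omega) (by simpa using hp)
  · simpa [show Γ.b - i + (i + 1) = Γ.b + 1 by omega] using hzm

theorem crit_of_tr (h : Γ.Tr true (Γ.b + 1)) {f : ℕ → V} (hf : Γ.Red (Γ.b + 1) f)
    (hs : Γ.side (f 0) = true) : Γ.Crit f := by
  obtain ⟨p, hp⟩ := Γ.exists_Crit
  obtain ⟨g, hg⟩ := h p f hp.1 hf hp.2.1 hs
  refine ⟨hf, hs, fun hle => hp.2.2 fun x hx => ?_⟩
  have h1 := hle (hg 0 (by omega) ▸ Γ.conj_za hx g)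
  rw [mem_stabilizer_iff, ← hg (Γ.b + 1) le_rfl, mul_smul, mul_smul, inv_smul_smul] at h1
  exact MulAction.injective g h1

/-- `za` is not contained in `zc` -/
theorem za_not_le {a c : V} (ha : Γ.side a = true) (h : Γ.Adj a c) : ¬ Γ.za a ≤ Γ.zc c := by
  intro hle
  obtain ⟨d, hd, hdc⟩ := Γ.exists_ne h
  obtain ⟨x, hx, hx1⟩ := Γ.exists_zc (Γ.side_c hd ha) (Γ.adj_symm hd)
  exact hx1 (Γ.zc_disjoint ha h hd hdc.symm (hle (Γ.zc_le_za hd hx)) hx)

end Deep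

end H79.GAm
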