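import Cfsg.Agent.H79.GAmalgam.Flat

/-! `b` is not an odd number greater than three. -/

set_option autoImplicit false
set_option linter.style.haveILetI false

namespace H79.GAm.Deep

open MulAction

variable {G : Type*} [Group G] {V : Type*} [MulAction G V] (Γ : Deep G V)

theorem exists_red (n : ℕ) (v : V) : ∃ f : ℕ → V, Γ.Red n f ∧ f 0 = v := by
  induction n with
  | zero => exact ⟨fun _ => v, ⟨fun i hi => by omega, fun i hi => by omega⟩, rfl⟩
  | succ n ih =>
    obtain ⟨f, hf, h0⟩ := ih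
    rcases Nat.eq_zero_or_pos n with rfl | hn
    · obtain ⟨x, hx⟩ := Γ.exists_adj (f 0)
      exact ⟨_, hf.snoc hx fun m hm => by omega, by simp [h0]⟩
    · obtain ⟨k, rfl⟩ : ∃ k, n = k + 1 := ⟨n - 1, by omega⟩
      obtain ⟨x, hx, hxn⟩ := Γ.exists_ne (hf.adj' (show k < k + 1 by omega))
      exact ⟨_, hf.snoc hx fun m hm => (show m = k by omega) ▸ hxn, by simp [h0]⟩

theorem tr_five (hb : 3 ≤ Γ.b) (ho : ¬ Even Γ.b) : Γ.Tr true 5 := by
  by_contra hn
  have h4 := Γ.tr_four hb ho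
  have h4' := Γ.tr_four_false hb
  have hA : ∀ f : ℕ → V, Γ.Red 4 f → Γ.side (f 0) = true → ∀ g : G,
      (∀ j ≤ 4, g • f j = f j) → g ∈ Γ.kn (f 4) :=
    fun f hf hs g hg => Γ.blocked (by omega) h4 hn hf hs hg
  -- walks starting on the other side are blocked backwards
  have hB : ∀ f : ℕ → V, Γ.Red 4 f → Γ.side (f 0) = false → ∀ g : G,
      (∀ j ≤ 4, g • f j = f j) → g ∈ Γ.kn (f 4) := by
    intro f hf hs g hg
    have h34 := hf.1 3 (by omega)
    by_contra hgk
    obtain ⟨x, hx, hxn⟩ := Γ.exists_ne (Γ.adj_symm h34)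
    have hgx := Γ.moves (Γ.adj_symm h34) hx hxn ⟨hg 4 le_rfl, hg 3 (by omega)⟩ hgk
    obtain ⟨y, hy, hyn⟩ := Γ.exists_ne (hf.1 0 (by omega))
    obtain ⟨y', hy', hyn', hyy⟩ := Γ.exists_third (hf.1 0 (by omega)) hy hyn.symm
    -- an element fixing `f 1, …, f 4` and moving `f 0`
    have hr : ∀ w, Γ.Adj (f 1) w → w ≠ f 2 →
        Γ.Red 4 (fun i => if i ≤ 3 then f (4 - i) else w) := by
      intro w hw hwn
      refine ((hf.rev).mono (m := 3) (by omega)).snoc hw fun m hm => ?_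
      obtain rfl : m = 2 := by omega
      exact hwn
    have h4side : Γ.side (f 4) = false := by
      have := hf.side (Nat.zero_le 4) le_rfl
      rw [hs] at this
      exact this.2 ⟨2, rfl⟩
    obtain ⟨z, hz, hzn0, hzn2⟩ :=
      Γ.exists_third (hf.adj' (show 0 < 4 by omega)) (hf.1 1 (by omega)) (hf.2 0 (by omega)).symm
    obtain ⟨m, hm⟩ := h4' _ _ (hr (f 0) (hf.adj' (by omega)) (hf.2 0 (by omega)).symm)
      (hr z hz hzn2) (by simpa using h4side) (by simpa using h4side)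
    have m0 : m • f 0 = z := by simpa using hm 4 le_rfl
    have m1 : m • f 1 = f 1 := by simpa using hm 3 (by omega)
    have m2 : m • f 2 = f 2 := by simpa using hm 2 (by omega)
    have m3 : m • f 3 = f 3 := by simpa using hm 1 (by omega)
    have m4 : m • f 4 = f 4 := by simpa using hm 0 (by omega)
    have hx5 : Γ.Red 4 (fun i => if i ≤ 3 then f (1 + i) else x) :=
      (hf.drop (k := 1) (m := 3) (by omega)).snoc hx fun m hm => (show m = 2 by omega) ▸ hxn
    have hs1 : Γ.side (f 1) = true := Γ.side_a (hf.1 0 (by omega)) hs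
    have back : ∀ h : G, (∀ j ≤ 4, h • (fun i => if i ≤ 3 then f (1 + i) else x) j =
        (fun i => if i ≤ 3 then f (1 + i) else x) j) → h • f 0 = f 0 := by
      intro h hh
      have := hA _ hx5.rev ?_ h fun j hj => hh (4 - j) (by omega)
      · exact Γ.smul_of_kn (by simpa using this) (hf.adj' (show 0 < 4 by omega))
      · have h5 := hx5.side (Nat.zero_le 4) le_rfl
        simp only [if_pos (show (0 : ℕ) ≤ 3 by omega), Nat.add_zero] at h5
        rw [hs1] at h5
        exact h5.2 ⟨2, rfl⟩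
    -- `m` moves `f 0`, so it moves `x`
    have hmx : m • x ≠ x := fun e => hzn0 (by
      rw [← m0]
      refine back m fun j hj => ?_
      rcases (show j = 0 ∨ j = 1 ∨ j = 2 ∨ j = 3 ∨ j = 4 by omega) with
        rfl | rfl | rfl | rfl | rfl <;> simp [m1, m2, m3, m4, e])
    have hmk : m ∉ Γ.kn (f 4) := fun e => hmx (Γ.smul_of_kn e hx)
    have hgm : g * m ∈ Γ.kn (f 4) :=
      Γ.mul_mem_kn (Γ.adj_symm h34) ⟨hg 4 le_rfl, hg 3 (by omega)⟩ hgk ⟨m4, m3⟩ hmk
    have := back (g * m) fun j hj => by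
      have e4 := Γ.smul_of_kn hgm hx
      rw [mul_smul] at e4
      rcases (show j = 0 ∨ j = 1 ∨ j = 2 ∨ j = 3 ∨ j = 4 by omega) with
        rfl | rfl | rfl | rfl | rfl <;>
        simp [mul_smul, m1, m2, m3, m4, hg 1 (by omega), hg 2 (by omega), hg 3 (by omega),
          hg 4 le_rfl, e4]
    rw [mul_smul, m0] at this
    exact hzn0 (MulAction.injective g (this.trans (hg 0 (by omega)).symm))
  have hall : ∀ f : ℕ → V, Γ.Red 4 f → ∀ g : G, (∀ j ≤ 4, g • f j = f j) →
      g ∈ Γ.kn (f 4) := by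
    intro f hf g hg
    cases hs : Γ.side (f 0) with
    | true => exact hA f hf hs g hg
    | false => exact hB f hf hs g hg
  obtain ⟨f, hf⟩ := Γ.exists_Crit
  have hc : Γ.side (f 1) = false := hf.side_odd (by omega) (by decide)
  refine (Γ.zel_spec hc).2 (Γ.inj _ fun v => ?_)
  obtain ⟨p, hp, rfl, hpf⟩ : ∃ p : ℕ → V, Γ.Red 4 p ∧ p 0 = v ∧
      ∀ j ≤ 4, Γ.zel (f 1) • p j = p j := by
    refine Γ.conn {v | ∃ p : ℕ → V, Γ.Red 4 p ∧ p 0 = v ∧ ∀ j ≤ 4, Γ.zel (f 1) • p j = p j}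
      ⟨f 0, f, hf.1.mono (by omega), rfl, fun j hj => ?_⟩ ?_ v
    · rcases Nat.eq_zero_or_pos j with rfl | hj0
      · exact Γ.zel_fix hc (n := 1) (by omega) (Γ.wk_one (hf.1.adj' (by omega)))
      · exact Γ.zel_fix hc (n := j - 1) (by omega) (hf.1.wk (i := 1) (by omega) (by omega))
    · rintro w ⟨p, hp, rfl, hpf⟩ x hx
      by_cases h1 : x = p 1
      · obtain ⟨y, hy, hyn⟩ := Γ.exists_ne (hp.adj' (show 3 < 4 by omega))
        refine ⟨fun i => if i ≤ 3 then p (1 + i) else y,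
          (hp.drop (k := 1) (m := 3) (by omega)).snoc hy
            fun m hm => (show m = 2 by omega) ▸ hyn, by simp [h1], fun j hj => ?_⟩
        rcases Nat.lt_or_ge j 4 with h | h
        · simpa [show j ≤ 3 by omega] using hpf (1 + j) (by omega)
        · obtain rfl : j = 4 := by omega
          simpa using Γ.smul_of_kn (hall p hp _ hpf) hy
      · have hk : Γ.zel (f 1) ∈ Γ.kn (p 0) := by
          simpa using hall _ hp.rev _ fun j hj => hpf (4 - j) (by omega)
        refine ⟨fun i => if i = 0 then x else p (i - 1), ⟨fun i hi => ?_, fun i hi => ?_⟩,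
          by simp, fun j hj => ?_⟩
        · rcases Nat.eq_zero_or_pos i with rfl | h
          · simpa using Γ.adj_symm hx
          · simpa [show i ≠ 0 by omega, show i - 1 + 1 = i by omega] using hp.1 (i - 1) (by omega)
        · rcases Nat.eq_zero_or_pos i with rfl | h
          · simpa using Ne.symm h1
          · simpa [show i ≠ 0 by omega, show i - 1 + 2 = i + 1 by omega]
              using hp.2 (i - 1) (by omega)
        · rcases Nat.eq_zero_or_pos j with rfl | h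
          · simpa using Γ.smul_of_kn hk hx
          · simpa [show j ≠ 0 by omega] using hpf (j - 1) (by omega)
  exact hpf 0 (by omega)

/-- the commutator of the ends of a critical walk -/
theorem comm_ends (K : Γ.K1) (ho : ¬ Even Γ.b) (hb : 5 ≤ Γ.b) {f : ℕ → V} (hf : Γ.Crit f)
    {z u : G} (hz : z ∈ Γ.za (f 0)) (hzm : z • f (Γ.b + 1) ≠ f (Γ.b + 1))
    (hu : u ∈ Γ.za (f (Γ.b + 1))) (ku : u ∉ Γ.zc (f Γ.b)) :
    z * u * z * u = Γ.zel (f (Γ.b - 2)) := by
  have hb3 : 3 ≤ Γ.b := by omega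
  obtain ⟨q, hq, hqf⟩ := Γ.shift_odd ho hb3 hf
  obtain ⟨g, hg, hgm, -, hgf⟩ := hq.mover
  rw [Nat.even_iff] at ho
  obtain ⟨k, hk⟩ : ∃ k, Γ.b = k + 2 := ⟨Γ.b - 2, by omega⟩
  simp only [show Γ.b - 2 = k by omega, show Γ.b + 1 = k + 3 by omega] at hzm hu ⊢
  rw [hk] at ku
  rw [show q (Γ.b + 1) = f (k + 1) by rw [← hqf (k + 1) (by omega)]; congr 1; omega] at hgm
  have hgk : g • f k = f k := by
    have := hgf Γ.b le_rfl
    rwa [show q Γ.b = f k by rw [← hqf k (by omega)]; congr 1] at this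
  have hzv : z • f (k + 2) = f (k + 2) :=
    Γ.za_fix hf.2.1 (n := k + 2) (by omega) (hf.1.wk (i := 0) (by omega) (by omega)) hz
  have hzp : z • f (k + 1) = f (k + 1) :=
    Γ.za_fix hf.2.1 (n := k + 1) (by omega) (hf.1.wk (i := 0) (by omega) (by omega)) hz
  have hr : Γ.side (f (k + 3)) = true := hf.side_even (by omega) (Nat.even_iff.2 (by omega))
  have hp : Γ.side (f (k + 1)) = true := hf.side_even (by omega) (Nat.even_iff.2 (by omega))
  have hpm : Γ.Adj (f (k + 1)) (f k) := hf.1.adj' (by omega)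
  have hpv := hf.1.1 (k + 1) (show k + 1 < Γ.b + 1 by omega)
  have hvp := Γ.adj_symm hpv
  have hvr := hf.1.1 (k + 2) (show k + 2 < Γ.b + 1 by omega)
  have hvr' := Γ.side_smul_adj hvr hzv
  have hcv := Γ.side_c hpv hp
  have hcm := Γ.side_c hpm hp
  have n1 : z • f (k + 3) ≠ f (k + 1) := fun e =>
    hf.1.2 (k + 1) (by omega) (MulAction.injective z (e.trans hzp.symm))
  have n3 : f (k + 3) ≠ f (k + 1) := hf.1.2 (k + 1) (by omega)
  have nvm : f (k + 2) ≠ f k := hf.1.2 k (by omega)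
  obtain ⟨hu', ku'⟩ := K.rep_conj hu ku z
  rw [hzv] at ku'
  set e := z * u * z * u with he
  have hee : e = z * u * z⁻¹ * u := by rw [he, Γ.za_inv hf.2.1 hz]
  have hY : Γ.IsY (f (k + 2)) (e * Γ.zel (f k)) := by
    refine ⟨_, _, _, hvr', hvr, hvp, hzm, n1, n3, z * u * z⁻¹, u, Γ.zel (f k), hu', ku', hu, ku,
      Γ.zel_za hp hpm, K.zel_not_mem hp hpv hpm nvm.symm, ?_⟩
    rw [hee]
  -- `g` centralises `e`
  have h1e : u • f 1 = f 1 :=
    Γ.za_fix hr (n := Γ.b) le_rfl (hf.1.wk' (i := 1) (by omega) (by omega)) hu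
  have hcomm : ∀ a, Γ.Adj (f 1) a → ∀ x ∈ Γ.za a, g * x = x * g := by
    intro a ha x hx
    have h31 : Γ.Wk 3 (q 0) (f 1) := by
      rw [← hqf 1 (by omega)]; exact hq.1.wk (by omega) (by omega)
    exact Γ.za_za hq.2.1 (Γ.side_a ha (hf.side_odd (by omega) (by decide))) (n := 3 + 1)
      (by omega) (Γ.wk_add h31 (Γ.wk_one ha)) hg hx
  have hge : g * e * g⁻¹ = e := by
    have e1 := hcomm (f 0) (hf.1.adj' (by omega)) z hz
    have e2 := hcomm (u • f 0) (Γ.side_smul_adj (hf.1.adj' (by omega)) h1e) _ (Γ.conj_za hz u)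
    have hee' : e = z * (u * z * u⁻¹) := by rw [he, Γ.za_inv hr hu]; group
    rw [hee', mul_inv_eq_iff_eq_mul, ← mul_assoc g, e1, mul_assoc, e2, ← mul_assoc]
  have hgy : g * (e * Γ.zel (f k)) * g⁻¹ = e * Γ.zel (f k) := by
    rw [show g * (e * Γ.zel (f k)) * g⁻¹ = g * e * g⁻¹ * (g * Γ.zel (f k) * g⁻¹) by group, hge,
      K.conj_zel hcm, hgk]
  have hflat : Γ.Flat := by
    have hY' := IsY.conj K hY g
    rw [hgy] at hY'
    exact flat_of_cousins K hb3 hp hpv hpm (Γ.side_smul_adj (Γ.adj_symm hpm) hgk)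
      (Γ.adj_smul hpv g) nvm (Ne.symm hgm)
      (fun e => nvm (MulAction.injective g (e.trans hgk.symm))) hY hY'
  have hep : e ∈ Γ.za (f (k + 1)) :=
    hee ▸ hflat _ _ _ _ hcv hvr' hvr hvp hzm n1 n3 _ hu' ku' u hu ku
  have hem : e ∈ Γ.zc (f k) := by
    refine Γ.za_inter hb3 hp (Γ.adj_symm hpm) (Γ.side_smul_adj (Γ.adj_symm hpm) hgk)
      (Ne.symm hgm) hep ?_
    have := Γ.conj_za hep g
    rwa [hge] at this
  refine K.eq_zel hcm hem fun e1 => ku (Γ.za_inter hb3 hr hvr hvr' (Ne.symm hzm) hu ?_)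
  rw [hee] at e1
  rw [eq_inv_of_mul_eq_one_right e1]
  exact inv_mem hu'

theorem no_seven (ho : ¬ Even Γ.b) (hb : 7 ≤ Γ.b) : False := by
  have hb3 : 3 ≤ Γ.b := by omega
  have K := Γ.k1_odd ho hb3
  obtain ⟨f, hf⟩ := Γ.exists_Crit
  obtain ⟨z, hz, hzm, -, -⟩ := hf.mover
  obtain ⟨q, hq, hqf⟩ := Γ.shift_odd ho hb3 hf
  obtain ⟨q', hq', hqf'⟩ := Γ.shift_odd ho hb3 hq
  obtain ⟨g, hg, hgm, -, hgf⟩ := hq'.mover
  have hr := hf.side_even (show Γ.b + 1 ≤ Γ.b + 1 from le_rfl) (by simpa [Nat.even_add_one] using ho)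
  obtain ⟨u, hu, ku⟩ := SetLike.not_le_iff_exists.1
    (Γ.za_not_le hr (hf.1.adj' (show Γ.b < Γ.b + 1 by omega)))
  have he := Γ.comm_ends K ho (by omega) hf hz hzm hu ku
  rw [Nat.even_iff] at ho
  obtain ⟨k, hk⟩ : ∃ k, Γ.b = k + 4 := ⟨Γ.b - 4, by omega⟩
  rw [show Γ.b - 2 = k + 2 by omega] at he
  have hqq : ∀ i, i + 4 ≤ Γ.b + 1 → q' (i + 4) = f i := fun i hi => by
    rw [← hqf i (by omega), ← hqf' (i + 2) (by omega)]
  rw [show q' (Γ.b + 1) = f (k + 1) by rw [← hqq (k + 1) (by omega)]; congr 1; omega] at hgm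
  have hgk : g • f k = f k := by
    have := hgf Γ.b le_rfl
    rwa [show q' Γ.b = f k by rw [← hqq k (by omega)]; congr 1] at this
  have hu1 : u • f 1 = f 1 :=
    Γ.za_fix hr (n := Γ.b) le_rfl (hf.1.wk' (i := 1) (by omega) (by omega)) hu
  have hcomm : ∀ a, Γ.Adj (f 1) a → ∀ x ∈ Γ.za a, g * x = x * g := by
    intro a ha x hx
    have h51 : Γ.Wk 5 (q' 0) (f 1) := by
      rw [← hqq 1 (by omega)]; exact hq'.1.wk (by omega) (by omega)
    exact Γ.za_za hq'.2.1 (Γ.side_a ha (hf.side_odd (by omega) (by decide))) (n := 5 + 1)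
      (by omega) (Γ.wk_add h51 (Γ.wk_one ha)) hg hx
  have hge : g * Γ.zel (f (k + 2)) * g⁻¹ = Γ.zel (f (k + 2)) := by
    have e1 := hcomm (f 0) (hf.1.adj' (by omega)) z hz
    have e2 := hcomm (u • f 0) (Γ.side_smul_adj (hf.1.adj' (by omega)) hu1) _ (Γ.conj_za hz u)
    have hee' : Γ.zel (f (k + 2)) = z * (u * z * u⁻¹) := by rw [← he, Γ.za_inv hr hu]; group
    rw [hee', mul_inv_eq_iff_eq_mul, ← mul_assoc g, e1, mul_assoc, e2, ← mul_assoc]
  have hp : Γ.side (f (k + 1)) = true := hf.side_even (by omega) (Nat.even_iff.2 (by omega))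
  have hpu := hf.1.1 (k + 1) (show k + 1 < Γ.b + 1 by omega)
  rw [K.conj_zel (Γ.side_c hpu hp)] at hge
  have hd := hf.1.1 k (show k < Γ.b + 1 by omega)
  exact Γ.zel_four (K := K) hb3 hp hpu (Γ.adj_symm hd) (Γ.side_smul_adj hd hgk)
    (Γ.adj_smul hpu g) (hf.1.2 k (by omega)) (Ne.symm hgm) hge.symm

theorem no_five (hb : Γ.b = 5) : False := by
  have ho : ¬ Even Γ.b := by rw [hb]; decide
  have hb3 : 3 ≤ Γ.b := by omega
  have K := Γ.k1_odd ho hb3
  have h6 : Γ.Tr true (Γ.b + 1) := Γ.tr_free (by omega) le_rfl (by simp)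
    (by rw [hb]; exact Γ.tr_five hb3 ho)
  -- the first vertex of a walk of length seven moves the last one
  have hmove : ∀ w : ℕ → V, Γ.Red 7 w → Γ.side (w 0) = false → Γ.zel (w 0) • w 7 ≠ w 7 := by
    intro w hw hs e
    have hA : Γ.side (w 1) = true := Γ.side_a (hw.1 0 (by omega)) hs
    have hcr : Γ.Crit (fun i => w (1 + i)) :=
      Γ.crit_of_tr h6 (hw.drop (by omega)) (by simpa using hA)
    refine hcr.2.2 fun x hx => ?_
    simp only [Nat.add_zero] at hx
    obtain ⟨d, hd, d0, d2⟩ := Γ.exists_third (hw.adj' (show 0 < 7 by omega)) (hw.1 1 (by omega))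
      (hw.2 0 (by omega)).symm
    have e2 : Γ.zel (w 2) • w 7 = w 7 := Γ.zel_fix (Γ.side_c (hw.1 1 (by omega)) hA) (n := 5)
      (by omega) (hw.wk (i := 2) (by omega) (by omega))
    simp only [mem_stabilizer_iff, show 1 + (Γ.b + 1) = 7 by omega]
    rcases K.mem_za hA (hw.adj' (show 0 < 7 by omega)) (hw.1 1 (by omega)) hd
      (hw.2 0 (by omega)).symm d0.symm d2.symm hx with h | h | h | h <;> rw [h]
    · exact one_smul G _
    · exact e
    · exact e2
    · rw [← K.zel_mul hA (hw.adj' (show 0 < 7 by omega)) (hw.1 1 (by omega)) hd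
        (hw.2 0 (by omega)).symm d0.symm d2.symm, mul_smul, e2, e]
  have rule : ∀ w : ℕ → V, Γ.Red 8 w → Γ.side (w 0) = false →
      Γ.zel (w 0) * Γ.zel (w 8) * Γ.zel (w 0) * Γ.zel (w 8) = Γ.zel (w 4) := by
    intro w hw hs
    have hA : Γ.side (w 1) = true := Γ.side_a (hw.1 0 (by omega)) hs
    have hA7 : Γ.side (w 7) = true := by
      have := hw.side (show 1 ≤ 7 by omega) (show 7 ≤ 8 by omega)
      rw [hA] at this
      exact this.2 ⟨3, rfl⟩
    have hnm : Γ.zel (w 8) ∉ Γ.zc (w 6) :=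
      K.zel_not_mem hA7 (hw.adj' (show 6 < 8 by omega)) (hw.1 7 (by omega)) (hw.2 6 (by omega))
    have := Γ.comm_ends K ho (by omega) (f := fun i => w (1 + i))
      (Γ.crit_of_tr h6 (hw.drop (by omega)) (by simpa using hA))
      (z := Γ.zel (w 0)) (u := Γ.zel (w 8))
      (Γ.zel_za hA (hw.adj' (show 0 < 8 by omega)))
      (by rw [hb]; exact hmove w (hw.mono (by omega)) hs)
      (by rw [hb]; exact Γ.zel_za hA7 (hw.1 7 (by omega)))
      (by rw [hb]; exact hnm)
    simp only [show 1 + (Γ.b - 2) = 4 by omega] at this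
    exact this
  obtain ⟨f, hf⟩ := Γ.exists_Crit
  obtain ⟨w, hw, hw0⟩ := Γ.exists_red 10 (f 1)
  have hs : ∀ i, i ≤ 10 → Even i → Γ.side (w i) = false := by
    intro i hi he
    have := hw.side (Nat.zero_le i) hi
    rw [hw0, hf.side_odd (by omega) (by decide), Nat.sub_zero] at this
    exact this.2 he
  set A := Γ.zel (w 0) with hAdef
  set U := Γ.zel (w 10) with hUdef
  have s0 := hs 0 (by omega) ⟨0, rfl⟩
  have s10 := hs 10 le_rfl ⟨5, rfl⟩
  have A7 : A • w 7 ≠ w 7 := hmove w (hw.mono (by omega)) s0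
  have U3 : U • w 3 ≠ w 3 := by
    have := hmove _ (hw.rev.mono (m := 7) (by omega)) (by simpa using s10)
    simpa using this
  have A6 : A • w 6 = w 6 := Γ.zel_fix s0 (n := 6) (by omega) (hw.wk (i := 0) (by omega) (by omega))
  have U4 : U • w 4 = w 4 :=
    Γ.zel_fix s10 (n := 6) (by omega) (hw.wk' (i := 4) (by omega) (by omega))
  -- the two walks of length eight
  have r1 : Γ.Red 8 (fun i => if i ≤ 4 then A • w (10 - i) else w (2 + i)) := by
    constructor
    · intro i hi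
      rcases Nat.lt_or_ge i 4 with h | h
      · simpa [show i ≤ 4 by omega, show i + 1 ≤ 4 by omega] using (hw.rev.smul A).1 i (by omega)
      · rcases Nat.eq_or_lt_of_le h with rfl | h'
        · simpa [A6] using hw.1 6 (by omega)
        · simpa [show ¬ i ≤ 4 by omega, show ¬ i + 1 ≤ 4 by omega,
            show 2 + i + 1 = 2 + (i + 1) by omega] using hw.1 (2 + i) (by omega)
    · intro i hi
      rcases Nat.lt_or_ge i 3 with h | h
      · simpa [show i ≤ 4 by omega, show i + 2 ≤ 4 by omega] using (hw.rev.smul A).2 i (by omega)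
      · rcases (show i = 3 ∨ i = 4 ∨ 4 < i by omega) with rfl | rfl | h'
        · simpa using A7.symm
        · simpa [A6] using hw.2 6 (by omega)
        · simpa [show ¬ i ≤ 4 by omega, show ¬ i + 2 ≤ 4 by omega,
            show 2 + (i + 2) = 2 + i + 2 by omega] using hw.2 (2 + i) (by omega)
  have r2 : Γ.Red 8 (fun i => if i ≤ 4 then U • w i else w (8 - i)) := by
    constructor
    · intro i hi
      rcases Nat.lt_or_ge i 4 with h | h
      · simpa [show i ≤ 4 by omega, show i + 1 ≤ 4 by omega] using (hw.smul U).1 i (by omega)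
      · rcases Nat.eq_or_lt_of_le h with rfl | h'
        · simpa [U4] using hw.adj' (show 3 < 10 by omega)
        · simpa [show ¬ i ≤ 4 by omega, show ¬ i + 1 ≤ 4 by omega,
            show 8 - i = 8 - (i + 1) + 1 by omega] using hw.adj' (show 8 - (i + 1) < 10 by omega)
    · intro i hi
      rcases Nat.lt_or_ge i 3 with h | h
      · simpa [show i ≤ 4 by omega, show i + 2 ≤ 4 by omega] using (hw.smul U).2 i (by omega)
      · rcases (show i = 3 ∨ i = 4 ∨ 4 < i by omega) with rfl | rfl | h'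
        · simpa using U3.symm
        · simpa [U4] using (hw.2 2 (by omega)).symm
        · simpa [show ¬ i ≤ 4 by omega, show ¬ i + 2 ≤ 4 by omega,
            show 8 - i = 8 - (i + 2) + 2 by omega] using (hw.2 (8 - (i + 2)) (by omega)).symm
  have e1 := rule _ r1 (by simpa [Γ.side_smul] using s10)
  have e2 := rule _ r2 (by simpa [Γ.side_smul] using s0)
  norm_num at e1 e2
  rw [← K.conj_zel s10] at e1
  rw [← K.conj_zel s0] at e2
  rw [A6] at e1
  rw [U4] at e2
  simp only [hAdef, hUdef, Γ.zel_inv s0, Γ.zel_inv s10] at e1 e2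
  have h5 : Γ.side (w 5) = true := Γ.side_a (hw.1 4 (by omega)) (hs 4 (by omega) ⟨2, rfl⟩)
  refine Γ.zel_ne h5 (hw.adj' (show 4 < 10 by omega)) (hw.1 5 (by omega)) (hw.2 4 (by omega)).symm ?_
  have hi := congrArg (·⁻¹) e1
  simp only [mul_inv_rev, Γ.zel_inv s10, Γ.zel_inv s0, Γ.zel_inv (hs 6 (by omega) ⟨3, rfl⟩),
    mul_assoc] at hi
  rw [← e2, ← hi]
  simp only [mul_assoc]

end H79.GAm.Deep
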