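import Cfsg.Agent.H79.GAmalgam.Shift

/-!
The module spanned by the three `za` around `c` modulo `zc c`: when it has order four we call
the amalgam flat. Two criteria for flatness.
-/

set_option autoImplicit false
set_option linter.style.haveILetI false
set_option linter.unusedSectionVars false

namespace H79.GAm.Deep

open MulAction

variable {G : Type*} [Group G] {V : Type*} [MulAction G V] (Γ : Deep G V)

/-- the three `za` around a vertex span a group of order eight -/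
def Flat : Prop :=
  ∀ c a a' a'', Γ.side c = false → Γ.Adj c a → Γ.Adj c a' → Γ.Adj c a'' →
    a ≠ a' → a ≠ a'' → a' ≠ a'' →
    ∀ u ∈ Γ.za a, u ∉ Γ.zc c → ∀ u' ∈ Γ.za a', u' ∉ Γ.zc c → u * u' ∈ Γ.za a''

/-- product of representatives at the three neighbours, in a given order -/
def Py (c a a' a'' : V) (y : G) : Prop :=
  ∃ u u' u'', u ∈ Γ.za a ∧ u ∉ Γ.zc c ∧ u' ∈ Γ.za a' ∧ u' ∉ Γ.zc c ∧ u'' ∈ Γ.za a'' ∧
    u'' ∉ Γ.zc c ∧ y = u * u' * u''

/-- product of representatives at the three neighbours -/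
def IsY (c : V) (y : G) : Prop :=
  ∃ a a' a'', Γ.Adj c a ∧ Γ.Adj c a' ∧ Γ.Adj c a'' ∧ a ≠ a' ∧ a ≠ a'' ∧ a' ≠ a'' ∧
    Γ.Py c a a' a'' y

variable {Γ} (K : Γ.K1) (hb : 3 ≤ Γ.b)

include K

theorem K1.zel_not_mem {a c d : V} (ha : Γ.side a = true) (h : Γ.Adj a c) (hd : Γ.Adj a d)
    (hne : d ≠ c) : Γ.zel d ∉ Γ.zc c := fun e =>
  (Γ.zel_spec (Γ.side_c hd ha)).2 (Γ.zc_disjoint ha hd h hne (Γ.zel_mem (Γ.side_c hd ha)) e)

theorem K1.rep_mul {a c : V} (ha : Γ.side a = true) (h : Γ.Adj a c) {u v : G} (hu : u ∈ Γ.za a)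
    (hu' : u ∉ Γ.zc c) (hv : v ∈ Γ.za a) (hv' : v ∉ Γ.zc c) : u * v ∈ Γ.zc c := by
  obtain ⟨c1, c2, h1, h2, n1, n2, n3⟩ := Γ.third h
  have hc := Γ.side_c h ha
  have m := K.zel_mul ha h1 h2 h n3 n1 n2
  have m' := K.zel_mul ha h2 h1 h n3.symm n2 n1
  rcases K.mem_za ha h h1 h2 n1.symm n2.symm n3 hu with e | e | e | e <;>
    rcases K.mem_za ha h h1 h2 n1.symm n2.symm n3 hv with e' | e' | e' | e' <;>
    subst e <;> subst e' <;>
    first
      | exact absurd (one_mem _) hu'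
      | exact absurd (Γ.zel_mem hc) hu'
      | exact absurd (one_mem _) hv'
      | exact absurd (Γ.zel_mem hc) hv'
      | (rw [Γ.za_sq ha hu]; exact one_mem _)
      | (rw [m]; exact Γ.zel_mem hc)
      | (rw [m']; exact Γ.zel_mem hc)

theorem K1.rep_conj {a c : V} {u : G} (hu : u ∈ Γ.za a) (hu' : u ∉ Γ.zc c) (g : G) :
    g * u * g⁻¹ ∈ Γ.za (g • a) ∧ g * u * g⁻¹ ∉ Γ.zc (g • c) := by
  refine ⟨Γ.conj_za hu g, fun e => hu' ?_⟩
  have := Γ.conj_zc e g⁻¹
  rw [inv_smul_smul] at this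
  simpa [mul_assoc] using this

include hb

omit K in
theorem za_comm_around {c a a' : V} (hc : Γ.side c = false) (h : Γ.Adj c a) (h' : Γ.Adj c a')
    {x y : G} (hx : x ∈ Γ.za a) (hy : y ∈ Γ.za a') : x * y = y * x :=
  Γ.za_za (Γ.side_a h hc) (Γ.side_a h' hc) (n := 2) (by omega) (Γ.wk_two (Γ.adj_symm h) h') hx hy

omit K in
theorem vc_comm {c : V} (hc : Γ.side c = false) {x y : G} (hx : x ∈ Γ.vc c) (hy : y ∈ Γ.vc c) :
    x * y = y * x := by
  have h1 : Γ.vc c ≤ Subgroup.centralizer (Γ.vc c : Set G) := by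
    refine iSup₂_le fun a ha => Subgroup.le_centralizer_iff.2 (iSup₂_le fun a' ha' y hy => ?_)
    rw [Subgroup.mem_centralizer_iff]
    exact fun x hx => za_comm_around hb hc ha ha' hx hy
  exact (Subgroup.mem_centralizer_iff.1 (h1 hx) y hy).symm

omit K in
theorem Py.swap12 {c a a' a'' : V} {y : G} (hc : Γ.side c = false) (h : Γ.Adj c a)
    (h' : Γ.Adj c a') (p : Γ.Py c a a' a'' y) : Γ.Py c a' a a'' y := by
  obtain ⟨u, u', u'', hu, hu', hv, hv', hw, hw', rfl⟩ := p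
  exact ⟨u', u, u'', hv, hv', hu, hu', hw, hw', by rw [za_comm_around hb hc h h' hu hv]⟩

omit K in
theorem Py.swap23 {c a a' a'' : V} {y : G} (hc : Γ.side c = false) (h' : Γ.Adj c a')
    (h'' : Γ.Adj c a'') (p : Γ.Py c a a' a'' y) : Γ.Py c a a'' a' y := by
  obtain ⟨u, u', u'', hu, hu', hv, hv', hw, hw', rfl⟩ := p
  exact ⟨u, u'', u', hu, hu', hw, hw', hv, hv', by
    rw [mul_assoc, za_comm_around hb hc h' h'' hv hw, ← mul_assoc]⟩

omit K in
theorem IsY.order {c a a' a'' : V} {y : G} (hc : Γ.side c = false) (p : Γ.IsY c y)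
    (h : Γ.Adj c a) (h' : Γ.Adj c a') (h'' : Γ.Adj c a'') (n1 : a ≠ a') (n2 : a ≠ a'')
    (n3 : a' ≠ a'') : Γ.Py c a a' a'' y := by
  obtain ⟨x, x', x'', g, g', g'', m1, m2, m3, p⟩ := p
  rcases Γ.three g g' g'' h m1 m2 m3 with rfl | rfl | rfl <;>
    rcases Γ.three g g' g'' h' m1 m2 m3 with rfl | rfl | rfl <;>
    rcases Γ.three g g' g'' h'' m1 m2 m3 with rfl | rfl | rfl <;>
    first
      | exact absurd rfl n1
      | exact absurd rfl n2
      | exact absurd rfl n3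
      | exact p
      | exact p.swap12 hb hc g g'
      | exact p.swap23 hb hc g' g''
      | exact (p.swap12 hb hc g g').swap23 hb hc g g''
      | exact (p.swap23 hb hc g' g'').swap12 hb hc g g''
      | exact ((p.swap12 hb hc g g').swap23 hb hc g g'').swap12 hb hc g' g''

omit K hb in
theorem IsY.mem_vc {c : V} {y : G} (p : Γ.IsY c y) : y ∈ Γ.vc c := by
  obtain ⟨a, a', a'', h, h', h'', -, -, -, u, u', u'', hu, -, hu', -, hu'', -, rfl⟩ := p
  exact mul_mem (mul_mem (Γ.za_le_vc h hu) (Γ.za_le_vc h' hu')) (Γ.za_le_vc h'' hu'')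

omit K in
theorem IsY.sq {c : V} {y : G} (hc : Γ.side c = false) (p : Γ.IsY c y) : y * y = 1 := by
  obtain ⟨a, a', a'', h, h', h'', -, -, -, u, u', u'', hu, -, hu', -, hu'', -, rfl⟩ := p
  have c1 : Commute (u * u') u'' := vc_comm hb hc (mul_mem (Γ.za_le_vc h hu) (Γ.za_le_vc h' hu'))
    (Γ.za_le_vc h'' hu'')
  have c2 : Commute u u' := za_comm_around hb hc h h' hu hu'
  rw [Commute.mul_mul_mul_comm c1.symm, Commute.mul_mul_mul_comm c2.symm,
    Γ.za_sq (Γ.side_a h hc) hu, Γ.za_sq (Γ.side_a h' hc) hu', Γ.za_sq (Γ.side_a h'' hc) hu'',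
    mul_one, mul_one]

omit hb in
theorem IsY.conj {c : V} {y : G} (p : Γ.IsY c y) (g : G) : Γ.IsY (g • c) (g * y * g⁻¹) := by
  obtain ⟨a, a', a'', h, h', h'', n1, n2, n3, u, u', u'', hu, ku, hu', ku', hu'', ku'', rfl⟩ := p
  refine ⟨g • a, g • a', g • a'', Γ.adj_smul h g, Γ.adj_smul h' g, Γ.adj_smul h'' g,
    fun e => n1 (MulAction.injective g e), fun e => n2 (MulAction.injective g e),
    fun e => n3 (MulAction.injective g e), g * u * g⁻¹, g * u' * g⁻¹, g * u'' * g⁻¹,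
    (K.rep_conj hu ku g).1, (K.rep_conj hu ku g).2, (K.rep_conj hu' ku' g).1,
    (K.rep_conj hu' ku' g).2, (K.rep_conj hu'' ku'' g).1, (K.rep_conj hu'' ku'' g).2, ?_⟩
  group

omit hb in
theorem IsY.mul_zel {c : V} {y : G} (hc : Γ.side c = false) (p : Γ.IsY c y) :
    Γ.IsY c (y * Γ.zel c) := by
  obtain ⟨a, a', a'', h, h', h'', n1, n2, n3, u, u', u'', hu, ku, hu', ku', hu'', ku'', rfl⟩ := p
  refine ⟨a, a', a'', h, h', h'', n1, n2, n3, u, u', u'' * Γ.zel c, hu, ku, hu', ku',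
    mul_mem hu'' (Γ.zel_za (Γ.side_a h'' hc) (Γ.adj_symm h'')), fun e => ku'' ?_,
    by simp [mul_assoc]⟩
  simpa [mul_assoc, Γ.zel_sq hc] using mul_mem e (Γ.zel_mem hc)

theorem IsY.diff {c : V} {y y' : G} (hc : Γ.side c = false) (p : Γ.IsY c y) (p' : Γ.IsY c y') :
    y * y' ∈ Γ.zc c := by
  obtain ⟨a, a', a'', h, h', h'', n1, n2, n3, q⟩ := p
  obtain ⟨v, v', v'', hv, kv, hv', kv', hv'', kv'', rfl⟩ := p'.order hb hc h h' h'' n1 n2 n3
  obtain ⟨u, u', u'', hu, ku, hu', ku', hu'', ku'', rfl⟩ := q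
  have c1 : Commute u'' (v * v') := vc_comm hb hc (Γ.za_le_vc h'' hu'')
    (mul_mem (Γ.za_le_vc h hv) (Γ.za_le_vc h' hv'))
  have c2 : Commute u' v := za_comm_around hb hc h' h hu' hv
  rw [Commute.mul_mul_mul_comm c1, Commute.mul_mul_mul_comm c2]
  exact mul_mem (mul_mem (K.rep_mul (Γ.side_a h hc) (Γ.adj_symm h) hu ku hv kv)
    (K.rep_mul (Γ.side_a h' hc) (Γ.adj_symm h') hu' ku' hv' kv'))
    (K.rep_mul (Γ.side_a h'' hc) (Γ.adj_symm h'') hu'' ku'' hv'' kv'')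

theorem IsY.cases {c : V} {y y' : G} (hc : Γ.side c = false) (p : Γ.IsY c y) (p' : Γ.IsY c y') :
    y' = y ∨ y' = y * Γ.zel c := by
  rcases K.or_zel hc (IsY.diff K hb hc p p') with e | e
  · left
    rw [← inv_eq_of_mul_eq_one_right e, inv_eq_of_mul_eq_one_right (p.sq hb hc)]
  · right
    rw [← e, ← mul_assoc, p.sq hb hc, one_mul]

omit hb in
/-- one instance of flatness gives all -/
theorem flat_of {c a a' a'' : V} (hc : Γ.side c = false) (h : Γ.Adj c a) (h' : Γ.Adj c a')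
    (h'' : Γ.Adj c a'') (n1 : a ≠ a') (n2 : a ≠ a'') (n3 : a' ≠ a'') {u u' : G}
    (hu : u ∈ Γ.za a) (ku : u ∉ Γ.zc c) (hu' : u' ∈ Γ.za a') (ku' : u' ∉ Γ.zc c)
    (he : u * u' ∈ Γ.za a'') : Γ.Flat := by
  intro C A A' A'' hC H H' H'' N1 N2 N3 v hv kv v' hv' kv'
  obtain ⟨g, hg⟩ := Γ.tr_two true
    (fun i => if i = 0 then a else if i = 1 then c else a')
    (fun i => if i = 0 then A else if i = 1 then C else A')
    ⟨fun i hi => by
      rcases (show i = 0 ∨ i = 1 by omega) with rfl | rfl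
      · simpa using Γ.adj_symm h
      · simpa using h', fun i hi => by
      obtain rfl : i = 0 := (by omega)
      simpa using n1.symm⟩
    ⟨fun i hi => by
      rcases (show i = 0 ∨ i = 1 by omega) with rfl | rfl
      · simpa using Γ.adj_symm H
      · simpa using H', fun i hi => by
      obtain rfl : i = 0 := (by omega)
      simpa using N1.symm⟩
    (by simpa using Γ.side_a h hc) (by simpa using Γ.side_a H hC)
  have g0 : g • a = A := by simpa using hg 0 (by omega)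
  have g1 : g • c = C := by simpa using hg 1 (by omega)
  have g2 : g • a' = A' := by simpa using hg 2 le_rfl
  have g3 : g • a'' = A'' := by
    have hg' : Γ.Adj C (g • a'') := g1 ▸ Γ.adj_smul h'' g
    rcases Γ.three H H' H'' hg' N1 N2 N3 with e | e | e
    · exact absurd (MulAction.injective g (e.trans g0.symm)) n2.symm
    · exact absurd (MulAction.injective g (e.trans g2.symm)) n3.symm
    · exact e
  obtain ⟨w1, w2⟩ := K.rep_conj hu ku g
  obtain ⟨w1', w2'⟩ := K.rep_conj hu' ku' g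
  rw [g0] at w1
  rw [g2] at w1'
  rw [g1] at w2 w2'
  have hzle : Γ.zc C ≤ Γ.za A'' := Γ.zc_le_za (Γ.adj_symm H'')
  have d := hzle (K.rep_mul (Γ.side_a H hC) (Γ.adj_symm H) hv kv w1 w2)
  have d' := hzle (K.rep_mul (Γ.side_a H' hC) (Γ.adj_symm H') w1' w2' hv' kv')
  have hm : g * u * g⁻¹ * (g * u' * g⁻¹) ∈ Γ.za A'' := by
    rw [show g * u * g⁻¹ * (g * u' * g⁻¹) = g * (u * u') * g⁻¹ by group, ← g3]
    exact Γ.conj_za he g
  have := mul_mem (mul_mem d hm) d'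
  have e : v * (g * u * g⁻¹) * (g * u * g⁻¹ * (g * u' * g⁻¹)) * (g * u' * g⁻¹ * v') = v * v' := by
    calc v * (g * u * g⁻¹) * (g * u * g⁻¹ * (g * u' * g⁻¹)) * (g * u' * g⁻¹ * v')
        = v * (g * (u * u) * (u' * u') * g⁻¹) * v' := by group
      _ = v * v' := by
        rw [Γ.za_sq (Γ.side_a h hc) hu, Γ.za_sq (Γ.side_a h' hc) hu', mul_one, mul_one,
          mul_inv_cancel, mul_one]
  rwa [e] at this

theorem flat_of_mem {c a : V} (hc : Γ.side c = false) (h : Γ.Adj c a) {y : G} (p : Γ.IsY c y)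
    (hy : y ∈ Γ.za a) : Γ.Flat := by
  obtain ⟨a', a'', h', h'', n1, n2, n3⟩ := Γ.third h
  obtain ⟨u, u', u'', hu, ku, hu', ku', hu'', -, rfl⟩ :=
    p.order hb hc h' h'' h n3 n1 n2
  refine flat_of K hc h' h'' h n3 n1 n2 hu ku hu' ku' ?_
  simpa using mul_mem hy (inv_mem hu'')

/-- siblings cannot share an element -/
theorem flat_of_siblings {a c c' : V} (ha : Γ.side a = true) (h : Γ.Adj a c) (h' : Γ.Adj a c')
    (hne : c ≠ c') {y : G} (p : Γ.IsY c y) (p' : Γ.IsY c' y) : Γ.Flat := by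
  have hc := Γ.side_c h ha
  have hc' := Γ.side_c h' ha
  obtain ⟨c'', h'', n1, n2⟩ := Γ.exists_third h h' hne
  have hye : y ∈ edg G a c := Γ.vc_le_edg (by omega) ha h p.mem_vc
  have hye' : y ∈ edg G c a := ⟨hye.2, hye.1⟩
  have hq : ∀ q ∈ Γ.kn a, q * y = y * q := by
    intro q hq
    have e1 := IsY.conj K p q
    have e2 := IsY.conj K p' q
    rw [Γ.smul_of_kn hq h] at e1
    rw [Γ.smul_of_kn hq h'] at e2
    have := Γ.zc_disjoint ha h h' hne (IsY.diff K hb hc p e1) (IsY.diff K hb hc' p' e2)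
    rw [mul_eq_one_iff_inv_eq, inv_eq_of_mul_eq_one_right (p.sq hb hc)] at this
    exact mul_inv_eq_iff_eq_mul.1 this.symm
  obtain ⟨t, ht, htk⟩ := Γ.exists_swap h
  have hst := Γ.smul_other h h' h'' hne n1.symm n2.symm ht.1 ht.2 (Γ.moves h h' hne.symm ht htk)
  have cent : ∀ w : G, w ∈ edg G c a → w * w = 1 → (∀ q ∈ Γ.kn a, q * w = w * q) →
      t * w = w * t → w ∈ Γ.zc c := by
    intro w hw hw2 hwq hwt
    refine Γ.mem_zc hc (Γ.adj_symm h) hw hw2 fun s hs => ?_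
    rcases Γ.mem_or h ht htk (⟨hs.2, hs.1⟩ : s ∈ edg G a c) with h1 | h1
    · exact hwq s h1
    · have h2 := hwq _ h1
      rw [mul_assoc, hwt, ← mul_assoc, ← mul_assoc] at h2
      exact mul_right_cancel h2
  have et := IsY.conj K p t
  rw [show t • c = c from ht.2] at et
  rcases IsY.cases K hb hc p et with e | e
  · refine flat_of_mem K hb hc (Γ.adj_symm h) p (Γ.zc_le_za h ?_)
    exact cent y hye' (p.sq hb hc) hq (mul_inv_eq_iff_eq_mul.1 e)
  · set y' := y * Γ.zel c' with hy'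
    have hz : Γ.zel c' ∈ Γ.za a := Γ.zel_za ha h'
    have hyz : y * Γ.zel c' = Γ.zel c' * y :=
      vc_comm hb hc p.mem_vc (Γ.za_le_vc (Γ.adj_symm h) hz)
    have hy'2 : y' * y' = 1 := by
      calc y' * y' = y * (Γ.zel c' * y) * Γ.zel c' := by rw [hy']; group
        _ = y * y * (Γ.zel c' * Γ.zel c') := by rw [← hyz]; group
        _ = 1 := by rw [p.sq hb hc, Γ.zel_sq hc', mul_one]
    have hy'q : ∀ q ∈ Γ.kn a, q * y' = y' * q := fun q hq' => by
      rw [hy', ← mul_assoc, hq q hq', mul_assoc, Γ.za_comm ha hz hq', ← mul_assoc]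
    have hm : Γ.zel c * Γ.zel c'' = Γ.zel c' := K.zel_mul ha h h'' h' n1.symm hne n2
    have hy't : t * y' = y' * t := by
      refine mul_inv_eq_iff_eq_mul.1 ?_
      calc t * y' * t⁻¹ = t * y * t⁻¹ * (t * Γ.zel c' * t⁻¹) := by rw [hy']; group
        _ = y * (Γ.zel c * Γ.zel c'') := by rw [e, K.conj_zel hc', hst.1]; group
        _ = y' := by rw [hm]
    have hy'c := cent y' (mul_mem hye' (by
      have := Γ.za_le_edg ha h hz
      exact ⟨this.2, this.1⟩)) hy'2 hy'q hy't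
    refine flat_of_mem K hb hc (Γ.adj_symm h) p ?_
    have : y = y' * Γ.zel c' := by rw [hy', mul_assoc, Γ.zel_sq hc', mul_one]
    rw [this]
    exact mul_mem (Γ.zc_le_za h hy'c) hz

/-- cousins cannot share an element -/
theorem flat_of_cousins {v p m p' w : V} (hp : Γ.side p = true) (hv : Γ.Adj p v)
    (hm : Γ.Adj p m) (hm' : Γ.Adj m p') (hw : Γ.Adj p' w) (nv : v ≠ m) (np : p ≠ p')
    (nw : w ≠ m) {y : G} (yv : Γ.IsY v y) (yw : Γ.IsY w y) : Γ.Flat := by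
  by_contra hnf
  have hcm := Γ.side_c hm hp
  have hp' := Γ.side_a hm' hcm
  obtain ⟨p'', hp'', q1, q2⟩ := Γ.exists_third (Γ.adj_symm hm) hm' np
  have hA'' := Γ.side_a hp'' hcm
  obtain ⟨d, d', hd, hd', r1, r2, r3⟩ := Γ.third (Γ.adj_symm hp'')
  have hcv := Γ.side_c hv hp
  have hcw := Γ.side_c hw hp'
  have share : ∀ {a : V}, Γ.Adj m a → p'' ≠ a → ∀ {x : V}, Γ.Adj a x → x ≠ m → ∀ {e : V},
      Γ.Adj p'' e → e ≠ m → ∃ y', Γ.IsY x y' ∧ Γ.IsY e y' := by
    intro a ha hne x hx hxm e he hem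
    obtain ⟨g, hg⟩ := Γ.tr_four_false hb
      (fun i => if i = 0 then v else if i = 1 then p else if i = 2 then m else if i = 3 then p' else w)
      (fun i => if i = 0 then x else if i = 1 then a else if i = 2 then m else if i = 3 then p'' else e)
      ⟨fun i hi => by
        rcases (show i = 0 ∨ i = 1 ∨ i = 2 ∨ i = 3 by omega) with rfl | rfl | rfl | rfl <;>
          simp [hm, hm', hw, Γ.adj_symm hv], fun i hi => by
        rcases (show i = 0 ∨ i = 1 ∨ i = 2 by omega) with rfl | rfl | rfl <;>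
          simp [nv.symm, np.symm, nw]⟩
      ⟨fun i hi => by
        rcases (show i = 0 ∨ i = 1 ∨ i = 2 ∨ i = 3 by omega) with rfl | rfl | rfl | rfl <;>
          simp [Γ.adj_symm ha, hp'', he, Γ.adj_symm hx], fun i hi => by
        rcases (show i = 0 ∨ i = 1 ∨ i = 2 by omega) with rfl | rfl | rfl <;>
          simp [hxm.symm, hne, hem]⟩
      (by simpa using hcv) (by simpa using Γ.side_c hx (Γ.side_a ha hcm))
    have g0 : g • v = x := by simpa using hg 0 (by omega)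
    have g4 : g • w = e := by simpa using hg 4 le_rfl
    exact ⟨g * y * g⁻¹, g0 ▸ IsY.conj K yv g, g4 ▸ IsY.conj K yw g⟩
  obtain ⟨y1, h1v, h1d⟩ := share (Γ.adj_symm hm) q1 hv nv hd r1
  obtain ⟨y2, h2v, h2d⟩ := share (Γ.adj_symm hm) q1 hv nv hd' r2
  have ne12 : y1 ≠ y2 := fun e => hnf (flat_of_siblings K hb hA'' hd hd' r3 h1d (e ▸ h2d))
  obtain ⟨e, he, hem, ye⟩ : ∃ e, Γ.Adj p'' e ∧ e ≠ m ∧ Γ.IsY e (y * Γ.zel v) := by
    rcases IsY.cases K hb hcv yv h1v with e1 | e1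
    · rcases IsY.cases K hb hcv yv h2v with e2 | e2
      · exact absurd (e1.trans e2.symm) ne12
      · exact ⟨d', hd', r2, e2 ▸ h2d⟩
    · exact ⟨d, hd, r1, e1 ▸ h1d⟩
  obtain ⟨y3, h3w, h3e⟩ := share hm' q2 hw nw he hem
  have hce := Γ.side_c he hA''
  have four : Γ.zel v ≠ Γ.zel w :=
    Γ.zel_four (K := K) hb hp hv hm hm' hw nv np
  have four' : Γ.zel v ≠ Γ.zel e :=
    Γ.zel_four (K := K) hb hp hv hm hp'' he nv q1.symm
  have zv1 := (Γ.zel_spec hcv).2
  rcases IsY.cases K hb hcw yw h3w with e1 | e1 <;>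
    rcases IsY.cases K hb hce ye h3e with e2 | e2 <;> rw [e1] at e2
  · exact zv1 (left_eq_mul.1 e2)
  · rw [mul_assoc] at e2
    refine four' ?_
    rw [mul_eq_one_iff_eq_inv.1 (left_eq_mul.1 e2), Γ.zel_inv hce]
  · exact four (mul_left_cancel e2).symm
  · rw [mul_assoc] at e2
    have e3 : Γ.zel v * Γ.zel w = Γ.zel e := by
      rw [mul_left_cancel e2, ← mul_assoc, Γ.zel_sq hcv, one_mul]
    exact hnf (flat_of K hcm (Γ.adj_symm hm) hm' hp'' np q1.symm q2.symm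
      (Γ.zel_za hp hv) (K.zel_not_mem hp hm hv nv) (Γ.zel_za hp' hw)
      (K.zel_not_mem hp' (Γ.adj_symm hm') hw nw) (e3 ▸ Γ.zel_za hA'' he))

end H79.GAm.Deep
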