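import Cfsg.Agent.H79.GAmalgam.Five

/-! `b = 3`: the commutator identity on walks of length six. -/

set_option autoImplicit false
set_option linter.style.haveILetI false

namespace H79.GAm.Deep

open MulAction

variable {G : Type*} [Group G] {V : Type*} [MulAction G V]

/-- put a vertex in front of a walk -/
def pre (x : V) (f : ℕ → V) : ℕ → V
  | 0 => x
  | i + 1 => f i

variable (Γ : Deep G V)

theorem red_pre {n : ℕ} {f : ℕ → V} (hf : Γ.Red n f) {x : V} (h : Γ.Adj x (f 0))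
    (hne : x ≠ f 1) : Γ.Red (n + 1) (pre x f) := by
  constructor
  · intro i hi
    match i with
    | 0 => exact h
    | j + 1 => exact hf.1 j (by omega)
  · intro i hi
    match i with
    | 0 => exact hne.symm
    | j + 1 => exact hf.2 j (by omega)

/-- the facts available when `b = 3` -/
structure Good : Prop where
  b_eq : Γ.b = 3
  k1 : Γ.K1

theorem good_of (hb : Γ.b = 3) : Γ.Good :=
  ⟨hb, Γ.k1_odd (by rw [hb]; decide) (by omega)⟩

variable {Γ} (H : Γ.Good)

include H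

theorem Good.le : 3 ≤ Γ.b := H.b_eq.ge

/-- the first vertex of a walk of length five moves the last one -/
theorem Good.move {w : ℕ → V} (hw : Γ.Red 5 w) (hs : Γ.side (w 0) = false) :
    Γ.zel (w 0) • w 5 ≠ w 5 := by
  intro e
  have hb := H.b_eq
  have K := H.k1
  have hA : Γ.side (w 1) = true := Γ.side_a (hw.1 0 (by omega)) hs
  have h4 : Γ.Tr true (Γ.b + 1) := by
    rw [hb]; exact Γ.tr_four H.le (by rw [hb]; decide)
  have hcr : Γ.Crit (fun i => w (1 + i)) :=
    Γ.crit_of_tr h4 (hw.drop (by omega)) (by simpa using hA)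
  refine hcr.2.2 fun x hx => ?_
  simp only [Nat.add_zero] at hx
  obtain ⟨d, hd, d0, d2⟩ := Γ.exists_third (hw.adj' (show 0 < 5 by omega)) (hw.1 1 (by omega))
    (hw.2 0 (by omega)).symm
  have e2 : Γ.zel (w 2) • w 5 = w 5 := Γ.zel_fix (Γ.side_c (hw.1 1 (by omega)) hA) (n := 3)
    (by omega) (hw.wk (i := 2) (by omega) (by omega))
  simp only [mem_stabilizer_iff, show 1 + (Γ.b + 1) = 5 by omega]
  rcases K.mem_za hA (hw.adj' (show 0 < 5 by omega)) (hw.1 1 (by omega)) hd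
    (hw.2 0 (by omega)).symm d0.symm d2.symm hx with h | h | h | h <;> rw [h]
  · exact one_smul G _
  · exact e
  · exact e2
  · rw [← K.zel_mul hA (hw.adj' (show 0 < 5 by omega)) (hw.1 1 (by omega)) hd
      (hw.2 0 (by omega)).symm d0.symm d2.symm, mul_smul, e2, e]

theorem Good.fix {w : ℕ → V} {n i j d : ℕ} (hw : Γ.Red n w) (hs : Γ.side (w i) = false)
    (hij : i + d = j ∨ j + d = i) (hi : i ≤ n) (hj : j ≤ n) (hd : d ≤ 4) :
    Γ.zel (w i) • w j = w j := by
  refine Γ.zel_fix hs (n := d) (by rw [H.b_eq]; omega) ?_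
  rcases hij with h | h
  · exact hw.wk h hj
  · exact hw.wk' h hi

theorem Good.comm {w : ℕ → V} {n i j d : ℕ} (hw : Γ.Red n w) (hs : Γ.side (w i) = false)
    (hs' : Γ.side (w j) = false) (hij : i + d = j) (hj : j ≤ n) (hd : d ≤ 4) :
    Γ.zel (w i) * Γ.zel (w j) = Γ.zel (w j) * Γ.zel (w i) :=
  Γ.zel_comm hs hs' (n := d) (by rw [H.b_eq]; omega) (hw.wk hij hj)

/-- the commutator identity -/
theorem Good.ident_aux {w : ℕ → V} (hw : Γ.Red 6 w) (hs : Γ.side (w 0) = false) :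
    Γ.Flat ∧ (Γ.zel (w 0) * Γ.zel (w 6) * Γ.zel (w 0) * Γ.zel (w 6) =
      Γ.zel (w 2) * Γ.zel (w 4)) := by
  have hb := H.b_eq
  have hb3 := H.le
  have K := H.k1
  have side : ∀ i ≤ 6, Γ.side (w i) = !decide (Even i) := by
    intro i hi
    have := hw.side (Nat.zero_le i) hi
    rw [hs, Nat.sub_zero] at this
    by_cases he : Even i
    · rw [decide_eq_true he]; exact this.2 he
    · rw [decide_eq_false he]
      have := mt this.1 he
      cases hh : Γ.side (w i) <;> simp_all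
  have A1 : Γ.side (w 1) = true := by simpa using side 1 (by omega)
  have C2 : Γ.side (w 2) = false := by simpa using side 2 (by omega)
  have A3 : Γ.side (w 3) = true := by have := side 3 (by omega); rwa [decide_eq_false (by decide)] at this
  have C4 : Γ.side (w 4) = false := by have := side 4 (by omega); rwa [decide_eq_true (by decide)] at this
  have A5 : Γ.side (w 5) = true := by have := side 5 (by omega); rwa [decide_eq_false (by decide)] at this
  have C6 : Γ.side (w 6) = false := by have := side 6 (by omega); rwa [decide_eq_true (by decide)] at this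
  have z5 : Γ.zel (w 0) • w 5 ≠ w 5 := H.move (hw.mono (by omega)) hs
  have u1 : Γ.zel (w 6) • w 1 ≠ w 1 := by
    simpa using H.move (hw.rev.mono (m := 5) (by omega)) (by simpa using C6)
  have z4 : Γ.zel (w 0) • w 4 = w 4 := H.fix hw hs (d := 4) (Or.inl rfl) (by omega) (by omega) le_rfl
  have z3 : Γ.zel (w 0) • w 3 = w 3 :=
    H.fix hw hs (d := 3) (Or.inl rfl) (by omega) (by omega) (by omega)
  have u2 : Γ.zel (w 6) • w 2 = w 2 := H.fix hw C6 (d := 4) (Or.inr rfl) (by omega) (by omega) le_rfl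
  have u3 : Γ.zel (w 6) • w 3 = w 3 :=
    H.fix hw C6 (d := 3) (Or.inr rfl) (by omega) (by omega) (by omega)
  have h45 := hw.1 4 (by omega)
  have h43 := hw.adj' (show 3 < 6 by omega)
  have h45' := Γ.side_smul_adj h45 z4
  have h21 := hw.adj' (show 1 < 6 by omega)
  have h21' := Γ.side_smul_adj h21 u2
  have h23 := hw.1 2 (by omega)
  have hu := Γ.zel_za A5 (hw.1 5 (by omega))
  have ku := K.zel_not_mem A5 (hw.adj' (show 4 < 6 by omega)) (hw.1 5 (by omega)) (hw.2 4 (by omega))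
  have hz := Γ.zel_za A1 (hw.adj' (show 0 < 6 by omega))
  have kz := K.zel_not_mem A1 (hw.1 1 (by omega)) (hw.adj' (show 0 < 6 by omega))
    (hw.2 0 (by omega)).symm
  obtain ⟨hu', ku'⟩ := K.rep_conj hu ku (Γ.zel (w 0))
  obtain ⟨hz', kz'⟩ := K.rep_conj hz kz (Γ.zel (w 6))
  rw [z4] at ku'
  rw [u2] at kz'
  have n53 : w 5 ≠ w 3 := hw.2 3 (by omega)
  have n53' : Γ.zel (w 0) • w 5 ≠ w 3 := fun e =>
    n53 (MulAction.injective _ (e.trans z3.symm))
  have n13 : w 1 ≠ w 3 := (hw.2 1 (by omega)).symm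
  have n13' : Γ.zel (w 6) • w 1 ≠ w 3 := fun e =>
    n13 (MulAction.injective _ (e.trans u3.symm))
  have n24 : w 2 ≠ w 4 := (hw.2 2 (by omega)).symm
  set z := Γ.zel (w 0) with hzdef
  set u := Γ.zel (w 6) with hudef
  have zi : z⁻¹ = z := Γ.zel_inv hs
  have ui : u⁻¹ = u := Γ.zel_inv C6
  set e := z * u * z * u with he
  have hee : e = z * u * z⁻¹ * u := by rw [he, zi]
  have e2 : e * e = 1 := by
    rw [hee]
    have c := za_comm_around hb3 C4 h45' h45 hu' hu
    calc z * u * z⁻¹ * u * (z * u * z⁻¹ * u)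
        = z * u * z⁻¹ * (u * (z * u * z⁻¹)) * u := by group
      _ = z * u * z⁻¹ * (z * u * z⁻¹ * u) * u := by rw [← c]
      _ = z * (u * u) * z⁻¹ * (u * u) := by group
      _ = 1 := by rw [Γ.za_sq A5 hu]; group
  have hee' : e = u * z * u⁻¹ * z := by
    rw [← inv_eq_of_mul_eq_one_right e2, he]
    simp only [mul_inv_rev, zi, ui, mul_assoc]
  have hflat : Γ.Flat := by
    have Y4 : Γ.IsY (w 4) (e * Γ.zel (w 2)) :=
      ⟨_, _, _, h45', h45, h43, z5, n53', n53, z * u * z⁻¹, u, Γ.zel (w 2), hu', ku', hu, ku,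
        Γ.zel_za A3 (hw.adj' (show 2 < 6 by omega)),
        K.zel_not_mem A3 (hw.1 3 (by omega)) (hw.adj' (show 2 < 6 by omega)) n24, by rw [hee]⟩
    have Y2 : Γ.IsY (w 2) (e * Γ.zel (w 4)) :=
      ⟨_, _, _, h21', h21, h23, u1, n13', n13, u * z * u⁻¹, z, Γ.zel (w 4), hz', kz', hz, kz,
        Γ.zel_za A3 (hw.1 3 (by omega)),
        K.zel_not_mem A3 (hw.adj' (show 2 < 6 by omega)) (hw.1 3 (by omega)) n24.symm, by rw [hee']⟩
    refine flat_of_siblings K hb3 A3 (hw.adj' (show 2 < 6 by omega)) (hw.1 3 (by omega)) n24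
      (IsY.mul_zel K C2 Y2) ?_
    have := IsY.mul_zel K C4 Y4
    rwa [mul_assoc, H.comm hw C2 C4 (d := 2) rfl (by omega) (by omega), ← mul_assoc] at this
  refine ⟨hflat, ?_⟩
  have e3 : e ∈ Γ.za (w 3) :=
    hee ▸ hflat _ _ _ _ C4 h45' h45 h43 z5 n53' n53 _ hu' ku' u hu ku
  obtain ⟨d, hd, d2, d4⟩ := Γ.exists_third (hw.adj' (show 2 < 6 by omega)) (hw.1 3 (by omega)) n24
  rcases K.mem_za A3 (hw.adj' (show 2 < 6 by omega)) (hw.1 3 (by omega)) hd n24 d2.symm d4.symm e3
    with h | h | h | h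
  · refine absurd (Γ.za_inter hb3 A5 h45 h45' (Ne.symm z5) hu ?_) ku
    rw [eq_inv_of_mul_eq_one_right (hee.symm.trans h)]
    exact inv_mem hu'
  · refine absurd (Γ.za_inter hb3 A1 h21 h21' (Ne.symm u1) ?_ hz') kz'
    have : u * z * u⁻¹ = Γ.zel (w 2) * z := by
      rw [← h, hee', mul_assoc (u * z * u⁻¹), Γ.za_sq A1 hz, mul_one]
    rw [this]
    exact mul_mem (Γ.zel_za A1 (hw.1 1 (by omega))) hz
  · refine absurd (Γ.za_inter hb3 A5 h45 h45' (Ne.symm z5) ?_ hu') ku'
    have : z * u * z⁻¹ = Γ.zel (w 4) * u := by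
      rw [← h, hee, mul_assoc (z * u * z⁻¹), Γ.za_sq A5 hu, mul_one]
    rw [this]
    exact mul_mem (Γ.zel_za A5 (hw.adj' (show 4 < 6 by omega))) hu
  · rw [h, K.zel_mul A3 (hw.adj' (show 2 < 6 by omega)) (hw.1 3 (by omega)) hd n24 d2.symm d4.symm]

theorem Good.flat : Γ.Flat := by
  obtain ⟨f, hf⟩ := Γ.exists_Crit
  obtain ⟨w, hw, hw0⟩ := Γ.exists_red 6 (f 1)
  exact (H.ident_aux hw (by rw [hw0]; exact hf.side_odd (by omega) (by decide))).1

/-- conjugating the end of a walk of length six by its start -/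
theorem Good.ident {w : ℕ → V} (hw : Γ.Red 6 w) (hs : Γ.side (w 0) = false) :
    Γ.zel (Γ.zel (w 0) • w 6) = Γ.zel (w 2) * Γ.zel (w 4) * Γ.zel (w 6) := by
  have C6 : Γ.side (w 6) = false := by
    have := hw.side (Nat.zero_le 6) le_rfl
    rw [hs] at this
    exact this.2 ⟨3, rfl⟩
  rw [← H.k1.conj_zel C6, ← (H.ident_aux hw hs).2, Γ.zel_inv hs,
    mul_assoc (Γ.zel (w 0) * Γ.zel (w 6) * Γ.zel (w 0)), Γ.zel_sq C6, mul_one]

end H79.GAm.Deep
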