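import Cfsg.Agent.H79.GAmalgam.Ident

/-! `b = 3`: only the identity fixes a centred walk of length eight. -/

set_option autoImplicit false
set_option linter.style.haveILetI false
set_option linter.unusedSectionVars false

namespace H79.GAm.Deep

attribute [local irreducible] zel

open MulAction

variable {G : Type*} [Group G] {V : Type*} [MulAction G V] (Γ : Deep G V)

/-- `q` fixes a walk of length eight with ends on the constrained side -/
structure Fx (q : G) (f : ℕ → V) : Prop where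
  red : Γ.Red 8 f
  start : Γ.side (f 0) = true
  fixed : ∀ j ≤ 8, q • f j = f j

variable {Γ}

theorem Fx.sideA {q : G} {f : ℕ → V} (P : Γ.Fx q f) {j : ℕ} (hj : j ≤ 8) (he : Even j) :
    Γ.side (f j) = true := by
  have := P.red.side (Nat.zero_le j) hj
  rw [P.start, Nat.sub_zero] at this
  exact this.2 he

theorem Fx.sideC {q : G} {f : ℕ → V} (P : Γ.Fx q f) {j : ℕ} (hj : j ≤ 8) (he : ¬ Even j) :
    Γ.side (f j) = false := by
  have := P.red.side (Nat.zero_le j) hj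
  rw [P.start, Nat.sub_zero] at this
  exact Bool.eq_false_iff.2 (mt this.1 he)

theorem Fx.rev {q : G} {f : ℕ → V} (P : Γ.Fx q f) : Γ.Fx q (fun i => f (8 - i)) :=
  ⟨P.red.rev, P.sideA le_rfl ⟨4, rfl⟩, fun _ _ => P.fixed _ (by omega)⟩

theorem Fx.mem_kn {q : G} {f : ℕ → V} (P : Γ.Fx q f) {j : ℕ} (h1 : 1 ≤ j) (h2 : j ≤ 7) :
    q ∈ Γ.kn (f j) := by
  obtain ⟨i, rfl⟩ : ∃ i, j = i + 1 := ⟨j - 1, by omega⟩
  exact Γ.mem_kn_of_two (P.fixed _ (by omega)) (P.red.adj' (by omega)) (P.red.1 (i + 1) (by omega))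
    (P.red.2 i (by omega)).symm (P.fixed _ (by omega)) (P.fixed _ (by omega))

variable (H : Γ.Good)

include H

/-- an element fixing `c` commutes with its involution -/
theorem Good.comm_zel {c : V} (hc : Γ.side c = false) {q : G} (hq : q • c = c) (v : V) :
    q • Γ.zel c • v = Γ.zel c • q • v := by
  rw [← mul_smul, ← mul_smul, Γ.zc_comm (Γ.zel_mem hc) hq]

theorem Good.smul_zel {c : V} (hc : Γ.side c = false) (q : G) (v : V) :
    q • Γ.zel c • v = Γ.zel (q • c) • q • v := by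
  rw [← H.k1.conj_zel hc, mul_smul, mul_smul, inv_smul_smul]

/-- two elements fixing `v, w` and moving the same neighbour agree on it -/
theorem Good.moved_eq {v w x : V} {g h : G} (hw : Γ.Adj v w) (hx : Γ.Adj v x) (hne : x ≠ w)
    (g1 : g • v = v) (g2 : g • w = w) (g3 : g • x ≠ x) (h1 : h • v = v) (h2 : h • w = w)
    (h3 : h • x ≠ x) : g • x = h • x := by
  obtain ⟨y, hy, n1, n2⟩ := Γ.exists_third hw hx hne.symm
  rw [(Γ.smul_other hw hx hy hne.symm n1.symm n2.symm g1 g2 g3).1,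
    (Γ.smul_other hw hx hy hne.symm n1.symm n2.symm h1 h2 h3).1]

theorem Good.zel_inj {a c c' : V} (ha : Γ.side a = true) (h : Γ.Adj a c) (h' : Γ.Adj a c')
    (e : Γ.zel c = Γ.zel c') : c = c' := by
  by_contra hne
  exact Γ.zel_ne ha h h' hne e

/-- the ends of the walk are full -/
theorem Good.full_end {q : G} {f : ℕ → V} (P : Γ.Fx q f) : q ∈ Γ.kn (f 0) := by
  by_contra hq
  have K := H.k1
  have hb := H.b_eq
  have h01 := P.red.1 0 (by omega)
  obtain ⟨c, hc, hc1⟩ := Γ.exists_ne h01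
  have hcs := Γ.side_c hc P.start
  have hqc : q • c ≠ c := fun e =>
    hq (Γ.mem_kn_of_two (P.fixed 0 (by omega)) h01 hc hc1.symm (P.fixed 1 (by omega)) e)
  have hc' := Γ.side_smul_adj hc (P.fixed 0 (by omega))
  have hqc1 : q • c ≠ f 1 := fun e =>
    hc1 (MulAction.injective q (e.trans (P.fixed 1 (by omega)).symm))
  have c1 := P.sideC (show 1 ≤ 8 by omega) (by decide)
  have c7 := P.sideC (show 7 ≤ 8 by omega) (by decide)
  have W : Γ.Red 6 (pre c f) :=
    Γ.red_pre (P.red.mono (show 5 ≤ 8 by omega)) (Γ.adj_symm hc) hc1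
  set A := Γ.zel c with hA
  set Z := Γ.zel (f 7) with hZ
  have A4 : A • f 4 ≠ f 4 := H.move (w := pre c f) (W.mono (by omega)) hcs
  have A3 : A • f 3 = f 3 := H.fix (w := pre c f) (i := 0) (j := 4) (d := 4) W hcs (Or.inl rfl) (by omega) (by omega) le_rfl
  have A2 : A • f 2 = f 2 :=
    H.fix (w := pre c f) (i := 0) (j := 3) (d := 3) W hcs (Or.inl rfl) (by omega) (by omega) (by omega)
  have Z2 : Z • f 2 ≠ f 2 :=
    H.move (w := fun i => f (7 - i)) ((P.red.mono (show 7 ≤ 8 by omega)).rev.mono (by omega)) c7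
  have Z3 : Z • f 3 = f 3 :=
    H.fix (w := f) (i := 7) (d := 4) P.red c7 (Or.inr rfl) (by omega) (by omega) le_rfl
  have Z4 : Z • f 4 = f 4 :=
    H.fix (w := f) (i := 7) (d := 3) P.red c7 (Or.inr rfl) (by omega) (by omega) (by omega)
  -- the two images agree
  have h32 := P.red.adj' (show 2 < 8 by omega)
  have h34 := P.red.1 3 (by omega)
  have n24 : f 4 ≠ f 2 := P.red.2 2 (by omega)
  obtain ⟨d, hd, d2, d4⟩ := Γ.exists_third h32 h34 n24.symm
  have eA := (Γ.smul_other h32 h34 hd n24.symm d2.symm d4.symm A3 A2 A4).1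
  have eZ := (Γ.smul_other h34 h32 hd n24 d4.symm d2.symm Z3 Z4 Z2).1
  have idA : Γ.zel (A • f 5) = Γ.zel (f 1) * Γ.zel (f 3) * Γ.zel (f 5) := H.ident W hcs
  have idZ : Γ.zel (Z • f 1) = Γ.zel (f 5) * Γ.zel (f 3) * Γ.zel (f 1) :=
    H.ident (w := fun i => f (7 - i)) ((P.red.mono (show 7 ≤ 8 by omega)).rev.mono (by omega)) c7
  have c3 := P.sideC (show 3 ≤ 8 by omega) (by decide)
  have c5 := P.sideC (show 5 ≤ 8 by omega) (by decide)
  have m13 := H.comm P.red c1 c3 (d := 2) rfl (by omega) (by omega)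
  have m15 := H.comm P.red c1 c5 (d := 4) rfl (by omega) le_rfl
  have m35 := H.comm P.red c3 c5 (d := 2) rfl (by omega) (by omega)
  have hdA : Γ.side d = true := Γ.side_a hd c3
  have t5 : Γ.Adj d (A • f 5) := eA ▸ Γ.adj_smul (P.red.1 4 (by omega)) A
  have t1 : Γ.Adj d (Z • f 1) := eZ ▸ Γ.adj_smul (P.red.adj' (show 1 < 8 by omega)) Z
  have eu : A • f 5 = Z • f 1 := by
    refine H.zel_inj hdA t5 t1 ?_
    rw [idA, idZ, ← m35, mul_assoc, mul_assoc, ← m15, ← mul_assoc, ← mul_assoc, m13]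
  -- `q` fixes every neighbour of the common image
  have hZ1 : ∀ j ≤ 8, q • Z • f j = Z • f j := fun j hj => by
    rw [H.comm_zel c7 (P.fixed 7 (by omega)), P.fixed j hj]
  have hu : q ∈ Γ.kn (A • f 5) := by
    rw [eu]
    exact Γ.mem_kn_of_two (hZ1 1 (by omega)) (Γ.adj_smul (P.red.adj' (show 0 < 8 by omega)) Z)
      (Γ.adj_smul (P.red.1 1 (by omega)) Z)
      (fun e => P.red.2 0 (by omega) (MulAction.injective Z e).symm) (hZ1 0 (by omega))
      (hZ1 2 (by omega))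
  have e6 := Γ.smul_of_kn hu (Γ.adj_smul (P.red.1 5 (by omega)) A)
  rw [H.smul_zel hcs, P.fixed 6 (by omega),
    ← K.zel_mul P.start hc h01 hc' hc1 (Ne.symm hqc) hqc1.symm, mul_smul] at e6
  exact H.move (w := fun i => f (1 + i)) (P.red.drop (by omega)) c1 (MulAction.injective A e6)

/-- the centre can be moved two steps -/
theorem Good.shift_centre {q : G} {f : ℕ → V} (P : Γ.Fx q f) :
    ∃ f', Γ.Fx q f' ∧ ∀ i ≤ 6, f' i = f (i + 2) := by
  have K := H.k1
  have h87 := P.red.adj' (show 7 < 8 by omega)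
  obtain ⟨c, hc, hc7⟩ := Γ.exists_ne h87
  have hA8 := P.sideA (le_refl 8) ⟨4, rfl⟩
  have hcs := Γ.side_c hc hA8
  have hqc : q • c = c := Γ.smul_of_kn (by simpa using H.full_end P.rev) hc
  have c1 := P.sideC (show 1 ≤ 8 by omega) (by decide)
  have c3 := P.sideC (show 3 ≤ 8 by omega) (by decide)
  have c5 := P.sideC (show 5 ≤ 8 by omega) (by decide)
  have c7 := P.sideC (show 7 ≤ 8 by omega) (by decide)
  have W0 : Γ.Red 9 (pre c (fun i => f (8 - i))) :=
    Γ.red_pre P.red.rev (Γ.adj_symm hc) hc7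
  set B := Γ.zel c with hB
  set Q := Γ.zel (f 1) with hQ
  have B4 : B • f 4 ≠ f 4 := H.move (w := pre c (fun i => f (8 - i))) (W0.mono (by omega)) hcs
  have Bfix : ∀ j, 5 ≤ j → j ≤ 8 → B • f j = f j := by
    intro j h5 h8
    have := H.fix (w := pre c (fun i => f (8 - i))) (i := 0) (j := 9 - j) (d := 9 - j) (W0.mono le_rfl) hcs (Or.inl (by omega))
      (by omega) (by omega) (by omega)
    obtain ⟨m, hm⟩ : ∃ m, 9 - j = m + 1 := ⟨8 - j, by omega⟩
    rw [hm] at this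
    simp only [pre] at this
    rwa [show 8 - m = j by omega] at this
  have Q6 : Q • f 6 ≠ f 6 := H.move (w := fun i => f (1 + i)) (P.red.drop (by omega)) c1
  have Qfix : ∀ j, 1 ≤ j → j ≤ 5 → Q • f j = f j := fun j h1 h5 =>
    H.fix (w := f) (i := 1) P.red c1 (d := j - 1) (Or.inl (by omega)) (by omega) (by omega) (by omega)
  have h54 := P.red.adj' (show 4 < 8 by omega)
  have h56 := P.red.1 5 (by omega)
  have n46 : f 4 ≠ f 6 := (P.red.2 4 (by omega)).symm
  obtain ⟨y, hy, y4, y6⟩ := Γ.exists_third h54 h56 n46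
  have eB := (Γ.smul_other h56 h54 hy n46.symm y6.symm y4.symm (Bfix 5 le_rfl (by omega))
    (Bfix 6 (by omega) (by omega)) B4).1
  have eQ := (Γ.smul_other h54 h56 hy n46 y4.symm y6.symm (Qfix 5 (by omega) le_rfl)
    (Qfix 4 (by omega) (by omega)) Q6).1
  have idB : Γ.zel (B • f 3) = Γ.zel (f 7) * Γ.zel (f 5) * Γ.zel (f 3) :=
    H.ident (w := pre c (fun i => f (8 - i))) (W0.mono (by omega)) hcs
  have idQ : Γ.zel (Q • f 7) = Γ.zel (f 3) * Γ.zel (f 5) * Γ.zel (f 7) :=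
    H.ident (w := fun i => f (1 + i)) (P.red.drop (by omega)) c1
  have m35 := H.comm P.red c3 c5 (d := 2) rfl (by omega) (by omega)
  have m37 := H.comm P.red c3 c7 (d := 4) rfl (by omega) le_rfl
  have m57 := H.comm P.red c5 c7 (d := 2) rfl (by omega) (by omega)
  have eu : B • f 3 = Q • f 7 := by
    have t3 : Γ.Adj y (B • f 3) := by
      rw [← eB]; exact Γ.adj_smul (P.red.adj' (show 3 < 8 by omega)) B
    have t7 : Γ.Adj y (Q • f 7) := by
      rw [← eQ]; exact Γ.adj_smul (P.red.1 6 (by omega)) Q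
    refine H.zel_inj (Γ.side_a hy c5) t3 t7 ?_
    rw [idB, idQ, ← m57, mul_assoc, ← m37, ← mul_assoc, ← m35]
  set h := B * Q * B with hh
  have QQ : ∀ v : V, Q • Q • v = v := fun v => by rw [← mul_smul, Γ.zel_sq c1, one_smul]
  have h3 : h • f 3 = f 7 := by
    rw [hh, mul_smul, mul_smul, eu, QQ, Bfix 7 (by omega) (by omega)]
  have h4 : h • f 4 = f 6 := by
    rw [hh, mul_smul, mul_smul, eB, ← eQ, QQ, Bfix 6 (by omega) (by omega)]
  have h5 : h • f 5 = f 5 := by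
    rw [hh, mul_smul, mul_smul, Bfix 5 le_rfl (by omega), Qfix 5 (by omega) le_rfl,
      Bfix 5 le_rfl (by omega)]
  have hq : ∀ v : V, q • v = v → q • h • v = h • v := fun v hv => by
    rw [hh, mul_smul, mul_smul, H.comm_zel hcs hqc, H.comm_zel c1 (P.fixed 1 (by omega)),
      H.comm_zel hcs hqc, hv]
  let e : ℕ → V := fun i => if i ≤ 4 then f (i + 2) else h • f (8 - i)
  have e_lo : ∀ i ≤ 5, e i = f (i + 2) := fun i hi => by
    by_cases hi4 : i ≤ 4
    · exact if_pos hi4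
    · obtain rfl : i = 5 := by omega
      exact (if_neg hi4).trans h3
  have e_hi : ∀ i, 3 ≤ i → i ≤ 8 → e i = h • f (8 - i) := fun i h1 h2 => by
    by_cases hi4 : i ≤ 4
    · refine (if_pos hi4).trans ?_
      rcases (show i = 3 ∨ i = 4 by omega) with rfl | rfl
      exacts [h5.symm, h4.symm]
    · exact if_neg hi4
  have E : Γ.Fx q e := by
    refine ⟨⟨fun i hi => ?_, fun i hi => ?_⟩, ?_, fun i hi => ?_⟩
    · rcases Nat.lt_or_ge i 5 with h1 | h1
      · rw [e_lo i (by omega), e_lo (i + 1) (by omega)]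
        exact P.red.1 (i + 2) (by omega)
      · rw [e_hi i (by omega) (by omega), e_hi (i + 1) (by omega) (by omega)]
        exact (P.red.rev.smul h).1 i hi
    · rcases Nat.lt_or_ge i 4 with h1 | h1
      · rw [e_lo i (by omega), e_lo (i + 2) (by omega)]
        exact P.red.2 (i + 2) (by omega)
      · rw [e_hi i (by omega) (by omega), e_hi (i + 2) (by omega) (by omega)]
        exact (P.red.rev.smul h).2 i hi
    · rw [e_lo 0 (by omega)]; exact P.sideA (by omega) ⟨1, rfl⟩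
    · rcases Nat.lt_or_ge i 5 with h1 | h1
      · rw [e_lo i (by omega)]; exact P.fixed _ (by omega)
      · rw [e_hi i (by omega) (by omega)]; exact hq _ (P.fixed _ (by omega))
  by_cases h8 : e 6 = f 8
  · refine ⟨e, E, fun i hi => ?_⟩
    rcases Nat.lt_or_ge i 6 with h1 | h1
    · exact e_lo i (by omega)
    · obtain rfl : i = 6 := by omega
      exact h8
  set M := Γ.zel (f 3) with hM
  have M8 : M • f 8 ≠ f 8 := H.move (w := fun i => f (3 + i)) (P.red.drop (by omega)) c3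
  have Mfix : ∀ j, 2 ≤ j → j ≤ 7 → M • f j = f j := fun j h1 h2 => by
    rcases Nat.lt_or_ge j 3 with h3' | h3'
    · exact H.fix (w := f) (i := 3) P.red c3 (d := 3 - j) (Or.inr (by omega)) (by omega) (by omega) (by omega)
    · exact H.fix (w := f) (i := 3) P.red c3 (d := j - 3) (Or.inl (by omega)) (by omega) (by omega) (by omega)
  have e67 : Γ.Adj (f 7) (e 6) := e_lo 5 le_rfl ▸ E.red.1 5 (by omega)
  have e6n : e 6 ≠ f 6 := e_lo 4 (by omega) ▸ E.red.2 4 (by omega)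
  have eM := (Γ.smul_other (P.red.adj' (show 6 < 8 by omega)) (P.red.1 7 (by omega)) e67
    (P.red.2 6 (by omega)).symm e6n.symm (Ne.symm h8) (Mfix 7 (by omega) le_rfl)
    (Mfix 6 (by omega) (by omega)) M8).2
  refine ⟨fun i => M • e i, ⟨E.red.smul M, (Γ.side_smul _ _).trans E.start, fun j hj => ?_⟩,
    fun i hi => ?_⟩
  · rw [H.comm_zel c3 (P.fixed 3 (by omega)), E.fixed j hj]
  · rcases Nat.lt_or_ge i 6 with h1 | h1
    · simp only [e_lo i (by omega)]
      exact Mfix _ (by omega) (by omega)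
    · obtain rfl : i = 6 := by omega
      exact eM

theorem Good.third_full_core {q : G} {f : ℕ → V} (P : Γ.Fx q f) {y r r' p : V}
    (hy : Γ.Adj (f 4) y) (y3 : y ≠ f 3) (hr : Γ.Adj y r) (hr' : Γ.Adj y r') (r4 : r ≠ f 4)
    (r4' : r' ≠ f 4) (rr : r ≠ r') (hp : Γ.Adj r p) (py : p ≠ y) (hqr : q • r = r')
    (hk : Γ.zel (q • p) = Γ.zel p * Γ.zel (f 3)) : False := by
  have K := H.k1
  have hA4 := P.sideA (show 4 ≤ 8 by omega) ⟨2, rfl⟩
  have c1 := P.sideC (show 1 ≤ 8 by omega) (by decide)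
  have c3 := P.sideC (show 3 ≤ 8 by omega) (by decide)
  have hcy := Γ.side_c hy hA4
  have hrA := Γ.side_a hr hcy
  have hps := Γ.side_c hp hrA
  have h01 := P.red.1 0 (by omega)
  obtain ⟨c, hc, hc1⟩ := Γ.exists_ne h01
  have hcs := Γ.side_c hc P.start
  have hqc : q • c = c := Γ.smul_of_kn (H.full_end P) hc
  have hqy : q • y = y := Γ.smul_of_kn (P.mem_kn (by omega) (by omega)) hy
  have W1 : Γ.Red 7 (pre p (pre r (pre y (fun i => f (4 - i))))) :=
    Γ.red_pre (Γ.red_pre (Γ.red_pre (P.red.mono (show 4 ≤ 8 by omega)).rev (Γ.adj_symm hy) y3)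
      (Γ.adj_symm hr) r4) (Γ.adj_symm hp) py
  have W2 : Γ.Red 6 (fun i => if i ≤ 5 then pre c f i else y) :=
    ((Γ.red_pre P.red (Γ.adj_symm hc) hc1).mono (show 5 ≤ 9 by omega)).snoc hy
      fun m hm => (show m = 4 by omega) ▸ y3
  set A := Γ.zel c with hA
  set B := Γ.zel p with hB
  have A4 : A • f 4 ≠ f 4 :=
    H.move (w := fun i => if i ≤ 5 then pre c f i else y) (W2.mono (by omega)) hcs
  have A3 : A • f 3 = f 3 :=
    H.fix (w := fun i => if i ≤ 5 then pre c f i else y) (i := 0) (j := 4) (d := 4) W2 hcs (Or.inl rfl) (by omega) (by omega) le_rfl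
  have A2 : A • f 2 = f 2 :=
    H.fix (w := fun i => if i ≤ 5 then pre c f i else y) (i := 0) (j := 3) (d := 3) W2 hcs (Or.inl rfl) (by omega) (by omega) (by omega)
  have B2 : B • f 2 ≠ f 2 := H.move (w := pre p (pre r (pre y (fun i => f (4 - i)))))
    (W1.mono (by omega)) hps
  have B3 : B • f 3 = f 3 :=
    H.fix (w := pre p (pre r (pre y (fun i => f (4 - i))))) (i := 0) (j := 4) (d := 4) W1 hps (Or.inl rfl) (by omega) (by omega) le_rfl
  have B4 : B • f 4 = f 4 :=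
    H.fix (w := pre p (pre r (pre y (fun i => f (4 - i))))) (i := 0) (j := 3) (d := 3) W1 hps (Or.inl rfl) (by omega) (by omega) (by omega)
  have h32 := P.red.adj' (show 2 < 8 by omega)
  have h34 := P.red.1 3 (by omega)
  have n24 : f 4 ≠ f 2 := P.red.2 2 (by omega)
  obtain ⟨d, hd, d2, d4⟩ := Γ.exists_third h32 h34 n24.symm
  have eA := (Γ.smul_other h32 h34 hd n24.symm d2.symm d4.symm A3 A2 A4).1
  have eB := (Γ.smul_other h34 h32 hd n24 d4.symm d2.symm B3 B4 B2).1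
  have idA : Γ.zel (A • y) = Γ.zel (f 1) * Γ.zel (f 3) * Γ.zel y :=
    H.ident (w := fun i => if i ≤ 5 then pre c f i else y) W2 hcs
  have idB : Γ.zel (B • f 1) = Γ.zel y * Γ.zel (f 3) * Γ.zel (f 1) :=
    H.ident (w := pre p (pre r (pre y (fun i => f (4 - i))))) (W1.mono (by omega)) hps
  have m13 := H.comm P.red c1 c3 (d := 2) rfl (by omega) (by omega)
  have m3y : Γ.zel (f 3) * Γ.zel y = Γ.zel y * Γ.zel (f 3) :=
    Γ.zel_comm c3 hcy (n := 2) (by rw [H.b_eq]; omega) (Γ.wk_two h34 hy)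
  have m1y : Γ.zel (f 1) * Γ.zel y = Γ.zel y * Γ.zel (f 1) :=
    Γ.zel_comm c1 hcy (n := 3 + 1) (by rw [H.b_eq])
      (Γ.wk_add (P.red.wk (i := 1) (j := 4) rfl (by omega)) (Γ.wk_one hy))
  have eu : B • f 1 = A • y := by
    refine H.zel_inj (Γ.side_a hd c3) (eB ▸ Γ.adj_smul (P.red.adj' (show 1 < 8 by omega)) B)
      (eA ▸ Γ.adj_smul hy A) ?_
    rw [idA, idB, m13, mul_assoc (Γ.zel (f 3)), m1y, ← mul_assoc, m3y]
  -- the end of the walk goes to one of two vertices moved by `q`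
  have hn : Γ.Adj (A • y) (B • f 0) := eu ▸ Γ.adj_smul (P.red.adj' (show 0 < 8 by omega)) B
  have hne : B • f 0 ≠ A • f 4 := by
    rw [eA, ← eB]
    exact fun e => P.red.2 0 (by omega) (MulAction.injective B e).symm
  have hq0 : q • B • f 0 = B • f 0 := by
    rw [H.smul_zel hps, P.fixed 0 (by omega), hk, mul_smul]
    congr 1
    exact H.fix (w := f) (i := 3) P.red c3 (d := 3) (Or.inr rfl) (by omega) (by omega) (by omega)
  rcases Γ.three (Γ.adj_smul (Γ.adj_symm hy) A) (Γ.adj_smul hr A) (Γ.adj_smul hr' A) hn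
      (fun e => r4 (MulAction.injective A e).symm) (fun e => r4' (MulAction.injective A e).symm)
      (fun e => rr (MulAction.injective A e)) with e | e | e
  · exact hne e
  · rw [e, H.comm_zel hcs hqc, hqr] at hq0
    exact rr (MulAction.injective A hq0).symm
  · rw [e, H.comm_zel hcs hqc] at hq0
    exact rr (MulAction.injective q (hqr.trans (MulAction.injective A hq0).symm))

/-- the third neighbour of the centre is full -/
theorem Good.third_full {q : G} {f : ℕ → V} (P : Γ.Fx q f) {y : V} (hy : Γ.Adj (f 4) y)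
    (y3 : y ≠ f 3) (y5 : y ≠ f 5) : q ∈ Γ.kn y := by
  by_contra hq
  have K := H.k1
  have hA4 := P.sideA (show 4 ≤ 8 by omega) ⟨2, rfl⟩
  have hcy := Γ.side_c hy hA4
  obtain ⟨r, hr, r4⟩ := Γ.exists_ne (Γ.adj_symm hy)
  have hqy : q • y = y := Γ.smul_of_kn (P.mem_kn (by omega) (by omega)) hy
  have hqr := Γ.moves (Γ.adj_symm hy) hr r4 ⟨hqy, P.fixed 4 (by omega)⟩ hq
  have hr' := Γ.side_smul_adj hr hqy
  have r4' : q • r ≠ f 4 := fun e =>
    r4 (MulAction.injective q (e.trans (P.fixed 4 (by omega)).symm))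
  have hrA := Γ.side_a hr hcy
  have hr'A := Γ.side_a hr' hcy
  obtain ⟨p, hp, py⟩ := Γ.exists_ne (Γ.adj_symm hr)
  have hp' : Γ.Adj (q • r) (q • p) := Γ.adj_smul hp q
  have py' : q • p ≠ y := fun e => py (MulAction.injective q (e.trans hqy.symm))
  have h43 := P.red.adj' (show 3 < 8 by omega)
  have h45 := P.red.1 4 (by omega)
  have hz := Γ.zel_za hrA hp
  have kz := K.zel_not_mem hrA (Γ.adj_symm hr) hp py
  have hz' := Γ.zel_za hr'A hp'
  have hmem := H.flat y r (q • r) (f 4) hcy hr hr' (Γ.adj_symm hy) (Ne.symm hqr) r4 r4'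
    _ hz kz _ hz' (K.zel_not_mem hr'A (Γ.adj_symm hr') hp' py')
  have key : ∀ x, Γ.zel p * Γ.zel (q • p) = x → Γ.zel (q • p) = Γ.zel p * x := fun x e => by
    rw [← e, ← mul_assoc, Γ.zel_sq (Γ.side_c hp hrA), one_mul]
  have bad : Γ.zel (q • p) ∉ Γ.za r := fun e =>
    K.zel_not_mem hr'A (Γ.adj_symm hr') hp' py'
      (Γ.za_inter H.le hrA hr hr' (Ne.symm hqr) e hz')
  have n35 : f 3 ≠ f 5 := (P.red.2 3 (by omega)).symm
  rcases K.mem_za hA4 h43 h45 hy n35 y3.symm y5.symm hmem with e | e | e | e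
  · exact bad (by rw [key _ e, mul_one]; exact hz)
  · exact H.third_full_core P hy y3 hr hr' r4 r4' (Ne.symm hqr) hp py rfl (key _ e)
  · exact H.third_full_core P.rev hy y5 hr hr' r4 r4' (Ne.symm hqr) hp py rfl (key _ e)
  · exact bad (by rw [key _ e]; exact mul_mem hz (Γ.zel_za hrA (Γ.adj_symm hr)))

/-- a branch can be replaced -/
theorem Good.reroute {q : G} {f : ℕ → V} (P : Γ.Fx q f) {y r : V} (hy : Γ.Adj (f 4) y)
    (y3 : y ≠ f 3) (y5 : y ≠ f 5) (hr : Γ.Adj y r) (r4 : r ≠ f 4) :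
    ∃ f', Γ.Fx q f' ∧ f' 2 = r ∧ f' 3 = y ∧ f' 4 = f 4 ∧ f' 5 = f 5 := by
  have hqy := H.third_full P hy y3 y5
  obtain ⟨g, Pg, hg⟩ := H.shift_centre P
  have g2 : g 2 = f 4 := hg 2 (by omega)
  have g3 : g 3 = f 5 := hg 3 (by omega)
  have R : Γ.Red 8 (pre r (pre y (fun i => g (2 + i)))) := by
    refine Γ.red_pre (Γ.red_pre (Pg.red.drop (k := 2) (m := 6) (by omega)) ?_ ?_) (Γ.adj_symm hr) ?_
    · show Γ.Adj y (g 2); rw [g2]; exact Γ.adj_symm hy
    · show y ≠ g 3; rw [g3]; exact y5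
    · show r ≠ g 2; rw [g2]; exact r4
  have hrA : Γ.side r = true := Γ.side_a hr (Γ.side_c hy (P.sideA (by omega) ⟨2, rfl⟩))
  have P' : Γ.Fx q (pre r (pre y (fun i => g (2 + i)))) := by
    refine ⟨R, hrA, fun j hj => ?_⟩
    match j with
    | 0 => exact Γ.smul_of_kn hqy hr
    | 1 => exact (Γ.mem_kn.1 hqy).1
    | k + 2 => exact Pg.fixed (2 + k) (by omega)
  obtain ⟨e, Pe, he⟩ := H.shift_centre P'.rev
  refine ⟨fun i => e (8 - i), Pe.rev, ?_, ?_, ?_, ?_⟩
  · exact he 6 le_rfl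
  · exact he 5 (by omega)
  · exact (he 4 (by omega)).trans g2
  · exact (he 3 (by omega)).trans g3

theorem Good.exists_through {q : G} {f : ℕ → V} (P : Γ.Fx q f) {c s : V}
    (hc : Γ.Adj (f 4) c) (hs : Γ.Adj c s) (s4 : s ≠ f 4) :
    ∃ f', Γ.Fx q f' ∧ f' 2 = s ∧ f' 3 = c ∧ f' 4 = f 4 := by
  have h43 := P.red.adj' (show 3 < 8 by omega)
  have h45 := P.red.1 4 (by omega)
  have n35 : f 3 ≠ f 5 := (P.red.2 3 (by omega)).symm
  obtain ⟨y, hy, y3, y5⟩ := Γ.exists_third h43 h45 n35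
  obtain ⟨r, hr, r4⟩ := Γ.exists_ne (Γ.adj_symm hy)
  rcases Γ.three h43 h45 hy hc n35 y3.symm y5.symm with rfl | rfl | rfl
  · obtain ⟨g, Pg, -, g3, g4, g5⟩ := H.reroute P hy y3 y5 hr r4
    obtain ⟨e, Pe, e2, e3, e4, -⟩ := H.reroute Pg (g4 ▸ h43) (g3 ▸ y3.symm) (g5 ▸ n35) hs
      (g4.symm ▸ s4)
    exact ⟨e, Pe, e2, e3, e4.trans g4⟩
  · obtain ⟨g, Pg, -, g3, g4, g5⟩ := H.reroute P.rev hy y5 y3 hr r4
    obtain ⟨e, Pe, e2, e3, e4, -⟩ := H.reroute Pg (g4.symm ▸ h45) (g3.symm ▸ y5.symm)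
      (g5.symm ▸ n35.symm) hs (g4.symm ▸ s4)
    exact ⟨e, Pe, e2, e3, e4.trans g4⟩
  · obtain ⟨g, Pg, g2, g3, g4, -⟩ := H.reroute P hy y3 y5 hs s4
    exact ⟨g, Pg, g2, g3, g4⟩

theorem Good.full_three {q : G} {f : ℕ → V} (P : Γ.Fx q f) {c s d : V}
    (hc : Γ.Adj (f 4) c) (hs : Γ.Adj c s) (hd : Γ.Adj s d) : q ∈ Γ.kn d := by
  by_cases s4 : s = f 4
  · subst s4
    by_cases d3 : d = f 3
    · exact d3 ▸ P.mem_kn (by omega) (by omega)
    by_cases d5 : d = f 5
    · exact d5 ▸ P.mem_kn (by omega) (by omega)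
    exact H.third_full P hd d3 d5
  obtain ⟨g, Pg, g2, g3, -⟩ := H.exists_through P hc hs s4
  by_cases d1 : d = g 1
  · exact d1 ▸ Pg.mem_kn (by omega) (by omega)
  by_cases d3 : d = g 3
  · exact d3 ▸ Pg.mem_kn (by omega) (by omega)
  obtain ⟨e, Pe, he⟩ := H.shift_centre Pg.rev
  have e4 : e 4 = s := (he 4 (by omega)).trans g2
  refine H.third_full Pe (e4.symm ▸ hd) ?_ ?_
  · rw [he 3 (by omega)]; exact d3
  · rw [he 5 (by omega)]; exact d1

/-- only the identity fixes a centred walk of length eight -/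
theorem Good.fx_trivial {q : G} {f : ℕ → V} (P : Γ.Fx q f) : q = 1 := by
  have hb := H.b_eq
  have K := H.k1
  have hA4 := P.sideA (show 4 ≤ 8 by omega) ⟨2, rfl⟩
  have h45 := P.red.1 4 (by omega)
  let X : Subgroup G := Γ.kn (f 4) ⊓ ⨅ w, ⨅ (_ : Γ.Wk 4 (f 4) w), stb G w
  have hmem : ∀ x, x ∈ X ↔ x ∈ Γ.kn (f 4) ∧ ∀ w, Γ.Wk 4 (f 4) w → x • w = w := by
    intro x
    simp [X, Subgroup.mem_inf, Subgroup.mem_iInf, mem_stabilizer_iff]
  have hqX : q ∈ X := (hmem q).2 ⟨P.mem_kn (by omega) (by omega),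
    fun w ⟨c, hc, s, hs, d, hd, u, hu, e⟩ =>
      (show u = w from e) ▸ Γ.smul_of_kn (H.full_three P hc hs hd) hu⟩
  have hXe : X ≤ edg G (f 4) (f 5) := inf_le_left.trans (Γ.kn_le_edg h45)
  have hconj : ∀ g : G, g • f 4 = f 4 → ∀ x ∈ X, g * x * g⁻¹ ∈ X := by
    intro g hg x hx
    obtain ⟨hx1, hx2⟩ := (hmem x).1 hx
    refine (hmem _).2 ⟨Γ.kn_normal hg hx1, fun w hw => ?_⟩
    have := Γ.wk_smul hw g⁻¹
    rw [inv_smul_eq_iff.2 hg.symm] at this
    rw [mul_smul, mul_smul, hx2 _ this, smul_inv_smul]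
  by_contra hq1
  have hN : edg G (f 4) (f 5) ≤ Subgroup.normalizer (X : Set G) := by
    intro g hg
    rw [Subgroup.mem_normalizer_iff]
    refine fun x => ⟨hconj g hg.1 x, fun hx => ?_⟩
    have := hconj g⁻¹ (inv_smul_eq_iff.2 (show g • f 4 = f 4 from hg.1).symm) _ hx
    simpa [mul_assoc] using this
  obtain ⟨x, hx, hx1, hx2, hxc⟩ := Γ.exists_central h45 hXe hN
    fun e => hq1 (Subgroup.mem_bot.1 (e ▸ hqX))
  have c5 := P.sideC (show 5 ≤ 8 by omega) (by decide)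
  have hxz := K.eq_zel c5
    (Γ.mem_zc c5 (Γ.adj_symm h45) ⟨(hXe hx).2, (hXe hx).1⟩ hx2 fun t ht => hxc t ⟨ht.2, ht.1⟩) hx1
  have hmv := H.move (w := fun i => f (5 - i)) (P.red.mono (show 5 ≤ 8 by omega)).rev c5
  refine hmv ?_
  have := ((hmem x).1 hx).2 (f 0) (P.red.wk' (i := 0) rfl (by omega))
  rw [hxz] at this
  exact this

omit H in
theorem three_bound (hb : Γ.b = 3) {a c : V} (ha : Γ.side a = true) (h : Γ.Adj a c) :
    Nat.card (edg G a c) ≤ 128 := by
  have H := Γ.good_of hb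
  obtain ⟨w, hw, hw0⟩ := Γ.exists_red 8 a
  have hred : Γ.Red 1 (fun i => if i = 0 then a else c) :=
    ⟨fun i hi => by obtain rfl : i = 0 := (by omega); simpa using h, fun i hi => by omega⟩
  obtain ⟨g, hg⟩ := Γ.tr_one true w _ (hw.mono (by omega)) hred (hw0 ▸ ha) (by simpa using ha)
  have g0 : g • w 0 = a := by simpa using hg 0 (by omega)
  have g1 : g • w 1 = c := by simpa using hg 1 le_rfl
  obtain ⟨f, hf, f0, f1⟩ : ∃ f, Γ.Red 8 f ∧ f 0 = a ∧ f 1 = c := ⟨_, hw.smul g, g0, g1⟩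
  let F : ℕ → Subgroup G := fun k => ⨅ j, ⨅ (_ : j ≤ k), stb G (f j)
  have hF : ∀ {k : ℕ} {x : G}, x ∈ F k ↔ ∀ j ≤ k, x • f j = f j := by
    intro k x
    simp [F, Subgroup.mem_iInf, mem_stabilizer_iff]
  have step : ∀ k, 1 ≤ k → k < 8 → Nat.card (F k) ≤ 2 * Nat.card (F (k + 1)) := by
    intro k h1 h8
    obtain ⟨i, rfl⟩ : ∃ i, k = i + 1 := ⟨k - 1, by omega⟩
    have hle : ∀ {m}, i + 1 ≤ m → F m ≤ edg G (f (i + 1)) (f i) := fun hm x hx =>
      ⟨hF.1 hx _ hm, hF.1 hx i (by omega)⟩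
    refine Γ.card_le_two (hf.adj' (show i < 8 by omega)) (hle le_rfl) (fun x hx => hF.2 fun j hj => ?_)
      (Γ.fin_le (hf.adj' (show i < 8 by omega)) (hle (by omega)))
    rcases Nat.lt_or_ge j (i + 2) with hji | hji
    · exact hF.1 hx.1 j (by omega)
    · obtain rfl : j = i + 2 := by omega
      exact Γ.smul_of_kn hx.2 (hf.1 (i + 1) (by omega))
  have e1 : edg G a c ≤ F 1 := fun x hx => hF.2 fun j hj => by
    rcases Nat.le_one_iff_eq_zero_or_eq_one.1 hj with rfl | rfl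
    · rw [f0]; exact hx.1
    · rw [f1]; exact hx.2
  haveI : Finite (F 1) := Γ.fin_le h fun x hx =>
    ⟨mem_stabilizer_iff.2 (f0 ▸ hF.1 hx 0 (by omega)), mem_stabilizer_iff.2 (f1 ▸ hF.1 hx 1 le_rfl)⟩
  have h8 : Nat.card (F 8) = 1 := by
    rw [show F 8 = ⊥ from (Subgroup.eq_bot_iff_forall _).2 fun x hx =>
      H.fx_trivial ⟨hf, f0 ▸ ha, hF.1 hx⟩]
    exact Subgroup.card_bot
  have := Subgroup.card_le_of_le e1
  have := step 1 le_rfl (by omega)
  have := step 2 (by omega) (by omega)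
  have := step 3 (by omega) (by omega)
  have := step 4 (by omega) (by omega)
  have := step 5 (by omega) (by omega)
  have := step 6 (by omega) (by omega)
  have := step 7 (by omega) (by omega)
  simp only [Nat.reduceAdd] at *
  omega

end H79.GAm.Deep
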