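import Cfsg.Agent.H79.GAmalgam.Shift

/-! The case `b = 2`: the edge stabiliser has order at most `2 ^ 7`. -/

set_option autoImplicit false
set_option linter.style.haveILetI false

namespace H79.GAm.Deep

open MulAction

variable {G : Type*} [Group G] {V : Type*} [MulAction G V] (Γ : Deep G V)

theorem two_crit (hb : Γ.b = 2) {a c a' : V} (ha : Γ.side a = true) (h : Γ.Adj a c)
    (h' : Γ.Adj c a') (hne : a' ≠ a) : ¬ Γ.za a ≤ Γ.kn a' := by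
  intro hle
  obtain ⟨f, hf⟩ := Γ.exists_Crit
  obtain ⟨z, hz, -, hzk, -⟩ := hf.mover
  rw [hb] at hzk
  obtain ⟨g, hg⟩ := Γ.tr_two true f (fun i => if i = 0 then a else if i = 1 then c else a')
    (hf.1.mono (by omega))
    ⟨fun i hi => by
      rcases (show i = 0 ∨ i = 1 by omega) with rfl | rfl
      · simpa using h
      · simpa using h', fun i hi => by
      obtain rfl : i = 0 := (by omega)
      simpa using hne⟩
    hf.2.1 (by simpa using ha)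
  have g0 : g • f 0 = a := by simpa using hg 0 (by omega)
  have g2 : g • f 2 = a' := by simpa using hg 2 le_rfl
  have := hle (g0 ▸ Γ.conj_za hz g)
  rw [← g2, Γ.conj_mem_kn_iff] at this
  exact hzk this

theorem two_bound (hb : Γ.b = 2) {a c : V} (ha : Γ.side a = true) (h : Γ.Adj a c) :
    Nat.card (edg G a c) ≤ 128 := by
  have K : Γ.K1 := Γ.k1_even (by rw [hb]; exact even_two)
  have hc := Γ.side_c h ha
  obtain ⟨a1, a2, h1, h2, m1, m2, m3⟩ := Γ.third (Γ.adj_symm h)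
  obtain ⟨c', c'', h', h'', n1, n2, n3⟩ := Γ.third h
  have hc' := Γ.side_c h' ha
  obtain ⟨b1, b2, g1, g2, l1, l2, l3⟩ := Γ.third (Γ.adj_symm h')
  have hA1 := Γ.side_a g1 hc'
  have hA2 := Γ.side_a h1 hc
  set L : Subgroup G := Γ.kn c ⊓ Γ.kn a ⊓ Γ.kn a1 ⊓ Γ.kn a2 with hL
  set L' : Subgroup G := Γ.kn c' ⊓ Γ.kn a ⊓ Γ.kn b1 ⊓ Γ.kn b2 with hL'
  set X : Subgroup G := L ⊓ Γ.kn c' ⊓ Γ.kn b1 ⊓ Γ.kn b2 with hX
  have hXL : X ≤ L := inf_le_left.trans (inf_le_left.trans inf_le_left)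
  have hLa : L ≤ Γ.kn a := inf_le_left.trans (inf_le_left.trans inf_le_right)
  have hXL' : X ≤ L' := fun x hx => ⟨⟨⟨hx.1.1.2, hLa (hXL hx)⟩, hx.1.2⟩, hx.2⟩
  have hLall : ∀ x ∈ L, ∀ w, Γ.Adj c w → x ∈ Γ.kn w := by
    intro x hx w hw
    rcases Γ.three (Γ.adj_symm h) h1 h2 hw m1.symm m2.symm m3 with rfl | rfl | rfl
    exacts [hx.1.1.2, hx.1.2, hx.2]
  have hL'all : ∀ x ∈ L', ∀ w, Γ.Adj c' w → x ∈ Γ.kn w := by
    intro x hx w hw
    rcases Γ.three (Γ.adj_symm h') g1 g2 hw l1.symm l2.symm l3 with rfl | rfl | rfl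
    exacts [hx.1.1.2, hx.1.2, hx.2]
  -- an element swapping the two other neighbours of `a`
  obtain ⟨u, hu, huk⟩ := SetLike.not_le_iff_exists.1
    (Γ.two_crit hb hA2 (Γ.adj_symm h1) (Γ.adj_symm h) m1.symm)
  have hue : u ∈ edg G a c :=
    ⟨Γ.za_fix hA2 (n := 2) (by omega) (Γ.wk_two (Γ.adj_symm h1) (Γ.adj_symm h)) hu,
      Γ.za_fix hA2 (n := 1) (by omega) (Γ.wk_one (Γ.adj_symm h1)) hu⟩
  have hus := Γ.smul_other h h' h'' n1.symm n2.symm n3 hue.1 hue.2 (Γ.moves h h' n1 hue huk)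
  have hXc'' : ∀ x ∈ X, x ∈ Γ.kn c'' ∧ ∀ w, Γ.Adj c'' w → x ∈ Γ.kn w := by
    intro x hx
    have e : u * x * u⁻¹ = x := by
      rw [← Γ.za_comm hA2 hu (hLall x (hXL hx) a1 h1), mul_inv_cancel_right]
    constructor
    · rw [← e, ← hus.1]; exact Γ.conj_mem_kn hx.1.1.2 u
    · intro w hw
      have hw' := Γ.adj_smul hw u⁻¹
      rw [inv_smul_eq_iff.2 hus.1.symm] at hw'
      have := Γ.conj_mem_kn (hL'all x (hXL' hx) _ hw') u
      rwa [e, smul_inv_smul] at this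
  have hXnb : ∀ x ∈ X, ∀ d, Γ.Adj a d → x ∈ Γ.kn d ∧ ∀ w, Γ.Adj d w → x ∈ Γ.kn w := by
    intro x hx d hd
    rcases Γ.three h h' h'' hd n1.symm n2.symm n3 with rfl | rfl | rfl
    · exact ⟨(hXL hx).1.1.1, hLall x (hXL hx)⟩
    · exact ⟨hx.1.1.2, hL'all x (hXL' hx)⟩
    · exact hXc'' x hx
  have hXn : ∀ g : G, g • a = a → ∀ x ∈ X, g * x * g⁻¹ ∈ X := by
    intro g hg x hx
    have hgd : ∀ d, Γ.Adj a d → g * x * g⁻¹ ∈ Γ.kn d ∧ ∀ w, Γ.Adj d w → g * x * g⁻¹ ∈ Γ.kn w := by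
      intro d hd
      have hd' := Γ.side_smul_adj hd (inv_smul_eq_iff.2 hg.symm)
      refine ⟨?_, fun w hw => ?_⟩
      · have := Γ.conj_mem_kn (hXnb x hx _ hd').1 g
        rwa [smul_inv_smul] at this
      · have := Γ.conj_mem_kn ((hXnb x hx _ hd').2 _ (Γ.adj_smul hw g⁻¹)) g
        rwa [smul_inv_smul] at this
    exact ⟨⟨⟨⟨⟨⟨(hgd c h).1, Γ.kn_normal hg (hLa (hXL hx))⟩, (hgd c h).2 a1 h1⟩,
      (hgd c h).2 a2 h2⟩, (hgd c' h').1⟩, (hgd c' h').2 b1 g1⟩, (hgd c' h').2 b2 g2⟩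
  have hXe : X ≤ edg G a c := (hXL.trans hLa).trans (Γ.kn_le_edg h)
  have hbot : X = ⊥ := by
    by_contra hne
    have hN : edg G a c ≤ Subgroup.normalizer (X : Set G) := by
      intro g hg
      rw [Subgroup.mem_normalizer_iff]
      refine fun x => ⟨hXn g hg.1 x, fun hx => ?_⟩
      have := hXn g⁻¹ (inv_smul_eq_iff.2 (show g • a = a from hg.1).symm) _ hx
      simpa [mul_assoc] using this
    obtain ⟨x, hx, hx1, hx2, hxc⟩ := Γ.exists_central h hXe hN hne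
    have hxz : x ∈ Γ.zc c := Γ.mem_zc hc (Γ.adj_symm h) ⟨(hXe hx).2, (hXe hx).1⟩ hx2
      fun t ht => hxc t ⟨ht.2, ht.1⟩
    have exz := K.eq_zel hc hxz hx1
    obtain ⟨y, hy, hyk⟩ := SetLike.not_le_iff_exists.1
      (Γ.two_crit hb ha h' g1 l1)
    have hxb : Γ.zel c ∈ Γ.kn b1 := exz ▸ (hXnb x hx c' h').2 b1 g1
    have hzb : Γ.zel c' ∈ Γ.kn b1 := Γ.za_kn hA1 (Γ.zel_za hA1 (Γ.adj_symm g1))
    rcases K.mem_za ha h h' h'' n1.symm n2.symm n3 hy with e | e | e | e <;> rw [e] at hyk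
    · exact hyk (one_mem _)
    · exact hyk hxb
    · exact hyk hzb
    · rw [← K.zel_mul ha h h' h'' n1.symm n2.symm n3] at hyk
      exact hyk (mul_mem hxb hzb)
  haveI : Finite X := Γ.fin_le h hXe
  have hX1 : Nat.card X = 1 := by rw [hbot]; exact Subgroup.card_bot
  have sw : ∀ {v w : V} {H : Subgroup G}, H ≤ edg G v w → H ≤ edg G w v :=
    fun hH g hg => ⟨(hH hg).2, (hH hg).1⟩
  have hcsym := Γ.adj_symm h
  have e0 : Γ.kn c ≤ edg G c a := Γ.kn_le_edg hcsym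
  have i1 : Γ.kn c ⊓ Γ.kn a ≤ edg G a1 c := fun g hg =>
    ⟨Γ.smul_of_kn hg.1 h1, (Γ.mem_kn.1 hg.1).1⟩
  have i2 : Γ.kn c ⊓ Γ.kn a ⊓ Γ.kn a1 ≤ edg G a2 c := fun g hg =>
    ⟨Γ.smul_of_kn hg.1.1 h2, (Γ.mem_kn.1 hg.1.1).1⟩
  have j0 : L ≤ edg G c' a := sw (hLa.trans (Γ.kn_le_edg h'))
  have j1 : L ⊓ Γ.kn c' ≤ edg G b1 c' := fun g hg =>
    ⟨Γ.smul_of_kn hg.2 g1, (Γ.mem_kn.1 hg.2).1⟩
  have j2 : L ⊓ Γ.kn c' ⊓ Γ.kn b1 ≤ edg G b2 c' := fun g hg =>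
    ⟨Γ.smul_of_kn hg.1.2 g2, (Γ.mem_kn.1 hg.1.2).1⟩
  have fc : ∀ {H : Subgroup G}, H ≤ Γ.kn c → Finite H := fun hH =>
    Γ.fin_le hcsym (hH.trans e0)
  have hLc : L ≤ Γ.kn c := inf_le_left.trans (inf_le_left.trans inf_le_left)
  have s0 := Γ.card_le_two hcsym (sw le_rfl) (X := edg G a c) (Y := Γ.kn c) inf_le_right (fc le_rfl)
  have s1 := Γ.card_le_two h (sw e0) le_rfl (fc inf_le_left)
  have s2 := Γ.card_le_two (Γ.adj_symm h1) i1 le_rfl (fc (inf_le_left.trans inf_le_left))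
  have s3 := Γ.card_le_two (Γ.adj_symm h2) i2 (Y := L) le_rfl (fc hLc)
  have s4 := Γ.card_le_two (Γ.adj_symm h') j0 le_rfl (fc (inf_le_left.trans hLc))
  have s5 := Γ.card_le_two (Γ.adj_symm g1) j1 le_rfl
    (fc (inf_le_left.trans (inf_le_left.trans hLc)))
  have s6 := Γ.card_le_two (Γ.adj_symm g2) j2 (Y := X) le_rfl (fc (hXL.trans hLc))
  omega

end H79.GAm.Deep
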