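import Cfsg.Agent.H79.GAmalgam.One
import Cfsg.Agent.H79.GAmalgam.Two
import Cfsg.Agent.H79.GAmalgam.Three
import Cfsg.Agent.H8.S3Amalgam.Main

/-! The coset graph of two subgroups with residues of order six. -/

set_option autoImplicit false
set_option linter.style.haveILetI false

namespace H79.GAm

open MulAction

/-- the hypothesis at `A` with respect to `B` -/
structure Res {G : Type*} [Group G] (A B : Subgroup G) : Prop where
  finA : Finite A
  twoT : IsPGroup 2 (A ⊓ B : Subgroup G)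
  idx : (A ⊓ B).relIndex A = 3
  qidx : (Cfsg.pCoreOf 2 A).relIndex (A ⊓ B) = 2
  qle : Cfsg.pCoreOf 2 A ≤ A ⊓ B

theorem res_of {G : Type*} [Group G] {A B : Subgroup G} [Finite A]
    (hS : ∃ S : Sylow 2 A, (S : Subgroup A) = (A ⊓ B).subgroupOf A)
    (hq : Nonempty (A ⧸ Cfsg.pCore 2 A ≃* Equiv.Perm (Fin 3))) : Res A B := by
  obtain ⟨S, hS⟩ := hS
  obtain ⟨e⟩ := hq
  haveI : Fact (Nat.Prime 2) := ⟨Nat.prime_two⟩
  have hp : IsPGroup 2 (A ⊓ B : Subgroup G) := by
    have h1 : IsPGroup 2 ((A ⊓ B).subgroupOf A) := hS ▸ S.isPGroup'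
    exact h1.of_equiv (Subgroup.subgroupOfEquivOfLe inf_le_left)
  have hqle : Cfsg.pCoreOf 2 A ≤ A ⊓ B := by
    rintro _ ⟨x, hx, rfl⟩
    have hx' : x ∈ (S : Subgroup A) := H1.pCore_le_sylow S hx
    rw [hS] at hx'
    exact hx'
  have h6 : (Cfsg.pCoreOf 2 A).relIndex A = 6 := by
    show ((Cfsg.pCore 2 A).map A.subtype).relIndex A = 6
    have : (((Cfsg.pCore 2 A).map A.subtype).subgroupOf A).index = 6 := by
      rw [Subgroup.subgroupOf, Subgroup.comap_map_eq_self_of_injective A.subtype_injective,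
        Subgroup.index, Nat.card_congr e.toEquiv, Nat.card_perm, Nat.card_fin]
      rfl
    exact this
  have hodd : ¬ 2 ∣ (A ⊓ B).relIndex A := by
    show ¬ 2 ∣ ((A ⊓ B).subgroupOf A).index
    rw [← hS]
    exact S.not_dvd_index
  have hmul := Subgroup.relIndex_mul_relIndex _ _ _ hqle (inf_le_left : A ⊓ B ≤ A)
  rw [h6] at hmul
  haveI : Finite (A ⊓ B : Subgroup G) :=
    Finite.of_injective (Subgroup.inclusion (inf_le_left : A ⊓ B ≤ A))
      (Subgroup.inclusion_injective _)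
  obtain ⟨k, hk⟩ := hp.index ((Cfsg.pCoreOf 2 A).subgroupOf (A ⊓ B))
  have hk' : (Cfsg.pCoreOf 2 A).relIndex (A ⊓ B) = 2 ^ k := hk
  rw [hk'] at hmul
  have hk1 : k = 1 := by
    rcases k with _ | _ | k
    · exfalso; rw [pow_zero, one_mul] at hmul; exact hodd (by omega)
    · rfl
    · exfalso
      have : 4 ∣ 6 := ⟨2 ^ k * (A ⊓ B).relIndex A, by rw [← hmul]; ring⟩
      norm_num at this
  subst hk1
  exact ⟨inferInstance, hp, by omega, hk', hqle⟩

section base

variable {X : Type*} [Group X] {P₁ P₂ : Subgroup X}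

local notation "V" => Cfsg.CosetVertex P₁ P₂
local notation "Adjc" => SimpleGraph.Adj (Cfsg.cosetGraph P₁ P₂)

theorem base_nbrs {A B : Subgroup X} (R : Res A B) {p q : V} (hp : stabilizer X p = A)
    (hq : stabilizer X q = B) (h : Adjc p q) :
    ∃ x y z, x ≠ y ∧ x ≠ z ∧ y ≠ z ∧ Adjc p x ∧ Adjc p y ∧ Adjc p z ∧
      ∀ w, Adjc p w → w = x ∨ w = y ∨ w = z := by
  classical
  haveI := R.finA
  have h3 : Nat.card (A ⧸ (A ⊓ B).subgroupOf A) = 3 := R.idx
  letI := Fintype.ofFinite (A ⧸ (A ⊓ B).subgroupOf A)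
  rw [Nat.card_eq_fintype_card] at h3
  let e := Fintype.equivFinOfCardEq h3
  let r : Fin 3 → V := fun i => ((e.symm i).out : X) • q
  have hadj : ∀ i, Adjc p (r i) := fun i => by
    have := H74.adj_smul h ((e.symm i).out : X)
    rwa [mem_stabilizer_iff.1 (hp.ge (e.symm i).out.2)] at this
  have hinj : ∀ i j, r i = r j → i = j := by
    intro i j hij
    apply e.symm.injective
    rw [← (e.symm i).out_eq', ← (e.symm j).out_eq']
    refine QuotientGroup.eq.2 (Subgroup.mem_subgroupOf.2 ⟨((e.symm i).out⁻¹ * (e.symm j).out).2, ?_⟩)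
    refine hq.le ?_
    show ((e.symm i).out : X)⁻¹ * ((e.symm j).out : X) ∈ stabilizer X q
    rw [mem_stabilizer_iff, mul_smul, inv_smul_eq_iff]
    exact hij.symm
  refine ⟨r 0, r 1, r 2, fun e => absurd (hinj _ _ e) (by decide),
    fun e => absurd (hinj _ _ e) (by decide), fun e => absurd (hinj _ _ e) (by decide),
    hadj 0, hadj 1, hadj 2, fun w hw => ?_⟩
  obtain ⟨g, hg, rfl⟩ := H74.neighbours_transitive h hw
  have hgA : g ∈ A := hp.le hg
  obtain ⟨i, hi⟩ : ∃ i, e.symm i = ((⟨g, hgA⟩ : A) : A ⧸ (A ⊓ B).subgroupOf A) :=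
    ⟨e _, e.symm_apply_apply _⟩
  have hrg : r i = g • q := by
    have h1 : (((e.symm i).out : A) : A ⧸ (A ⊓ B).subgroupOf A) = ((⟨g, hgA⟩ : A) : A ⧸ _) :=
      ((e.symm i).out_eq').trans hi
    have h2 := hq.ge (Subgroup.mem_subgroupOf.1 (QuotientGroup.eq.1 h1)).2
    simp only [Subgroup.coe_mul, Subgroup.coe_inv] at h2
    rw [mem_stabilizer_iff, mul_smul, inv_smul_eq_iff] at h2
    exact h2.symm
  fin_cases i
  exacts [Or.inl hrg.symm, Or.inr (Or.inl hrg.symm), Or.inr (Or.inr hrg.symm)]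

/-- the pointwise stabiliser of the neighbours of a base vertex is the 2-core -/
theorem base_kernel {A B : Subgroup X} (R : Res A B) {p q : V} (hp : stabilizer X p = A)
    (hq : stabilizer X q = B) (h : Adjc p q) {g : X} :
    g ∈ Cfsg.pCoreOf 2 A ↔ g • p = p ∧ ∀ w, Adjc p w → g • w = w := by
  constructor
  · intro hg
    refine ⟨mem_stabilizer_iff.1 (hp.ge (R.qle hg).1), fun w hw => ?_⟩
    obtain ⟨k, hk, rfl⟩ := H74.neighbours_transitive h hw
    have h1 : k⁻¹ * g * k ∈ Cfsg.pCoreOf 2 A :=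
      (Subgroup.mem_normalizer_iff''.1 (H8.S3Am.Hyp.le_normalizer_core (hp.le hk)) g).1 hg
    have h2 := mem_stabilizer_iff.1 (hq.ge (R.qle h1).2)
    rw [mul_smul, mul_smul, inv_smul_eq_iff] at h2
    exact h2
  · rintro ⟨h1, h2⟩
    let K : Subgroup X := stabilizer X p ⊓ ⨅ w, ⨅ (_ : Adjc p w), stabilizer X w
    have hmem : ∀ {k}, k ∈ K ↔ k • p = p ∧ ∀ w, Adjc p w → k • w = w := fun {k} => by
      simp [K, Subgroup.mem_inf, Subgroup.mem_iInf, mem_stabilizer_iff]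
    have hKT : K ≤ A ⊓ B := fun k hk =>
      ⟨hp.le (mem_stabilizer_iff.2 (hmem.1 hk).1), hq.le (mem_stabilizer_iff.2 ((hmem.1 hk).2 q h))⟩
    haveI : (K.subgroupOf A).Normal := by
      refine ⟨fun n hn a => ?_⟩
      have ha : (a : X) • p = p := mem_stabilizer_iff.1 (hp.ge a.2)
      obtain ⟨n1, n2⟩ := hmem.1 (Subgroup.mem_subgroupOf.1 hn)
      refine Subgroup.mem_subgroupOf.2 (hmem.2 ⟨?_, fun w hw => ?_⟩)
      · simp only [Subgroup.coe_mul, Subgroup.coe_inv, mul_smul]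
        rw [inv_smul_eq_iff.2 ha.symm, n1, ha]
      · simp only [Subgroup.coe_mul, Subgroup.coe_inv, mul_smul]
        have := H74.adj_smul hw (a : X)⁻¹
        rw [inv_smul_eq_iff.2 ha.symm] at this
        rw [n2 _ this, smul_inv_smul]
    have hP : IsPGroup 2 (K.subgroupOf A) :=
      (R.twoT.to_le hKT).of_equiv (Subgroup.subgroupOfEquivOfLe (hKT.trans inf_le_left)).symm
    have hgK : g ∈ K := hmem.2 ⟨h1, h2⟩
    exact ⟨⟨g, (hKT hgK).1⟩, H1.le_pCore hP (Subgroup.mem_subgroupOf.2 hgK), rfl⟩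

theorem base_swap {A B : Subgroup X} (R : Res A B) {p q : V} (hp : stabilizer X p = A)
    (hq : stabilizer X q = B) (h : Adjc p q) :
    ∃ g : X, g • p = p ∧ g • q = q ∧ ∃ x, Adjc p x ∧ g • x ≠ x := by
  obtain ⟨u, hu, huQ⟩ : ∃ u ∈ A ⊓ B, u ∉ Cfsg.pCoreOf 2 A := by
    by_contra hc
    push Not at hc
    have := Subgroup.relIndex_eq_one.2 (show A ⊓ B ≤ Cfsg.pCoreOf 2 A from hc)
    rw [R.qidx] at this
    omega
  refine ⟨u, mem_stabilizer_iff.1 (hp.ge hu.1), mem_stabilizer_iff.1 (hq.ge hu.2), ?_⟩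
  by_contra hc
  push Not at hc
  exact huQ ((base_kernel R hp hq h).2 ⟨mem_stabilizer_iff.1 (hp.ge hu.1), hc⟩)

end base

section cub

variable {X : Type*} [Group X] (P₁ P₂ : Subgroup X)

/-- the coset graph as a cubic graph -/
def cosetCub (gen : P₁ ⊔ P₂ = ⊤) (R₁ : Res P₁ P₂) (R₂ : Res P₂ P₁)
    (hf : ∀ N : Subgroup X, N ≤ P₁ ⊓ P₂ → P₁ ≤ Subgroup.normalizer (N : Set X) →
      P₂ ≤ Subgroup.normalizer (N : Set X) → N = ⊥) : Cub X (Cfsg.CosetVertex P₁ P₂) where
  Adj := (Cfsg.cosetGraph P₁ P₂).Adj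
  side := Sum.isLeft
  adj_symm h := h.symm
  adj_smul h g := H74.adj_smul h g
  side_adj h := H8.S3Am.isLeft_of_adj h
  side_smul g v := by rcases v with v | v <;> rfl
  side_trans v w h := H8.S3Am.exists_smul_of_side h
  trans h h' := by
    obtain ⟨g, hg, e⟩ := H74.neighbours_transitive h h'
    exact ⟨g, hg, e⟩
  nbrs v := by
    have hb := H74.adj_base (M₁ := P₁) (M₂ := P₂)
    have key : ∀ p : Cfsg.CosetVertex P₁ P₂, (∃ x y z, x ≠ y ∧ x ≠ z ∧ y ≠ z ∧
        (Cfsg.cosetGraph P₁ P₂).Adj p x ∧ (Cfsg.cosetGraph P₁ P₂).Adj p y ∧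
        (Cfsg.cosetGraph P₁ P₂).Adj p z ∧
        ∀ w, (Cfsg.cosetGraph P₁ P₂).Adj p w → w = x ∨ w = y ∨ w = z) → ∀ g : X,
        ∃ x y z, x ≠ y ∧ x ≠ z ∧ y ≠ z ∧
        (Cfsg.cosetGraph P₁ P₂).Adj (g • p) x ∧ (Cfsg.cosetGraph P₁ P₂).Adj (g • p) y ∧
        (Cfsg.cosetGraph P₁ P₂).Adj (g • p) z ∧
        ∀ w, (Cfsg.cosetGraph P₁ P₂).Adj (g • p) w → w = x ∨ w = y ∨ w = z := by
      rintro p ⟨x, y, z, n1, n2, n3, hx, hy, hz, hall⟩ g
      refine ⟨g • x, g • y, g • z, fun e => n1 (MulAction.injective g e),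
        fun e => n2 (MulAction.injective g e), fun e => n3 (MulAction.injective g e),
        H74.adj_smul hx g, H74.adj_smul hy g, H74.adj_smul hz g, fun w hw => ?_⟩
      have := H74.adj_smul hw g⁻¹
      rw [inv_smul_smul] at this
      rcases hall _ this with e | e | e <;> rw [inv_smul_eq_iff] at e
      exacts [Or.inl e, Or.inr (Or.inl e), Or.inr (Or.inr e)]
    obtain ⟨g, rfl | rfl⟩ := H74.vertex_cases v
    · exact key _ (base_nbrs R₁ H74.stab_baseL H74.stab_baseR hb) g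
    · exact key _ (base_nbrs R₂ H74.stab_baseR H74.stab_baseL hb.symm) g
  swap {v w} h := by
    have key : ∀ p q : Cfsg.CosetVertex P₁ P₂, (∃ g : X, g • p = p ∧ g • q = q ∧
        ∃ x, (Cfsg.cosetGraph P₁ P₂).Adj p x ∧ g • x ≠ x) → ∀ k : X, ∃ g : X,
        g • k • p = k • p ∧ g • k • q = k • q ∧
        ∃ x, (Cfsg.cosetGraph P₁ P₂).Adj (k • p) x ∧ g • x ≠ x := by
      rintro p q ⟨g, h1, h2, x, hx, h3⟩ k
      refine ⟨k * g * k⁻¹, by simp [mul_smul, h1], by simp [mul_smul, h2], k • x,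
        H74.adj_smul hx k, ?_⟩
      simp only [mul_smul, inv_smul_smul]
      exact fun e => h3 (MulAction.injective k e)
    have hb := H74.adj_base (M₁ := P₁) (M₂ := P₂)
    obtain ⟨x, ⟨rfl, rfl⟩ | ⟨rfl, rfl⟩⟩ := H74.adj_iff.1 h
    · exact key _ _ (base_swap R₁ H74.stab_baseL H74.stab_baseR hb) x
    · exact key _ _ (base_swap R₂ H74.stab_baseR H74.stab_baseL hb.symm) x
  two {v w} h := by
    obtain ⟨x, ⟨rfl, rfl⟩ | ⟨rfl, rfl⟩⟩ := H74.adj_iff.1 h <;>
      rw [edg, stb, stb, H74.stab_smul_baseL, H74.stab_smul_baseR,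
        ← Subgroup.map_inf _ _ _ (MulAut.conj x).injective]
    exacts [R₁.twoT.map _, R₂.twoT.map _]
  fin {v w} h := by
    obtain ⟨x, ⟨rfl, rfl⟩ | ⟨rfl, rfl⟩⟩ := H74.adj_iff.1 h <;>
      rw [edg, stb, stb, H74.stab_smul_baseL, H74.stab_smul_baseR,
        ← Subgroup.map_inf _ _ _ (MulAut.conj x).injective]
    · haveI := R₁.finA
      haveI : Finite (P₁ ⊓ P₂ : Subgroup X) :=
        Finite.of_injective _ (Subgroup.inclusion_injective inf_le_left)
      exact Finite.of_equiv _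
        ((P₁ ⊓ P₂).equivMapOfInjective _ (MulAut.conj x).injective).toEquiv
    · haveI := R₂.finA
      haveI : Finite (P₂ ⊓ P₁ : Subgroup X) :=
        Finite.of_injective _ (Subgroup.inclusion_injective inf_le_left)
      exact Finite.of_equiv _
        ((P₂ ⊓ P₁).equivMapOfInjective _ (MulAut.conj x).injective).toEquiv
  faith {v w} h N hN hv hw := by
    have key : ∀ p q : Cfsg.CosetVertex P₁ P₂, (Cfsg.cosetGraph P₁ P₂).Adj p q →
        stb X p ⊔ stb X q = ⊤ := by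
      intro p q hpq
      have e : ∀ g : X, ⊤ = (⊤ : Subgroup X).map (MulAut.conj g).toMonoidHom := fun g =>
        (Subgroup.map_top_of_surjective _ (MulAut.conj g).surjective).symm
      obtain ⟨x, ⟨rfl, rfl⟩ | ⟨rfl, rfl⟩⟩ := H74.adj_iff.1 hpq <;>
        rw [stb, stb, H74.stab_smul_baseL, H74.stab_smul_baseR, ← Subgroup.map_sup]
      · rw [gen, ← e x]
      · rw [sup_comm, gen, ← e x]
    haveI hNn : N.Normal :=
      Subgroup.normalizer_eq_top_iff.1 (top_le_iff.1 ((key v w h).symm.le.trans (sup_le hv hw)))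
    have hall : ∀ t ∈ N, ∀ u : Cfsg.CosetVertex P₁ P₂, t • u = u := by
      intro t ht u
      obtain ⟨x, hx⟩ := H74.vertex_cases u
      obtain ⟨y, hy⟩ := H74.adj_iff.1 h
      have ht' := hN (hNn.conj_mem t ht (y * x⁻¹))
      have e : ∀ p : Cfsg.CosetVertex P₁ P₂, (y * x⁻¹ * t * (y * x⁻¹)⁻¹) • y • p = y • p →
          t • x • p = x • p := fun p hp => by
        simp only [mul_inv_rev, inv_inv, mul_smul, inv_smul_smul] at hp
        exact inv_smul_eq_iff.1 (MulAction.injective y hp)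
      rcases hy with ⟨rfl, rfl⟩ | ⟨rfl, rfl⟩ <;> rcases hx with rfl | rfl
      exacts [e _ ht'.1, e _ ht'.2, e _ ht'.2, e _ ht'.1]
    refine hf N (fun t ht => ⟨?_, ?_⟩) ?_ ?_
    · rw [← H74.stab_baseL (M₁ := P₁) (M₂ := P₂)]; exact hall t ht _
    · rw [← H74.stab_baseR (M₁ := P₁) (M₂ := P₂)]; exact hall t ht _
    · exact Subgroup.le_normalizer_of_normal
    · exact Subgroup.le_normalizer_of_normal
  conn S hS hcl v := by
    obtain ⟨s, hs⟩ := hS
    obtain ⟨p⟩ := (H74.connected_of_sup_eq_top gen).preconnected s v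
    induction p with
    | nil => exact hs
    | cons h _ ih => exact ih (hcl _ hs _ h)
  inj g hg := by
    have hinj := H74.toPermHom_injective (M₁ := P₁) (M₂ := P₂) fun N hN hn =>
      hf N hN Subgroup.le_normalizer_of_normal Subgroup.le_normalizer_of_normal
    exact hinj (by ext v; simp [hg v])

end cub

end H79.GAm
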