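import Cfsg.Agent.H79.GAmalgam.Inst

/-! Goldschmidt's bound for amalgams with residues of order six. -/

set_option autoImplicit false
set_option linter.style.haveILetI false

namespace H79.GAm

open MulAction

theorem Deep.bound {G : Type*} [Group G] {V : Type*} [MulAction G V] (Γ : Deep G V) {a c : V}
    (ha : Γ.side a = true) (h : Γ.Adj a c) : Nat.card (edg G a c) ≤ 128 := by
  have h1 := Γ.one_le
  by_cases e1 : Γ.b = 1
  · exact (Γ.one_bound e1 ha h).trans (by omega)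
  by_cases e2 : Γ.b = 2
  · exact Γ.two_bound e2 ha h
  by_cases e3 : Γ.b = 3
  · exact Γ.three_bound e3 ha h
  exfalso
  by_cases he : Even Γ.b
  · exact Γ.no_even he (by omega)
  by_cases e5 : Γ.b = 5
  · exact Γ.no_five e5
  · exact Γ.no_seven he (by rw [Nat.even_iff] at he; omega)

/-- a vertex whose stabiliser has an element outside the kernel centralising it -/
theorem Cub.small_bound {G : Type*} [Group G] {V : Type*} [MulAction G V] (Γ : Cub G V) {p q : V}
    (h : Γ.Adj p q) {g : G} (hgp : g • p = p) (hgk : g ∉ Γ.kn p)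
    (hc : ∀ x ∈ Γ.kn p, g * x = x * g) : Nat.card (edg G p q) ≤ 16 := by
  obtain ⟨p1, p2, h1, h2, n1, n2, n3⟩ := Γ.third (Γ.adj_symm h)
  set E : Subgroup G := Γ.kn q ⊓ Γ.kn p ⊓ Γ.kn p1 ⊓ Γ.kn p2 with hE
  have hEp : E ≤ Γ.kn p := inf_le_left.trans (inf_le_left.trans inf_le_right)
  have hall : ∀ x ∈ E, ∀ w, Γ.Adj q w → x ∈ Γ.kn w := by
    intro x hx w hw
    rcases Γ.three (Γ.adj_symm h) h1 h2 hw n1.symm n2.symm n3 with rfl | rfl | rfl
    exacts [hx.1.1.2, hx.1.2, hx.2]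
  have hNq : stb G q ≤ Subgroup.normalizer (E : Set G) := by
    have hmem : ∀ k : G, k • q = q → ∀ x ∈ E, k * x * k⁻¹ ∈ E := by
      intro k hk x hx
      have hk' : ∀ w, Γ.Adj q w → k * x * k⁻¹ ∈ Γ.kn w := by
        intro w hw
        have hw' := Γ.side_smul_adj hw (inv_smul_eq_iff.2 hk.symm)
        have := Γ.conj_mem_kn (hall x hx _ hw') k
        rwa [smul_inv_smul] at this
      exact ⟨⟨⟨Γ.kn_normal hk hx.1.1.1, hk' p (Γ.adj_symm h)⟩, hk' p1 h1⟩, hk' p2 h2⟩
    intro k hk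
    rw [Subgroup.mem_normalizer_iff]
    refine fun x => ⟨hmem k hk x, fun hx => ?_⟩
    have := hmem k⁻¹ (inv_smul_eq_iff.2 (show k • q = q from hk).symm) _ hx
    simpa [mul_assoc] using this
  have hgN : g ∈ Subgroup.normalizer (E : Set G) := by
    apply Subgroup.centralizer_le_normalizer
    rw [Subgroup.mem_centralizer_iff]
    exact fun x hx => (hc x (hEp hx)).symm
  -- some element normalising `E` moves `q`
  obtain ⟨k, hk, hkp, hkq⟩ : ∃ k ∈ Subgroup.normalizer (E : Set G), k • p = p ∧ k • q ≠ q := by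
    by_cases hgq : g • q = q
    · obtain ⟨r, r', hr, hr', m1, m2, m3⟩ := Γ.third h
      have hge : g ∈ edg G p q := ⟨hgp, hgq⟩
      have hs := Γ.smul_other h hr hr' m1.symm m2.symm m3 hgp hgq (Γ.moves h hr m1 hge hgk)
      -- conjugates of `g` move all three neighbours
      obtain ⟨k, hkp, hkq⟩ := Γ.trans hr h
      have hc' : ∀ x ∈ Γ.kn p, (k * g * k⁻¹) * x = x * (k * g * k⁻¹) := by
        intro x hx
        have hx' : k⁻¹ * x * k ∈ Γ.kn p := by
          have := Γ.kn_normal (inv_smul_eq_iff.2 hkp.symm) hx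
          rwa [inv_inv] at this
        calc (k * g * k⁻¹) * x = k * (g * (k⁻¹ * x * k)) * k⁻¹ := by group
          _ = k * (k⁻¹ * x * k * g) * k⁻¹ := by rw [hc _ hx']
          _ = x * (k * g * k⁻¹) := by group
      have hmem : k * g * k⁻¹ ∈ Subgroup.normalizer (E : Set G) := by
        apply Subgroup.centralizer_le_normalizer
        rw [Subgroup.mem_centralizer_iff]
        exact fun x hx => (hc' x (hEp hx)).symm
      have hmov : (k * g * k⁻¹) • q ≠ q := by
        rw [← hkq, mul_smul, mul_smul, inv_smul_smul, hs.1]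
        exact fun e => m3 (MulAction.injective k e).symm
      have hfix : (k * g * k⁻¹) • p = p := by
        rw [mul_smul, mul_smul, inv_smul_eq_iff.2 hkp.symm, hgp, hkp]
      exact ⟨_, hmem, hfix, hmov⟩
    · exact ⟨g, hgN, hgp, hgq⟩
  have hEe : E ≤ edg G p q := hEp.trans (Γ.kn_le_edg h)
  have hbot : E = ⊥ := Γ.faith h E hEe (Γ.stb_le h (fun x hx => hNq hx.2) hk hkp hkq) hNq
  haveI : Finite E := Γ.fin_le h hEe
  have hE1 : Nat.card E = 1 := by rw [hbot]; exact Subgroup.card_bot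
  have hqe : Γ.kn q ≤ edg G q p := Γ.kn_le_edg (Γ.adj_symm h)
  have fq : ∀ {H : Subgroup G}, H ≤ Γ.kn q → Finite H := fun hH =>
    Γ.fin_le (Γ.adj_symm h) (hH.trans hqe)
  have s0 := Γ.card_le_two (Γ.adj_symm h) (X := edg G p q) (Y := Γ.kn q)
    (fun x hx => ⟨hx.2, hx.1⟩) inf_le_right (fq le_rfl)
  have s1 := Γ.card_le_two h (fun x hx => ⟨(hqe hx).2, (hqe hx).1⟩) le_rfl (fq inf_le_left)
  have s2 := Γ.card_le_two (Γ.adj_symm h1) (X := Γ.kn q ⊓ Γ.kn p)
    (fun x hx => ⟨Γ.smul_of_kn hx.1 h1, (Γ.mem_kn.1 hx.1).1⟩) le_rfl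
    (fq (inf_le_left.trans inf_le_left))
  have s3 := Γ.card_le_two (Γ.adj_symm h2) (X := Γ.kn q ⊓ Γ.kn p ⊓ Γ.kn p1) (Y := E)
    (fun x hx => ⟨Γ.smul_of_kn hx.1.1 h2, (Γ.mem_kn.1 hx.1.1).1⟩) le_rfl
    (fq (inf_le_left.trans (inf_le_left.trans inf_le_left)))
  omega

section gen

variable {X : Type*} [Group X]

theorem central_mem_zc {T : Subgroup X} {x : X} (hx : x ∈ T) (h2 : x * x = 1)
    (hc : ∀ t ∈ T, t * x = x * t) : x ∈ H8.S3Am.zc T :=
  Subgroup.subset_closure ⟨⟨hx, Subgroup.mem_centralizer_iff.2 hc⟩, by rw [pow_two]; exact h2⟩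

/-- the main case -/
theorem main_case {A B : Subgroup X} (gen : A ⊔ B = ⊤) (R₁ : Res A B) (R₂ : Res B A)
    (hf : ∀ N : Subgroup X, N ≤ A ⊓ B → A ≤ Subgroup.normalizer (N : Set X) →
      B ≤ Subgroup.normalizer (N : Set X) → N = ⊥)
    (hcons : A ⊓ Subgroup.centralizer (Cfsg.pCoreOf 2 A : Set X) ≤ Cfsg.pCoreOf 2 A)
    (hcent : B ≤ Subgroup.centralizer (H8.S3Am.zc (A ⊓ B) : Set X)) :
    Nat.card (A ⊓ B : Subgroup X) ≤ 128 := by
  let C := cosetCub A B gen R₁ R₂ hf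
  have hb := H74.adj_base (M₁ := A) (M₂ := B)
  have hkn : ∀ g : X, g ∈ C.kn (H74.baseL A B) ↔ g ∈ Cfsg.pCoreOf 2 A := fun g =>
    C.mem_kn.trans (base_kernel R₁ H74.stab_baseL H74.stab_baseR hb).symm
  let Γ : Amal X (Cfsg.CosetVertex A B) :=
    { C with
      cons := by
        intro v hv g hg hc
        obtain ⟨x, rfl | rfl⟩ := H74.vertex_cases v
        swap
        · have : Sum.isLeft (x • H74.baseR A B) = true := hv
          simp at this
        have key : x⁻¹ * g * x ∈ Cfsg.pCoreOf 2 A := by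
          refine hcons ⟨?_, Subgroup.mem_centralizer_iff.2 fun q hq => ?_⟩
          · refine (H74.stab_baseL (M₁ := A) (M₂ := B)).le ?_
            rw [mem_stabilizer_iff, mul_smul, mul_smul, hg, inv_smul_smul]
          · have h1 := hc _ (C.conj_mem_kn ((hkn q).2 hq) x)
            calc q * (x⁻¹ * g * x) = x⁻¹ * (x * q * x⁻¹ * g) * x := by group
              _ = x⁻¹ * (g * (x * q * x⁻¹)) * x := by rw [h1]
              _ = x⁻¹ * g * x * q := by group
        have h2 := C.conj_mem_kn ((hkn _).2 key) x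
        simpa [mul_assoc] using h2
      cent := by
        intro c a hc hca w hw hw2 hcomm g hg
        obtain ⟨x, ⟨rfl, rfl⟩ | ⟨rfl, rfl⟩⟩ := H74.adj_iff.1 hca
        · have : Sum.isLeft (x • H74.baseL A B) = false := hc
          simp at this
        have hfixp : ∀ (k : X) (p : Cfsg.CosetVertex A B), k • x • p = x • p →
            (x⁻¹ * k * x) • p = p := fun k p hk => by
          rw [mul_smul, mul_smul, hk, inv_smul_smul]
        have hA : ∀ (k : X), k • x • H74.baseL A B = x • H74.baseL A B → x⁻¹ * k * x ∈ A :=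
          fun k hk => (H74.stab_baseL (M₁ := A) (M₂ := B)).le (hfixp k _ hk)
        have hB : ∀ (k : X), k • x • H74.baseR A B = x • H74.baseR A B → x⁻¹ * k * x ∈ B :=
          fun k hk => (H74.stab_baseR (M₁ := A) (M₂ := B)).le (hfixp k _ hk)
        have hz : x⁻¹ * w * x ∈ H8.S3Am.zc (A ⊓ B) := by
          refine central_mem_zc ⟨hA w hw.2, hB w hw.1⟩ ?_ fun t ht => ?_
          · calc x⁻¹ * w * x * (x⁻¹ * w * x) = x⁻¹ * (w * w) * x := by group
              _ = 1 := by rw [hw2, mul_one, inv_mul_cancel]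
          · have h1 := hcomm (x * t * x⁻¹) ⟨?_, ?_⟩
            · calc t * (x⁻¹ * w * x) = x⁻¹ * (x * t * x⁻¹ * w) * x := by group
                _ = x⁻¹ * (w * (x * t * x⁻¹)) * x := by rw [h1]
                _ = _ := by group
            · refine mem_stabilizer_iff.2 ?_
              rw [mul_smul, mul_smul, inv_smul_smul,
                mem_stabilizer_iff.1 ((H74.stab_baseR (M₁ := A) (M₂ := B)).ge ht.2)]
            · refine mem_stabilizer_iff.2 ?_
              rw [mul_smul, mul_smul, inv_smul_smul,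
                mem_stabilizer_iff.1 ((H74.stab_baseL (M₁ := A) (M₂ := B)).ge ht.1)]
        have h3 := Subgroup.mem_centralizer_iff.1 (hcent (hB g hg)) _ hz
        calc g * w = x * (x⁻¹ * g * x * (x⁻¹ * w * x)) * x⁻¹ := by group
          _ = x * (x⁻¹ * w * x * (x⁻¹ * g * x)) * x⁻¹ := by rw [h3]
          _ = w * g := by group }
  haveI : Nonempty (Cfsg.CosetVertex A B) := ⟨H74.baseL A B⟩
  obtain ⟨D, hD⟩ := Γ.exists_deep
  have := D.bound (a := H74.baseL A B) (c := H74.baseR A B)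
    (by rw [hD]; rfl) (by rw [hD]; exact hb)
  rwa [edg, stb, stb, H74.stab_baseL, H74.stab_baseR] at this

/-- the bound when the subgroups generate -/
theorem gen_bound {A B : Subgroup X} (gen : A ⊔ B = ⊤) (R₁ : Res A B) (R₂ : Res B A)
    (hf : ∀ N : Subgroup X, N ≤ A ⊓ B → A ≤ Subgroup.normalizer (N : Set X) →
      B ≤ Subgroup.normalizer (N : Set X) → N = ⊥) :
    Nat.card (A ⊓ B : Subgroup X) ≤ 128 := by
  have hb := H74.adj_base (M₁ := A) (M₂ := B)
  let C := cosetCub A B gen R₁ R₂ hf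
  by_cases h1 : A ⊓ Subgroup.centralizer (Cfsg.pCoreOf 2 A : Set X) ≤ Cfsg.pCoreOf 2 A
  swap
  · obtain ⟨g, hg, hgQ⟩ := SetLike.not_le_iff_exists.1 h1
    have := C.small_bound hb (g := g)
      (mem_stabilizer_iff.1 ((H74.stab_baseL (M₁ := A) (M₂ := B)).ge hg.1))
      (fun e => hgQ ((base_kernel R₁ H74.stab_baseL H74.stab_baseR hb).2 (C.mem_kn.1 e)))
      fun x hx => (Subgroup.mem_centralizer_iff.1 hg.2 x
        ((base_kernel R₁ H74.stab_baseL H74.stab_baseR hb).2 (C.mem_kn.1 hx))).symm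
    rw [edg, stb, stb, H74.stab_baseL, H74.stab_baseR] at this
    omega
  by_cases h2 : B ⊓ Subgroup.centralizer (Cfsg.pCoreOf 2 B : Set X) ≤ Cfsg.pCoreOf 2 B
  swap
  · obtain ⟨g, hg, hgQ⟩ := SetLike.not_le_iff_exists.1 h2
    have := C.small_bound hb.symm (g := g)
      (mem_stabilizer_iff.1 ((H74.stab_baseR (M₁ := A) (M₂ := B)).ge hg.1))
      (fun e => hgQ ((base_kernel R₂ H74.stab_baseR H74.stab_baseL hb.symm).2 (C.mem_kn.1 e)))
      fun x hx => (Subgroup.mem_centralizer_iff.1 hg.2 x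
        ((base_kernel R₂ H74.stab_baseR H74.stab_baseL hb.symm).2 (C.mem_kn.1 hx))).symm
    rw [edg, stb, stb, H74.stab_baseL, H74.stab_baseR, inf_comm] at this
    omega
  have hf' : ∀ N : Subgroup X, N ≤ B ⊓ A → B ≤ Subgroup.normalizer (N : Set X) →
      A ≤ Subgroup.normalizer (N : Set X) → N = ⊥ :=
    fun N hN a b => hf N (hN.trans (inf_comm B A).le) b a
  by_cases cB : B ≤ Subgroup.centralizer (H8.S3Am.zc (A ⊓ B) : Set X)
  · exact main_case gen R₁ R₂ hf h1 cB
  by_cases cA : A ≤ Subgroup.centralizer (H8.S3Am.zc (A ⊓ B) : Set X)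
  · rw [inf_comm]
    exact main_case (sup_comm A B ▸ gen) R₂ R₁ hf' h2 (by rwa [inf_comm])
  have hA : H8.S3Am.Hyp A B :=
    ⟨R₁.finA, R₁.twoT, R₁.idx, R₁.qidx, R₁.qle, h1, cA, hf⟩
  have hB : H8.S3Am.Hyp B A :=
    ⟨R₂.finA, R₂.twoT, R₂.idx, R₂.qidx, R₂.qle, h2, by rw [inf_comm]; exact cB, hf'⟩
  haveI := R₁.finA
  have hle : Nat.card (A ⊓ B : Subgroup X) ≤ Nat.card A := Subgroup.card_le_of_le inf_le_left
  rcases H8.S3Am.classify ⟨gen, hA, hB⟩ with ⟨⟨e⟩, -⟩ | ⟨⟨e⟩, -⟩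
  · have := Nat.card_congr e.toEquiv
    rw [Nat.card_perm, Nat.card_fin, show Nat.factorial 4 = 24 from rfl] at this
    omega
  · have := Nat.card_congr e.toEquiv
    rw [Nat.card_prod, Nat.card_perm, Nat.card_fin, show Nat.factorial 4 = 24 from rfl,
      Nat.card_congr Multiplicative.toAdd, Nat.card_zmod] at this
    omega

end gen

theorem map_pCoreOf_subgroupOf {G : Type*} [Group G] {H M : Subgroup G} (h : M ≤ H) :
    (Cfsg.pCoreOf 2 (M.subgroupOf H)).map H.subtype = Cfsg.pCoreOf 2 M := by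
  unfold Cfsg.pCoreOf
  rw [← H1.map_pCore_equiv 2 (Subgroup.subgroupOfEquivOfLe h), Subgroup.map_map, Subgroup.map_map]
  rfl

theorem res_sub {G : Type*} [Group G] {H A B : Subgroup G} (hA : A ≤ H)
    (R : Res A B) : Res (A.subgroupOf H) (B.subgroupOf H) := by
  have e : A.subgroupOf H ⊓ B.subgroupOf H = (A ⊓ B).subgroupOf H := (Subgroup.comap_inf _ _ _).symm
  have m1 : ((A ⊓ B).subgroupOf H).map H.subtype = A ⊓ B :=
    Subgroup.map_subgroupOf_eq_of_le (inf_le_left.trans hA)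
  have m2 : (A.subgroupOf H).map H.subtype = A := Subgroup.map_subgroupOf_eq_of_le hA
  refine ⟨?_, ?_, ?_, ?_, ?_⟩
  · haveI := R.finA
    exact Finite.of_equiv _ (Subgroup.subgroupOfEquivOfLe hA).toEquiv.symm
  · rw [e]
    exact R.twoT.of_equiv (Subgroup.subgroupOfEquivOfLe (inf_le_left.trans hA)).symm
  · rw [e, ← Subgroup.relIndex_map_map_of_injective _ _ H.subtype_injective, m1, m2]
    exact R.idx
  · rw [e, ← Subgroup.relIndex_map_map_of_injective _ _ H.subtype_injective, m1,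
      map_pCoreOf_subgroupOf hA]
    exact R.qidx
  · rw [e, ← Subgroup.map_le_map_iff_of_injective H.subtype_injective, m1,
      map_pCoreOf_subgroupOf hA]
    exact R.qle

theorem bound {G : Type*} [Group G] (M₁ M₂ : Subgroup G) (R₁ : Res M₁ M₂) (R₂ : Res M₂ M₁)
    (hc : ∀ N : Subgroup G, N ≤ M₁ ⊓ M₂ → (N.subgroupOf M₁).Normal → (N.subgroupOf M₂).Normal →
      N = ⊥) : Nat.card (M₁ ⊓ M₂ : Subgroup G) ≤ 128 := by
  set H := M₁ ⊔ M₂ with hH
  have h1 : M₁ ≤ H := le_sup_left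
  have h2 : M₂ ≤ H := le_sup_right
  have gen : M₁.subgroupOf H ⊔ M₂.subgroupOf H = ⊤ := by
    apply Subgroup.map_injective H.subtype_injective
    rw [Subgroup.map_sup, Subgroup.map_subgroupOf_eq_of_le h1, Subgroup.map_subgroupOf_eq_of_le h2,
      ← MonoidHom.range_eq_map, Subgroup.range_subtype]
  have e : M₁.subgroupOf H ⊓ M₂.subgroupOf H = (M₁ ⊓ M₂).subgroupOf H :=
    (Subgroup.comap_inf _ _ _).symm
  have := gen_bound gen (res_sub h1 R₁) (res_sub h2 R₂) fun N hN a b => ?_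
  · rw [e, Nat.card_congr (Subgroup.subgroupOfEquivOfLe (inf_le_left.trans h1)).toEquiv] at this
    exact this
  have hN' : N.map H.subtype ≤ M₁ ⊓ M₂ := by
    rw [← Subgroup.map_subgroupOf_eq_of_le (inf_le_left.trans h1 : M₁ ⊓ M₂ ≤ H)]
    exact Subgroup.map_mono (e ▸ hN)
  have hn : ∀ M : Subgroup G, M ≤ H → M.subgroupOf H ≤ Subgroup.normalizer (N : Set H) →
      ((N.map H.subtype).subgroupOf M).Normal := by
    intro M hM hMn
    refine ⟨fun n hn g => ?_⟩
    obtain ⟨k, hk, hkn⟩ := Subgroup.mem_subgroupOf.1 hn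
    refine Subgroup.mem_subgroupOf.2 ⟨⟨g, hM g.2⟩ * k * ⟨g, hM g.2⟩⁻¹, ?_, ?_⟩
    · exact (Subgroup.mem_normalizer_iff.1
        (hMn (Subgroup.mem_subgroupOf.2 (show ((⟨g, hM g.2⟩ : H) : G) ∈ M from g.2))) k).1 hk
    · simp [← hkn]
  have := hc _ hN' (hn M₁ h1 a) (hn M₂ h2 b)
  exact (Subgroup.map_eq_bot_iff_of_injective _ H.subtype_injective).1 this

end H79.GAm
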