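import Cfsg.Agent.H79.GAmalgam.Centre

/-! The case `b = 1`: the edge stabiliser has order at most 16. -/

set_option autoImplicit false
set_option linter.style.haveILetI false

namespace H79.GAm.Deep

open MulAction

variable {G : Type*} [Group G] {V : Type*} [MulAction G V] (Γ : Deep G V)

theorem one_crit (hb : Γ.b = 1) {a c : V} (ha : Γ.side a = true) (h : Γ.Adj a c) :
    ∃ z ∈ Γ.za a, z ∉ Γ.kn c := by
  obtain ⟨f, hf⟩ := Γ.exists_Crit
  obtain ⟨z, hz, -, hk, -⟩ := hf.mover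
  rw [hb] at hk
  obtain ⟨g, hg⟩ := Γ.tr_one true f (fun i => if i = 0 then a else c) (hf.1.mono (by omega))
    ⟨fun i hi => by obtain rfl : i = 0 := (by omega); simpa using h, fun i hi => by omega⟩
    hf.2.1 (by simpa using ha)
  have g0 : g • f 0 = a := by simpa using hg 0 (by omega)
  have g1 : g • f 1 = c := by simpa using hg 1 le_rfl
  exact ⟨_, g0 ▸ Γ.conj_za hz g, fun e => hk (Γ.conj_mem_kn_iff.1 (g1.symm ▸ e))⟩

theorem one_kn_le (hb : Γ.b = 1) {c a a' : V} (ha : Γ.side a = true) (h : Γ.Adj c a)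
    (h' : Γ.Adj c a') (hne : a ≠ a') {q : G} (hqc : q ∈ Γ.kn c) (hqa : q ∈ Γ.kn a) :
    q ∈ Γ.kn a' := by
  by_contra hq'
  have hc : Γ.side c = false := Γ.side_c (Γ.adj_symm h) ha
  have ha' : Γ.side a' = true := Γ.side_a h' hc
  obtain ⟨a'', h'', n1, n2⟩ := Γ.exists_third h h' hne
  have ha'' : Γ.side a'' = true := Γ.side_a h'' hc
  obtain ⟨z, hz, hzk⟩ := Γ.one_crit hb ha (Γ.adj_symm h)
  obtain ⟨u, hu, huk⟩ := Γ.one_crit hb ha' (Γ.adj_symm h')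
  have hze := Γ.za_le_edg ha (Γ.adj_symm h) hz
  have hue := Γ.za_le_edg ha' (Γ.adj_symm h') hu
  have hze' : z ∈ edg G c a := ⟨hze.2, hze.1⟩
  have hue' : u ∈ edg G c a' := ⟨hue.2, hue.1⟩
  have hsz := Γ.smul_other h h' h'' hne n1.symm n2.symm hze'.1 hze'.2
    (Γ.moves h h' hne.symm hze' hzk)
  have hsu := Γ.smul_other h' h h'' hne.symm n2.symm n1.symm hue'.1 hue'.2
    (Γ.moves h' h hne hue' huk)
  have zi : z⁻¹ = z := Γ.za_inv ha hz
  have hq'' : q ∉ Γ.kn a'' := by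
    intro e
    have h1 := Γ.conj_mem_kn e z
    rw [hsz.2, (Γ.za_comm ha hz hqa).symm, mul_inv_cancel_right] at h1
    exact hq' h1
  obtain ⟨g, hgc, hga⟩ := Γ.trans h h'
  set p := g * q * g⁻¹ with hp
  have hpc : p ∈ Γ.kn c := Γ.kn_normal hgc hqc
  have hpa' : p ∈ Γ.kn a' := hga ▸ Γ.conj_mem_kn hqa g
  have hpother : ∀ w, Γ.Adj c w → w ≠ a' → p ∉ Γ.kn w := by
    intro w hw hwne e
    have h2 : g⁻¹ * p * (g⁻¹)⁻¹ ∈ Γ.kn (g⁻¹ • w) := Γ.conj_mem_kn e g⁻¹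
    rw [show g⁻¹ * p * (g⁻¹)⁻¹ = q by rw [hp]; group] at h2
    have hgw : Γ.Adj c (g⁻¹ • w) := by
      have := Γ.adj_smul hw g⁻¹
      rwa [inv_smul_eq_iff.2 hgc.symm] at this
    rcases Γ.three h h' h'' hgw hne n1.symm n2.symm with e' | e' | e'
    · exact hwne (by rw [← hga, ← e', smul_inv_smul])
    · rw [e'] at h2; exact hq' h2
    · rw [e'] at h2; exact hq'' h2
  set y := z * (p * z * p⁻¹) with hy
  have hyza : y ∈ Γ.za a := mul_mem hz (Γ.za_normal hz (Γ.smul_of_kn hpc h))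
  have hyc : y ∈ Γ.kn c := by
    rw [hy, show z * (p * z * p⁻¹) = z * p * z⁻¹ * p⁻¹ by rw [zi]; group]
    exact mul_mem (Γ.kn_normal hze'.1 hpc) (inv_mem hpc)
  have hyz : y = z * p * z⁻¹ * p⁻¹ := by rw [hy, zi]; group
  have hzp' : z * p * z⁻¹ ∈ Γ.kn a'' := hsz.1 ▸ Γ.conj_mem_kn hpa' z
  have hzp : z * p * z⁻¹ ∉ Γ.kn a' := by
    rw [← hsz.2, Γ.conj_mem_kn_iff]
    exact hpother a'' h'' n2
  have hya' : y ∉ Γ.kn a' := by
    rw [hyz]
    exact fun e => hzp ((Subgroup.mul_mem_cancel_right _ (inv_mem hpa')).1 e)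
  have hya'' : y ∉ Γ.kn a'' := by
    rw [hyz]
    exact fun e => hpother a'' h'' n2
      (inv_mem_iff.1 ((Subgroup.mul_mem_cancel_left _ hzp').1 e))
  have he := Γ.za_comm_mem ha' (Γ.adj_symm h') hu
    (⟨Γ.smul_of_kn hyc h', (Γ.mem_kn.1 hyc).1⟩ : y ∈ edg G a' c)
  have hek : u * (y * u * y⁻¹) ∈ Γ.kn a'' :=
    Γ.za_kn ha'' (Γ.zc_le_za (Γ.adj_symm h'') he)
  have hyu : u * y * u⁻¹ ∈ Γ.kn a'' := hsu.1 ▸ Γ.conj_mem_kn (Γ.za_kn ha hyza) u
  refine hya'' ?_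
  have ui : u⁻¹ = u := Γ.za_inv ha' hu
  have yi : y⁻¹ = y := Γ.za_inv ha hyza
  have := mul_mem (inv_mem hyu) hek
  rw [show (u * y * u⁻¹)⁻¹ * (u * (y * u * y⁻¹)) = u * (y⁻¹ * y) * u * y⁻¹ by
    simp only [ui, mul_inv_rev, mul_assoc]
    rw [← mul_assoc u u, Γ.za_sq ha' hu, one_mul]] at this
  rwa [inv_mul_cancel, mul_one, Γ.za_sq ha' hu, one_mul, yi] at this

theorem one_bound (hb : Γ.b = 1) {a c : V} (ha : Γ.side a = true) (h : Γ.Adj a c) :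
    Nat.card (edg G a c) ≤ 16 := by
  obtain ⟨c', c'', h', h'', n1, n2, n3⟩ := Γ.third h
  set X : Subgroup G := Γ.kn a ⊓ (Γ.kn c ⊓ (Γ.kn c' ⊓ Γ.kn c'')) with hX
  have hXe : X ≤ edg G a c := inf_le_left.trans (Γ.kn_le_edg h)
  obtain ⟨a', ha', hne⟩ := Γ.exists_ne (Γ.adj_symm h)
  obtain ⟨u, hu, huk⟩ := Γ.one_crit hb (Γ.side_a ha' (Γ.side_c h ha)) (Γ.adj_symm ha')
  have hue := Γ.za_le_edg (Γ.side_a ha' (Γ.side_c h ha)) (Γ.adj_symm ha') hu
  have hua : u • a ≠ a := Γ.moves ha' (Γ.adj_symm h) hne.symm ⟨hue.2, hue.1⟩ huk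
  have hN : stb G a ≤ Subgroup.normalizer (X : Set G) := by
    have hmem : ∀ g : G, g • a = a → ∀ x ∈ X, g * x * g⁻¹ ∈ X := by
      intro g hg x hx
      obtain ⟨hxa, hxc, hxc', hxc''⟩ := hx
      have hk : ∀ w, Γ.Adj a w → g * x * g⁻¹ ∈ Γ.kn w := by
        intro w hw
        have hw' : Γ.Adj a (g⁻¹ • w) := by
          have := Γ.adj_smul hw g⁻¹
          rwa [inv_smul_eq_iff.2 hg.symm] at this
        have hxw : x ∈ Γ.kn (g⁻¹ • w) := by
          rcases Γ.three h h' h'' hw' n1.symm n2.symm n3 with e | e | e <;> rw [e] <;> assumption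
        have := Γ.conj_mem_kn hxw g
        rwa [smul_inv_smul] at this
      exact ⟨Γ.kn_normal hg hxa, hk c h, hk c' h', hk c'' h''⟩
    intro g hg
    rw [Subgroup.mem_normalizer_iff]
    refine fun x => ⟨hmem g hg x, fun hx => ?_⟩
    have := hmem g⁻¹ (inv_smul_eq_iff.2 (show g • a = a from hg).symm) _ hx
    simpa [mul_assoc] using this
  have huN : u ∈ Subgroup.normalizer (X : Set G) := by
    apply Subgroup.centralizer_le_normalizer
    rw [Subgroup.mem_centralizer_iff]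
    intro x hx
    exact Γ.za_comm (Γ.side_a ha' (Γ.side_c h ha)) hu
      (Γ.one_kn_le hb ha (Γ.adj_symm h) ha' hne.symm hx.2.1 hx.1)
  have hbot : X = ⊥ := Γ.faith h X hXe hN
    (Γ.stb_le (Γ.adj_symm h) (fun g hg => hN hg.2) huN hue.2 hua)
  haveI : Finite X := Γ.fin_le h hXe
  have hX1 : Nat.card X = 1 := by rw [hbot]; exact Subgroup.card_bot
  have fk : Finite (Γ.kn a) := Γ.fin_le h (Γ.kn_le_edg h)
  have s0 := Γ.card_le_two h le_rfl (Y := Γ.kn a) inf_le_right fk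
  have fi : ∀ {Y : Subgroup G}, Y ≤ Γ.kn a → Finite Y := fun hY =>
    Γ.fin_le h (hY.trans (Γ.kn_le_edg h))
  have he : ∀ {w : V}, Γ.Adj a w → Γ.kn a ≤ edg G w a := fun hw g hg =>
    ⟨Γ.smul_of_kn hg hw, (Γ.mem_kn.1 hg).1⟩
  have s1 := Γ.card_le_two (Γ.adj_symm h) (he h) le_rfl (fi inf_le_left)
  have s2 := Γ.card_le_two (Γ.adj_symm h') ((inf_le_left (b := Γ.kn c)).trans (he h'))
    le_rfl (fi (inf_le_left.trans inf_le_left))
  have s3 := Γ.card_le_two (Γ.adj_symm h'')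
    (((inf_le_left (b := Γ.kn c')).trans (inf_le_left (b := Γ.kn c))).trans (he h''))
    (Y := X) (by rw [hX, inf_assoc, inf_assoc]) ‹_›
  omega

end H79.GAm.Deep
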