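import Cfsg.Agent.H79.GAmalgam.Single

/-!
For `b ≥ 3`: two vertices at a common neighbour share only its centre, and walks of length up to
four are permuted transitively.
-/

set_option autoImplicit false
set_option linter.style.haveILetI false

namespace H79.GAm.Deep

open MulAction

variable {G : Type*} [Group G] {V : Type*} [MulAction G V] (Γ : Deep G V)

theorem exists_kn_pair (hb : 3 ≤ Γ.b) {a c a' : V} (ha : Γ.side a = true) (h : Γ.Adj c a)
    (h' : Γ.Adj c a') (hne : a ≠ a') : ∃ q, q ∈ Γ.kn c ∧ q ∈ Γ.kn a' ∧ q ∉ Γ.kn a := by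
  by_contra hcon
  push Not at hcon
  have hc := Γ.side_c (Γ.adj_symm h) ha
  have ha' := Γ.side_a h' hc
  obtain ⟨a'', h'', n1, n2⟩ := Γ.exists_third h h' hne
  have ha'' := Γ.side_a h'' hc
  -- the statement for every ordered pair
  have hall : ∀ x y, Γ.Adj c x → Γ.Adj c y → y ≠ x → ∀ q ∈ Γ.kn c, q ∈ Γ.kn y → q ∈ Γ.kn x := by
    intro x y hx hy hyx q hq hqy
    obtain ⟨g, hg⟩ := Γ.tr_two true
      (fun i => if i = 0 then a' else if i = 1 then c else a)
      (fun i => if i = 0 then y else if i = 1 then c else x)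
      ⟨fun i hi => by
        rcases (show i = 0 ∨ i = 1 by omega) with rfl | rfl
        · simpa using Γ.adj_symm h'
        · simpa using h, fun i hi => by
        obtain rfl : i = 0 := (by omega)
        simpa using hne⟩
      ⟨fun i hi => by
        rcases (show i = 0 ∨ i = 1 by omega) with rfl | rfl
        · simpa using Γ.adj_symm hy
        · simpa using hx, fun i hi => by
        obtain rfl : i = 0 := (by omega)
        simpa using hyx.symm⟩
      (by simpa using ha') (by simpa using Γ.side_a hy hc)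
    have g0 : g • a' = y := by simpa using hg 0 (by omega)
    have g1 : g • c = c := by simpa using hg 1 (by omega)
    have g2 : g • a = x := by simpa using hg 2 le_rfl
    have e : g * (g⁻¹ * q * g) * g⁻¹ = q := by group
    rw [← e, ← g2, Γ.conj_mem_kn_iff]
    refine hcon _ ?_ ?_
    · rw [← Γ.conj_mem_kn_iff (g := g), e, g1]; exact hq
    · rw [← Γ.conj_mem_kn_iff (g := g), e, g0]; exact hqy
  obtain ⟨t, htk, htc⟩ := SetLike.not_le_iff_exists.1 (Γ.kn_not_le ha'' (Γ.adj_symm h'')).2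
  have hte : t ∈ edg G c a'' :=
    ⟨Γ.smul_of_kn htk (Γ.adj_symm h''), (Γ.mem_kn.1 htk).1⟩
  have htta : t * t ∈ Γ.kn a :=
    hall a a'' h h'' n1 _ (Γ.mul_mem_kn h'' hte htc hte htc) (mul_mem htk htk)
  have hs := Γ.smul_other h'' h h' n1 n2 hne hte.1 hte.2 (Γ.moves h'' h n1.symm hte htc)
  have hle : ∀ x ∈ Γ.za a, x ∈ Γ.za a' := by
    intro x hx
    set x' := t * x * t⁻¹ with hx'
    have hx'a : x' ∈ Γ.za a' := hs.1 ▸ Γ.conj_za hx t
    have hxx : x * x' = x' * x :=
      Γ.za_za ha ha' (n := 2) (by omega) (Γ.wk_two (Γ.adj_symm h) h') hx hx'a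
    have hp2 : x * x' * (x * x') = 1 := by
      calc x * x' * (x * x') = x * (x' * x) * x' := by group
        _ = x * x * (x' * x') := by rw [← hxx]; group
        _ = 1 := by rw [Γ.za_sq ha hx, Γ.za_sq ha' hx'a, mul_one]
    have hfix : ∀ r ∈ Γ.kn c, r * (x * x') = x * x' * r := by
      intro r hr
      by_cases hra : r ∈ Γ.kn a
      · rw [← mul_assoc, Γ.za_comm ha hx hra, mul_assoc,
          Γ.za_comm ha' hx'a (hall a' a h' h hne r hr hra), ← mul_assoc]
      have hre : r ∈ edg G a c := ⟨Γ.smul_of_kn hr h, (Γ.mem_kn.1 hr).1⟩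
      obtain ⟨e, he⟩ : ∃ e, e = x * (r * x * r⁻¹) := ⟨_, rfl⟩
      have hez : e ∈ Γ.zc c := he ▸ Γ.za_comm_mem ha (Γ.adj_symm h) hx hre
      set s := t⁻¹ * r * t with hsd
      have hsc : s ∈ Γ.kn c := by
        have := Γ.kn_normal (inv_smul_eq_iff.2 (show t • c = c from hte.1).symm) hr
        rwa [inv_inv] at this
      have hsa : s ∉ Γ.kn a := by
        intro hsa
        apply hra
        refine hall a a' h h' hne.symm r hr ?_
        have := Γ.conj_mem_kn hsa t
        rw [hs.1, show t * s * t⁻¹ = r by rw [hsd]; group] at this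
        exact this
      have hse : s ∈ edg G a c := ⟨Γ.smul_of_kn hsc h, (Γ.mem_kn.1 hsc).1⟩
      have h1 := Γ.za_comm ha hx (Γ.mul_mem_kn (Γ.adj_symm h) hre hra hse hsa)
      have h2 := Γ.za_comm ha hx (Γ.mul_mem_kn (Γ.adj_symm h) hre hra hre hra)
      have hrs : r * x * r⁻¹ = s * x * s⁻¹ := by
        have e1 : s * x * s⁻¹ = r⁻¹ * x * r := by
          calc s * x * s⁻¹ = r⁻¹ * (r * s * x) * s⁻¹ := by group
            _ = r⁻¹ * (x * (r * s)) * s⁻¹ := by rw [h1]
            _ = _ := by group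
        rw [e1]
        calc r * x * r⁻¹ = r⁻¹ * (r * r * x) * r⁻¹ := by group
          _ = r⁻¹ * (x * (r * r)) * r⁻¹ := by rw [h2]
          _ = _ := by group
      have hxe : r * x * r⁻¹ = x * e := by rw [he, ← mul_assoc, Γ.za_sq ha hx, one_mul]
      have hxe' : r * x' * r⁻¹ = x' * e := by
        have : r * x' * r⁻¹ = t * (s * x * s⁻¹) * t⁻¹ := by rw [hsd, hx']; group
        rw [this, ← hrs, hxe, hx']
        calc t * (x * e) * t⁻¹ = t * x * (e * t⁻¹) := by group
          _ = t * x * (t⁻¹ * e) := by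
            rw [Γ.zc_comm hez (inv_smul_eq_iff.2 (show t • c = c from hte.1).symm)]
          _ = t * x * t⁻¹ * e := by group
      have key : r * (x * x') * r⁻¹ = x * x' := by
        calc r * (x * x') * r⁻¹ = r * x * r⁻¹ * (r * x' * r⁻¹) := by group
          _ = x * (e * x') * e := by rw [hxe, hxe']; group
          _ = x * (x' * e) * e := by
            rw [Γ.zc_comm hez (Γ.mem_kn.1 (Γ.za_mem_kn ha' (n := 1) (by omega)
              (Γ.wk_one (Γ.adj_symm h')) hx'a)).1]
          _ = x * x' * (e * e) := by group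
          _ = _ := by rw [Γ.zc_sq hez, mul_one]
      exact mul_inv_eq_iff_eq_mul.1 key
    have hpe : x * x' ∈ edg G c a'' := by
      have h1 := Γ.za_mem_kn ha (n := 1) (by omega) (Γ.wk_one (Γ.adj_symm h)) hx
      have h2 := Γ.za_mem_kn ha' (n := 1) (by omega) (Γ.wk_one (Γ.adj_symm h')) hx'a
      exact Γ.kn_le_edg h'' (mul_mem h1 h2)
    have htp : t * (x * x') = x * x' * t := by
      have h1 := Γ.za_comm ha hx htta
      calc t * (x * x') = x' * (t * t * x) * t⁻¹ := by rw [hx']; group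
        _ = x' * (x * (t * t)) * t⁻¹ := by rw [h1]
        _ = x' * x * t := by group
        _ = _ := by rw [← hxx]
    have hz : x * x' ∈ Γ.zc c := Γ.mem_zc hc h'' hpe hp2 fun g hg => by
      rcases Γ.mem_or h'' hte htc hg with h1 | h1
      · exact hfix g h1
      · have h2 := hfix _ h1
        rw [mul_assoc, htp, ← mul_assoc g, ← mul_assoc (x * x') g] at h2
        exact mul_right_cancel h2
    have : x = x * x' * x' := by rw [mul_assoc, Γ.za_sq ha' hx'a, mul_one]
    rw [this]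
    exact mul_mem (Γ.zc_le_za (Γ.adj_symm h') hz) hx'a
  -- all the `za` around `c` are equal
  have heq : ∀ x, Γ.Adj c x → Γ.za x = Γ.za a := by
    have hle' : ∀ x y, Γ.Adj c x → Γ.Adj c y → x ≠ y → Γ.za x ≤ Γ.za y := by
      intro x y hx hy hxy p hp
      obtain ⟨g, hg⟩ := Γ.tr_two true
        (fun i => if i = 0 then a' else if i = 1 then c else a)
        (fun i => if i = 0 then y else if i = 1 then c else x)
        ⟨fun i hi => by
          rcases (show i = 0 ∨ i = 1 by omega) with rfl | rfl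
          · simpa using Γ.adj_symm h'
          · simpa using h, fun i hi => by
          obtain rfl : i = 0 := (by omega)
          simpa using hne⟩
        ⟨fun i hi => by
          rcases (show i = 0 ∨ i = 1 by omega) with rfl | rfl
          · simpa using Γ.adj_symm hy
          · simpa using hx, fun i hi => by
          obtain rfl : i = 0 := (by omega)
          simpa using hxy⟩
        (by simpa using ha') (by simpa using Γ.side_a hy hc)
      have g0 : g • a' = y := by simpa using hg 0 (by omega)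
      have g2 : g • a = x := by simpa using hg 2 le_rfl
      have h1 := Γ.conj_za hp g⁻¹
      rw [← g2, inv_smul_smul] at h1
      have h2 := Γ.conj_za (hle _ h1) g
      rw [g0] at h2
      simpa [mul_assoc] using h2
    intro x hx
    rcases eq_or_ne x a with rfl | hxa
    · rfl
    · exact le_antisymm (hle' x a hx h hxa) (hle' a x h hx hxa.symm)
  obtain ⟨x, hx, hx1⟩ := Γ.za_ne_bot ha
  refine hx1 (Subgroup.mem_bot.1 ?_)
  have := Γ.faith h (Γ.za a) ?_ ?_ ?_
  · rwa [this] at hx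
  · intro y hy
    have := Γ.za_le_edg ha (Γ.adj_symm h) hy
    exact ⟨this.2, this.1⟩
  · intro g hg
    rw [Subgroup.mem_normalizer_iff]
    refine fun y => ⟨fun hy => ?_, fun hy => ?_⟩
    · have := Γ.conj_za hy g
      rwa [heq _ (Γ.side_smul_adj h hg)] at this
    · have h1 := Γ.conj_za hy g⁻¹
      rw [heq _ (Γ.side_smul_adj h (inv_smul_eq_iff.2 (show g • c = c from hg).symm))] at h1
      simpa [mul_assoc] using h1
  · intro g hg
    rw [Subgroup.mem_normalizer_iff]
    refine fun y => ⟨fun hy => Γ.za_normal hy hg, fun hy => ?_⟩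
    have := Γ.za_normal hy (inv_smul_eq_iff.2 (show g • a = a from hg).symm)
    simpa [mul_assoc] using this

theorem za_inter (hb : 3 ≤ Γ.b) {a c a' : V} (ha : Γ.side a = true) (h : Γ.Adj c a)
    (h' : Γ.Adj c a') (hne : a ≠ a') {x : G} (hx : x ∈ Γ.za a) (hx' : x ∈ Γ.za a') :
    x ∈ Γ.zc c := by
  obtain ⟨q, hqc, hqa', hqa⟩ := Γ.exists_kn_pair hb ha h h' hne
  exact Γ.za_fixed ha (Γ.adj_symm h) hx ⟨Γ.smul_of_kn hqc h, (Γ.mem_kn.1 hqc).1⟩ hqa
    (Γ.za_comm (Γ.side_a h' (Γ.side_c (Γ.adj_symm h) ha)) hx' hqa')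

theorem zel_four {K : Γ.K1} (hb : 3 ≤ Γ.b) {c₀ a c a' c₁ : V} (ha : Γ.side a = true)
    (h0 : Γ.Adj a c₀) (h : Γ.Adj a c) (h' : Γ.Adj c a') (h1 : Γ.Adj a' c₁)
    (n0 : c₀ ≠ c) (hne : a ≠ a') : Γ.zel c₀ ≠ Γ.zel c₁ := by
  intro e
  have hc := Γ.side_c h ha
  have hm := Γ.za_inter hb ha (Γ.adj_symm h) h' hne (Γ.zel_za ha h0)
    (e ▸ Γ.zel_za (Γ.side_a h' hc) h1)
  exact Γ.zel_ne ha h0 h n0 (K.eq_zel hc hm (Γ.zel_spec (Γ.side_c h0 ha)).2)

theorem tr_three (hb : 3 ≤ Γ.b) : Γ.Tr true 3 := by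
  obtain ⟨f, hf⟩ := Γ.exists_Crit
  have ha : Γ.side (f 2) = true := hf.side_even (by omega) ⟨1, rfl⟩
  obtain ⟨q, hqc, hqa', hqa⟩ := Γ.exists_kn_pair hb ha (hf.1.1 1 (by omega))
    (hf.1.adj' (show 0 < Γ.b + 1 by omega)) (hf.1.2 0 (by omega))
  refine Γ.tr_succ (by omega) (Γ.tr_two true) ⟨f, q, hf.1.mono (by omega), hf.2.1, ?_, ?_⟩
  · intro j hj
    rcases (show j = 0 ∨ j = 1 ∨ j = 2 by omega) with rfl | rfl | rfl
    exacts [(Γ.mem_kn.1 hqa').1, (Γ.mem_kn.1 hqc).1, Γ.smul_of_kn hqc (hf.1.1 1 (by omega))]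
  · exact Γ.moves (hf.1.adj' (show 1 < Γ.b + 1 by omega)) (hf.1.1 2 (by omega))
      (hf.1.2 1 (by omega))
      ⟨Γ.smul_of_kn hqc (hf.1.1 1 (by omega)), (Γ.mem_kn.1 hqc).1⟩ hqa

theorem tr_four_false (hb : 3 ≤ Γ.b) : Γ.Tr false 4 := by
  obtain ⟨f, hf⟩ := Γ.exists_Crit
  have ha : Γ.side (f 4) = true := hf.side_even (by omega) ⟨2, rfl⟩
  obtain ⟨q, hqc, hqa', hqa⟩ := Γ.exists_kn_pair hb ha (hf.1.1 3 (by omega))
    (hf.1.adj' (show 2 < Γ.b + 1 by omega)) (hf.1.2 2 (by omega))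
  have hq4 : q ∈ edg G (f 4) (f 3) :=
    ⟨Γ.smul_of_kn hqc (hf.1.1 3 (by omega)), (Γ.mem_kn.1 hqc).1⟩
  obtain ⟨x, hx, hxn⟩ := Γ.exists_ne (hf.1.adj' (show 3 < Γ.b + 1 by omega))
  have h3 : Γ.Tr false 3 := by
    have := (Γ.tr_three hb).rev
    rwa [if_neg (by decide : ¬ Even 3)] at this
  refine Γ.tr_succ (by omega) h3
    ⟨fun i => if i ≤ 3 then f (1 + i) else x, q, ?_, ?_, ?_, ?_⟩
  · refine (hf.1.drop (k := 1) (m := 3) (by omega)).snoc hx fun m hm => ?_
    obtain rfl : m = 2 := by omega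
    exact hxn
  · simpa using hf.side_odd (j := 1) (by omega) (by decide)
  · intro j hj
    simp only [if_pos hj]
    rcases (show j = 0 ∨ j = 1 ∨ j = 2 ∨ j = 3 by omega) with rfl | rfl | rfl | rfl
    exacts [Γ.smul_of_kn hqa' (hf.1.adj' (show 1 < Γ.b + 1 by omega)), (Γ.mem_kn.1 hqa').1,
      (Γ.mem_kn.1 hqc).1, hq4.1]
  · simpa using Γ.moves (hf.1.adj' (show 3 < Γ.b + 1 by omega)) hx hxn hq4 hqa

theorem tr_four (hb : 3 ≤ Γ.b) (hodd : ¬ Even Γ.b) : Γ.Tr true 4 := by
  refine Γ.tr_free (by omega) hb ?_ (Γ.tr_three hb)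
  rw [Nat.even_iff] at hodd ⊢
  omega

end H79.GAm.Deep
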