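import Cfsg.Agent.H79.GAmalgam.Pairs

/-!
Critical walks can be shifted; each `zc c` has order two for `b ≥ 2`; `b` is not even and at
least four.
-/

set_option autoImplicit false
set_option linter.style.haveILetI false

namespace H79.GAm.Deep

open MulAction

variable {G : Type*} [Group G] {V : Type*} [MulAction G V] (Γ : Deep G V)

/-- a blocked length -/
theorem exists_blocked (h : ¬ Γ.Tr true Γ.b) :
    ∃ i, 1 ≤ i ∧ i < Γ.b ∧ ¬ Even (Γ.b - i) ∧ ∀ f : ℕ → V, Γ.Red i f → Γ.side (f 0) = true →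
      ∀ g : G, (∀ j ≤ i, g • f j = f j) → g ∈ Γ.kn (f i) := by
  classical
  obtain ⟨i, h1, hi, ht, hn⟩ : ∃ i, 1 ≤ i ∧ i < Γ.b ∧ Γ.Tr true i ∧ ¬ Γ.Tr true (i + 1) := by
    by_contra hcon
    push Not at hcon
    have : ∀ i, 1 ≤ i → i ≤ Γ.b → Γ.Tr true i := by
      intro i hi
      induction i, hi using Nat.le_induction with
      | base => exact fun _ => Γ.tr_one true
      | succ n hn ih => exact fun hle => hcon n hn (by omega) (ih (by omega))
    exact h (this _ Γ.one_le le_rfl)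
  exact ⟨i, h1, hi, fun hp => hn (Γ.tr_free h1 hi.le hp ht),
    fun f hf hs g hg => Γ.blocked h1 ht hn hf hs hg⟩

/-- put two vertices in front of a walk -/
def pre2 (a c : V) (f : ℕ → V) : ℕ → V
  | 0 => a
  | 1 => c
  | i + 2 => f i

theorem red_pre2 {n : ℕ} {f : ℕ → V} (hf : Γ.Red n f) {a c : V} (h1 : Γ.Adj a c)
    (h2 : Γ.Adj c (f 0)) (hne : a ≠ f 0) (hne' : ∀ m, n = m + 1 → c ≠ f 1) :
    Γ.Red (n + 2) (pre2 a c f) := by
  constructor
  · intro i hi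
    match i with
    | 0 => exact h1
    | 1 => exact h2
    | j + 2 => exact hf.1 j (by omega)
  · intro i hi
    match i with
    | 0 => exact hne.symm
    | 1 => exact (hne' (n - 1) (by omega)).symm
    | j + 2 => exact hf.2 j (by omega)

/-- there is a critical walk two steps further back -/
def HasShift (f : ℕ → V) : Prop :=
  ∃ f', Γ.Crit f' ∧ ∀ i, i + 2 ≤ Γ.b + 1 → f' (i + 2) = f i

theorem shift_of_tr {f : ℕ → V} (hf : Γ.Crit f) (h : Γ.Tr true Γ.b) : Γ.HasShift f := by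
  obtain ⟨c, hc, hcn⟩ := Γ.exists_ne (hf.1.1 0 (by omega))
  obtain ⟨a, ha, han⟩ := Γ.exists_ne (Γ.adj_symm hc)
  refine ⟨pre2 a c f, Γ.crit_of_tr (Γ.tr_free Γ.one_le le_rfl (by simp) h) ?_ ?_,
    fun i _ => rfl⟩
  · exact (Γ.red_pre2 (hf.1.mono (show Γ.b - 1 ≤ Γ.b + 1 by omega)) (Γ.adj_symm ha)
      (Γ.adj_symm hc) han fun m _ => hcn).mono (by have := Γ.one_le; omega)
  · show Γ.side a = true
    rw [Γ.side_adj ha, Γ.side_adj hc, hf.2.1]; rfl

theorem no_shift {f : ℕ → V} (hf : Γ.Crit f) (hb : 2 ≤ Γ.b) (hn : ¬ Γ.HasShift f) {c a : V}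
    (hc : Γ.Adj (f 0) c) (ha : Γ.Adj c a) {x : G} (hx : x ∈ Γ.za a) :
    x • f (Γ.b - 1) = f (Γ.b - 1) := by
  have hsa : Γ.side a = true := Γ.side_a ha (Γ.side_c hc hf.2.1)
  by_cases h1 : c = f 1
  · exact Γ.za_fix hsa (n := 1 + (Γ.b - 2)) (by omega)
      (Γ.wk_add (Γ.wk_one (h1 ▸ Γ.adj_symm ha)) (hf.1.wk (i := 1) (by omega) (by omega))) hx
  by_cases h2 : a = f 0
  · exact Γ.za_fix hsa (n := Γ.b - 1) (by omega)
      (h2 ▸ hf.1.wk (i := 0) (by omega) (by omega)) hx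
  by_contra hmov
  refine hn ⟨pre2 a c f, ⟨?_, hsa, fun hle => hmov ?_⟩, fun i _ => rfl⟩
  · exact (Γ.red_pre2 (hf.1.mono (show Γ.b - 1 ≤ Γ.b + 1 by omega)) (Γ.adj_symm ha)
      (Γ.adj_symm hc) h2 fun m _ => h1).mono (by omega)
  · have := hle hx
    rw [show Γ.b + 1 = (Γ.b - 1) + 2 by omega] at this
    exact this

theorem k1_even (he : Even Γ.b) : Γ.K1 := by
  obtain ⟨f, hf⟩ := Γ.exists_Crit
  obtain ⟨z, hz, -, hzk, hzf⟩ := hf.mover
  have hb := Γ.one_le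
  have hb2 : 2 ≤ Γ.b := by rw [Nat.even_iff] at he; omega
  have ha := hf.side_even (show Γ.b ≤ Γ.b + 1 by omega) he
  obtain ⟨k, hk⟩ : ∃ k, Γ.b = k + 1 := ⟨Γ.b - 1, by omega⟩
  have hadj : Γ.Adj (f Γ.b) (f k) := by rw [hk]; exact hf.1.adj' (by omega)
  refine Γ.k1_of ha hadj (Γ.side_c hadj ha) ?_
  have hX : Γ.za (f Γ.b) ≤ edg G (f 0) (f 1) := fun x hx =>
    ⟨Γ.za_fix ha le_rfl (hf.1.wk' (i := 0) (by omega) (by omega)) hx,
      Γ.za_fix ha (n := k) (by omega) (hf.1.wk' (i := 1) (by omega) (by omega)) hx⟩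
  refine Γ.card_le_two (hf.1.1 0 (by omega)) hX (fun x hx => ?_)
    (Γ.fin_le (Γ.adj_symm hadj) fun y hy => Γ.kn_le_edg (Γ.adj_symm hadj) hy.1)
  exact Γ.za_fixed ha hadj hx.1 ⟨hzf _ le_rfl, hzf k (by omega)⟩ hzk
    (Γ.za_comm hf.2.1 hz hx.2).symm

/-- for even `b` the second and the last but one vertex have the same involution -/
theorem zel_eq_even (K : Γ.K1) (he : Even Γ.b) {f : ℕ → V} (hf : Γ.Crit f) :
    Γ.zel (f 1) = Γ.zel (f (Γ.b - 1)) ∧ ∃ u ∈ Γ.za (f Γ.b), u ∉ Γ.kn (f 0) := by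
  obtain ⟨z, hz, -, hzk, hzf⟩ := hf.mover
  have hb : 2 ≤ Γ.b := by have := Γ.one_le; rw [Nat.even_iff] at he; omega
  have ha := hf.side_even (show Γ.b ≤ Γ.b + 1 by omega) he
  obtain ⟨k, hk⟩ : ∃ k, Γ.b = k + 1 := ⟨Γ.b - 1, by omega⟩
  have hadj : Γ.Adj (f Γ.b) (f k) := by rw [hk]; exact hf.1.adj' (by omega)
  have hze : z ∈ edg G (f Γ.b) (f k) := ⟨hzf _ le_rfl, hzf k (by omega)⟩
  obtain ⟨u, hu, hu'⟩ := SetLike.not_le_iff_exists.1 (Γ.za_not_le ha hadj)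
  have hne : z * u ≠ u * z := fun e => hu' (Γ.za_fixed ha hadj hu hze hzk e)
  have hu0 : u ∉ Γ.kn (f 0) := fun e => hne (Γ.za_comm hf.2.1 hz e).symm
  have hue : u ∈ edg G (f 0) (f 1) :=
    ⟨Γ.za_fix ha le_rfl (hf.1.wk' (i := 0) (by omega) (by omega)) hu,
      Γ.za_fix ha (n := k) (by omega) (hf.1.wk' (i := 1) (by omega) (by omega)) hu⟩
  refine ⟨?_, u, hu, hu0⟩
  have e1 := Γ.za_comm_mem ha hadj hu hze
  have e2 := Γ.za_comm_mem hf.2.1 (hf.1.1 0 (by omega)) hz hue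
  have ui := Γ.za_inv ha hu
  have zi := Γ.za_inv hf.2.1 hz
  have h1 : u * (z * u * z⁻¹) ≠ 1 := fun e => hne (by
    have := mul_eq_one_iff_inv_eq.1 e
    rw [ui] at this
    exact (mul_inv_eq_iff_eq_mul.1 this.symm))
  have heq : z * (u * z * u⁻¹) = (u * (z * u * z⁻¹))⁻¹ := by
    simp only [mul_inv_rev, mul_assoc, ui, zi]
  rw [inv_eq_of_mul_eq_one_right (Γ.zc_sq e1)] at heq
  rw [heq] at e2
  rw [show Γ.b - 1 = k by omega, ← K.eq_zel (hf.side_odd (by omega) (by decide)) e2 h1,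
    ← K.eq_zel (Γ.side_c hadj ha) e1 h1]

/-- the subgroup generated by the `za` around `c` -/
def vc (c : V) : Subgroup G := ⨆ a, ⨆ (_ : Γ.Adj c a), Γ.za a

theorem za_le_vc {a c : V} (h : Γ.Adj c a) : Γ.za a ≤ Γ.vc c := le_iSup₂_of_le a h le_rfl

theorem vc_le_conj (c : V) (g : G) :
    Γ.vc c ≤ (Γ.vc (g • c)).comap (MulAut.conj g).toMonoidHom :=
  iSup₂_le fun _ ha _ hx => Γ.za_le_vc (Γ.adj_smul ha g) (Γ.conj_za hx g)

theorem conj_vc {c : V} {x : G} (h : x ∈ Γ.vc c) (g : G) : g * x * g⁻¹ ∈ Γ.vc (g • c) :=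
  Γ.vc_le_conj c g h

theorem stb_le_normalizer_vc (c : V) : stb G c ≤ Subgroup.normalizer (Γ.vc c : Set G) := by
  intro g hg
  rw [Subgroup.mem_normalizer_iff]
  refine fun x => ⟨fun hx => ?_, fun hx => ?_⟩
  · have := Γ.conj_vc hx g
    rwa [show g • c = c from hg] at this
  · have := Γ.conj_vc hx g⁻¹
    rw [inv_smul_eq_iff.2 (show g • c = c from hg).symm] at this
    simpa [mul_assoc] using this

theorem vc_le_edg (hb : 2 ≤ Γ.b) {a c : V} (ha : Γ.side a = true) (h : Γ.Adj a c) :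
    Γ.vc c ≤ edg G a c :=
  iSup₂_le fun x hx y hy => by
    have hxA := Γ.side_a hx (Γ.side_c h ha)
    exact ⟨Γ.za_fix hxA (n := 2) hb (Γ.wk_two (Γ.adj_symm hx) (Γ.adj_symm h)) hy,
      Γ.za_fix hxA (n := 1) (by omega) (Γ.wk_one (Γ.adj_symm hx)) hy⟩

theorem shift_even (K : Γ.K1) (he : Even Γ.b) (hb : 3 ≤ Γ.b) {f : ℕ → V} (hf : Γ.Crit f) :
    Γ.HasShift f := by
  by_cases htr : Γ.Tr true Γ.b
  · exact Γ.shift_of_tr hf htr
  by_contra hn
  obtain ⟨i, hi1, hib, hpar, hblk⟩ := Γ.exists_blocked htr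
  rw [Nat.even_iff] at he hpar
  obtain ⟨hR, u, hu, huk⟩ := Γ.zel_eq_even K (Nat.even_iff.2 he) hf
  have ha := hf.side_even (show Γ.b ≤ Γ.b + 1 by omega) (Nat.even_iff.2 he)
  obtain ⟨k, hk⟩ : ∃ k, Γ.b = k + 1 := ⟨Γ.b - 1, by omega⟩
  have hadj : Γ.Adj (f Γ.b) (f k) := by rw [hk]; exact hf.1.adj' (by omega)
  have hck := Γ.side_c hadj ha
  rw [show Γ.b - 1 = k by omega] at hR
  have h01 := hf.1.1 0 (by omega)
  have hue : u ∈ edg G (f 0) (f 1) :=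
    ⟨Γ.za_fix ha le_rfl (hf.1.wk' (i := 0) (by omega) (by omega)) hu,
      Γ.za_fix ha (n := k) (by omega) (hf.1.wk' (i := 1) (by omega) (by omega)) hu⟩
  -- `u` normalises every `vc` of a neighbour of `f 0`
  have key : ∀ c, Γ.Adj (f 0) c → ∀ x ∈ Γ.vc c, u * x * u⁻¹ ∈ Γ.vc c := by
    intro c hc
    suffices h : Γ.vc c ≤ (Γ.vc c).comap (MulAut.conj u).toMonoidHom from fun x hx => h hx
    refine iSup₂_le fun a ha' x hx => ?_
    show u * x * u⁻¹ ∈ Γ.vc c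
    have hsa : Γ.side a = true := Γ.side_a ha' (Γ.side_c hc hf.2.1)
    have hfix : ∀ j ≤ k, x • f j = f j := by
      intro j hj
      rcases Nat.lt_or_ge j k with h | h
      · exact Γ.za_fix hsa (n := 2 + j) (by omega) (Γ.wk_add
          (Γ.wk_two (Γ.adj_symm ha') (Γ.adj_symm hc)) (hf.1.wk (i := 0) (by omega) (by omega))) hx
      · obtain rfl : j = k := by omega
        have := Γ.no_shift hf (by omega) hn hc ha' hx
        rwa [show Γ.b - 1 = j by omega] at this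
    have hxk : x ∈ Γ.kn (f k) := by
      have := hblk (fun j => f (k - i + j)) (hf.1.drop (by omega)) ?_ x fun j hj => hfix _ (by omega)
      · rwa [show k - i + i = k by omega] at this
      · exact hf.side_even (by omega) (Nat.even_iff.2 (by omega))
    have hxe : x ∈ edg G (f Γ.b) (f k) :=
      ⟨Γ.smul_of_kn hxk (Γ.adj_symm hadj), (Γ.mem_kn.1 hxk).1⟩
    have he' := Γ.za_comm_mem ha hadj hu hxe
    have hmem : Γ.zel (f k) ∈ Γ.vc c := by
      rw [← hR]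
      exact Γ.za_le_vc (Γ.adj_symm hc) (Γ.zel_za hf.2.1 h01)
    have hmem' : u * (x * u * x⁻¹) ∈ Γ.vc c := by
      rcases K.or_zel hck he' with e | e <;> rw [e]
      exacts [one_mem _, hmem]
    have := mul_mem hmem' (Γ.za_le_vc ha' hx)
    rw [show u * (x * u * x⁻¹) * x = u * x * u by group] at this
    rwa [Γ.za_inv ha hu]
  obtain ⟨c1, c2, hc1, hc2, n1, n2, n3⟩ := Γ.third h01
  have hsw := Γ.smul_other h01 hc1 hc2 n1.symm n2.symm n3 hue.1 hue.2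
    (Γ.moves h01 hc1 n1 hue huk)
  have e12 : Γ.vc c1 = Γ.vc c2 := by
    refine le_antisymm (fun x hx => ?_) (fun x hx => ?_)
    · have h1 := key c1 hc1 x hx
      have h2 := Γ.conj_vc h1 u⁻¹
      rw [inv_smul_eq_iff.2 hsw.2.symm] at h2
      simpa [mul_assoc] using h2
    · have h1 := key c2 hc2 x hx
      have h2 := Γ.conj_vc h1 u⁻¹
      rw [inv_smul_eq_iff.2 hsw.1.symm] at h2
      simpa [mul_assoc] using h2
  obtain ⟨t, ht, htk⟩ := Γ.exists_swap hc1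
  have hst := Γ.smul_other hc1 hc2 h01 n3 n1 n2 ht.1 ht.2 (Γ.moves hc1 hc2 n3.symm ht htk)
  have e13 : Γ.vc c1 = Γ.vc (f 1) := by
    have hmap : ∀ (g : G) (c c' : V), g • c = c' → Γ.vc c' =
        (Γ.vc c).map (MulAut.conj g).toMonoidHom := by
      rintro g c _ rfl
      refine le_antisymm (fun x hx => Subgroup.mem_map.2 ⟨g⁻¹ * x * g, ?_, by simp [mul_assoc]⟩) ?_
      · have := Γ.conj_vc hx g⁻¹
        rwa [inv_inv, inv_smul_smul] at this
      · rintro _ ⟨x, hx, rfl⟩; exact Γ.conj_vc hx g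
    rw [hmap t c1 c1 ht.2, hmap t c2 (f 1) hst.1, e12]
  have hN : stb G (f 0) ≤ Subgroup.normalizer (Γ.vc c1 : Set G) := by
    have hall : ∀ c, Γ.Adj (f 0) c → Γ.vc c = Γ.vc c1 := by
      intro c hc
      rcases Γ.three h01 hc1 hc2 hc n1.symm n2.symm n3 with rfl | rfl | rfl
      exacts [e13.symm, rfl, e12.symm]
    intro g hg
    rw [Subgroup.mem_normalizer_iff]
    refine fun x => ⟨fun hx => ?_, fun hx => ?_⟩
    · have := Γ.conj_vc hx g
      rwa [hall _ (Γ.side_smul_adj hc1 hg)] at this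
    · have := Γ.conj_vc hx g⁻¹
      rw [hall _ (Γ.side_smul_adj hc1 (inv_smul_eq_iff.2 (show g • f 0 = f 0 from hg).symm))] at this
      simpa [mul_assoc] using this
  have hbot := Γ.faith hc1 (Γ.vc c1) (Γ.vc_le_edg (by omega) hf.2.1 hc1) hN
    (Γ.stb_le_normalizer_vc c1)
  obtain ⟨x, hx, hx1⟩ := Γ.za_ne_bot hf.2.1
  exact hx1 (Subgroup.mem_bot.1 (hbot ▸ Γ.za_le_vc (Γ.adj_symm hc1) hx))

/-- `b` is not an even number greater than two -/
theorem no_even (he : Even Γ.b) (hb : 3 ≤ Γ.b) : False := by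
  have K := Γ.k1_even he
  rw [Nat.even_iff] at he
  obtain ⟨f, hf⟩ := Γ.exists_Crit
  obtain ⟨hR, -⟩ := Γ.zel_eq_even K (Nat.even_iff.2 he) hf
  obtain ⟨p, hp, hpf⟩ := Γ.shift_even K (Nat.even_iff.2 he) hb hf
  obtain ⟨g, hg, hgm, -, hgf⟩ := hp.mover
  obtain ⟨k, hk⟩ : ∃ k, Γ.b = k + 2 := ⟨Γ.b - 2, by omega⟩
  have e1 : p (Γ.b + 1) = f (k + 1) := by rw [← hpf (k + 1) (by omega)]; congr 1; omega
  have e0 : p Γ.b = f k := by rw [← hpf k (by omega)]; congr 1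
  rw [show Γ.b - 1 = k + 1 by omega] at hR
  rw [e1] at hgm
  have hfix1 : g • f 1 = f 1 := by rw [← hpf 1 (by omega)]; exact hgf 3 hb
  have hfk : g • f k = f k := e0 ▸ hgf Γ.b le_rfl
  have hc1 : Γ.side (f 1) = false := hf.side_odd (by omega) (by decide)
  have hck : Γ.side (f (k + 1)) = false :=
    hf.side_odd (by omega) (by rw [Nat.even_iff]; omega)
  have h1 : g * Γ.zel (f 1) * g⁻¹ = Γ.zel (f 1) := by rw [K.conj_zel hc1, hfix1]
  rw [hR, K.conj_zel hck] at h1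
  have hadj := hf.1.1 k (by omega)
  exact Γ.zel_ne (hf.side_even (by omega) (Nat.even_iff.2 (by omega)))
    (Γ.side_smul_adj hadj hfk) hadj hgm h1

theorem shift_odd (ho : ¬ Even Γ.b) (hb : 3 ≤ Γ.b) {f : ℕ → V} (hf : Γ.Crit f) :
    Γ.HasShift f := by
  by_cases htr : Γ.Tr true Γ.b
  · exact Γ.shift_of_tr hf htr
  by_contra hn
  obtain ⟨i, hi1, hib, hpar, hblk⟩ := Γ.exists_blocked htr
  rw [Nat.even_iff] at ho hpar
  obtain ⟨z, hz, hzm, hzk, hzf⟩ := hf.mover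
  have hr := hf.side_even (show Γ.b + 1 ≤ Γ.b + 1 from le_rfl) (Nat.even_iff.2 (by omega))
  have hrv : Γ.Adj (f (Γ.b + 1)) (f Γ.b) := hf.1.adj' (by omega)
  have hvr := hf.1.1 Γ.b (by omega)
  have h01 := hf.1.1 0 (by omega)
  have h12 := hf.1.1 1 (by omega)
  -- some element of `za` at the end moves the start
  obtain ⟨u, hu, hu0⟩ : ∃ u ∈ Γ.za (f (Γ.b + 1)), u • f 0 ≠ f 0 := by
    by_contra hcon
    push Not at hcon
    refine Γ.za_not_le hr hrv fun u hu => ?_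
    have hfix : ∀ j ≤ i, u • f j = f j := by
      intro j hj
      rcases Nat.eq_zero_or_pos j with rfl | hj0
      · exact hcon u hu
      · exact Γ.za_fix hr (n := Γ.b + 1 - j) (by omega)
          (hf.1.wk' (i := j) (by omega) (by omega)) hu
    have huk : u ∈ Γ.kn (f 0) := by
      have := hblk (fun j => f (i - j)) (hf.1.mono (show i ≤ Γ.b + 1 by omega)).rev ?_ u
        fun j hj => hfix _ (by omega)
      · rwa [Nat.sub_self] at this
      · exact hf.side_even (by omega) (Nat.even_iff.2 (by omega))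
    exact Γ.za_inter hb hr hvr (Γ.adj_symm (Γ.side_smul_adj hvr (hzf _ le_rfl)) |> Γ.adj_symm)
      (Ne.symm hzm) hu (Γ.conj_za_eq hu (Γ.za_comm hf.2.1 hz huk).symm rfl)
  have hue : u ∈ edg G (f 1) (f 2) :=
    ⟨Γ.za_fix hr (n := Γ.b) le_rfl (hf.1.wk' (i := 1) (by omega) (by omega)) hu,
      Γ.za_fix hr (n := Γ.b - 1) (by omega) (hf.1.wk' (i := 2) (by omega) (by omega)) hu⟩
  set W : Subgroup G := ⨆ c, ⨆ (_ : Γ.Adj (f 0) c), Γ.vc c with hW
  have hgen : ∀ {c a : V}, Γ.Adj (f 0) c → Γ.Adj c a → Γ.za a ≤ W := fun hc ha =>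
    (Γ.za_le_vc ha).trans (le_iSup₂_of_le _ hc le_rfl)
  have h00 : Γ.za (f 0) ≤ W := hgen h01 (Γ.adj_symm h01)
  have key : ∀ x ∈ W, u * x * u⁻¹ ∈ W := by
    suffices h : W ≤ W.comap (MulAut.conj u).toMonoidHom from fun x hx => h hx
    refine iSup₂_le fun c hc => iSup₂_le fun a ha x hx => ?_
    show u * x * u⁻¹ ∈ W
    have hsa : Γ.side a = true := Γ.side_a ha (Γ.side_c hc hf.2.1)
    have hfix : ∀ j < Γ.b, x • f j = f j := by
      intro j hj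
      rcases Nat.lt_or_ge j (Γ.b - 1) with h | h
      · exact Γ.za_fix hsa (n := 2 + j) (by omega) (Γ.wk_add
          (Γ.wk_two (Γ.adj_symm ha) (Γ.adj_symm hc)) (hf.1.wk (i := 0) (by omega) (by omega))) hx
      · obtain rfl : j = Γ.b - 1 := by omega
        exact Γ.no_shift hf (by omega) hn hc ha hx
    obtain ⟨k, hk⟩ : ∃ k, Γ.b = k + 1 := ⟨Γ.b - 1, by omega⟩
    have hxk : x ∈ Γ.kn (f k) := by
      have := hblk (fun j => f (k - i + j)) (hf.1.drop (by omega)) ?_ x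
        fun j hj => hfix _ (by omega)
      · rwa [show k - i + i = k by omega] at this
      · exact hf.side_even (by omega) (Nat.even_iff.2 (by omega))
    have hadj : Γ.Adj (f Γ.b) (f k) := by rw [hk]; exact hf.1.adj' (by omega)
    have hxe : x ∈ edg G (f Γ.b) (f k) :=
      ⟨Γ.smul_of_kn hxk (Γ.adj_symm hadj), (Γ.mem_kn.1 hxk).1⟩
    have hze : z ∈ edg G (f Γ.b) (f k) := ⟨hzf _ le_rfl, hzf k (by omega)⟩
    have hin : ∀ w : G, w ∈ Γ.kn (f Γ.b) → (∀ j < Γ.b, w • f j = f j) → u * w * u⁻¹ = w := by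
      intro w hw hwf
      have hall : ∀ j ≤ Γ.b + 1, w • f j = f j := by
        intro j hj
        rcases Nat.lt_or_ge j Γ.b with h | h
        · exact hwf j h
        · rcases (show j = Γ.b ∨ j = Γ.b + 1 by omega) with rfl | rfl
          exacts [(Γ.mem_kn.1 hw).1, Γ.smul_of_kn hw hvr]
      have hwr : w ∈ Γ.kn (f (Γ.b + 1)) := by
        have := hblk (fun j => f (Γ.b + 1 - i + j)) (hf.1.drop (by omega)) ?_ w
          fun j hj => hall _ (by omega)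
        · rwa [show Γ.b + 1 - i + i = Γ.b + 1 by omega] at this
        · exact hf.side_even (by omega) (Nat.even_iff.2 (by omega))
      rw [← Γ.za_comm hr hu hwr, mul_inv_cancel_right]
    rcases Γ.mem_or hadj hze hzk hxe with h | h
    · rw [hin x h hfix]; exact hgen hc ha hx
    · have h1 : u * (x * z) * u⁻¹ = x * z := hin _ h fun j hj => by
        rw [mul_smul, hzf j hj.le, hfix j hj]
      have h2 : u * x * u⁻¹ = x * z * (u * z * u⁻¹) := by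
        calc u * x * u⁻¹ = u * (x * (z * z)) * u⁻¹ := by rw [Γ.za_sq hf.2.1 hz, mul_one]
          _ = u * (x * z) * u⁻¹ * (u * z * u⁻¹) := by group
          _ = _ := by rw [h1]
      rw [h2]
      refine mul_mem (mul_mem (hgen hc ha hx) (h00 hz)) ?_
      have h3 : Γ.Adj (f 1) (u • f 0) := Γ.side_smul_adj (Γ.adj_symm h01) hue.1
      exact hgen h01 h3 (Γ.conj_za hz u)
  have hN0 : stb G (f 0) ≤ Subgroup.normalizer (W : Set G) := by
    have hmem : ∀ g : G, g • f 0 = f 0 → ∀ x ∈ W, g * x * g⁻¹ ∈ W := by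
      intro g hg
      suffices h : W ≤ W.comap (MulAut.conj g).toMonoidHom from fun x hx => h hx
      refine iSup₂_le fun c hc x hx => ?_
      exact (le_iSup₂ (f := fun c (_ : Γ.Adj (f 0) c) => Γ.vc c) (g • c) (Γ.side_smul_adj hc hg))
        (Γ.conj_vc hx g)
    intro g hg
    rw [Subgroup.mem_normalizer_iff]
    refine fun x => ⟨hmem g hg x, fun hx => ?_⟩
    have := hmem g⁻¹ (inv_smul_eq_iff.2 (show g • f 0 = f 0 from hg).symm) _ hx
    simpa [mul_assoc] using this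
  have huN : u ∈ Subgroup.normalizer (W : Set G) := by
    rw [Subgroup.mem_normalizer_iff]
    refine fun x => ⟨key x, fun hx => ?_⟩
    have h1 := key _ hx
    rw [Γ.za_inv hr hu] at h1
    rwa [show u * (u * x * u) * u = u * u * x * (u * u) by group, Γ.za_sq hr hu, one_mul,
      mul_one] at h1
  have hWe : W ≤ edg G (f 0) (f 1) := by
    refine iSup₂_le fun c hc => iSup₂_le fun a ha x hx => ?_
    have hsa : Γ.side a = true := Γ.side_a ha (Γ.side_c hc hf.2.1)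
    have hw := Γ.wk_two (Γ.adj_symm ha) (Γ.adj_symm hc)
    exact ⟨Γ.za_fix hsa (n := 2) (by omega) hw hx,
      Γ.za_fix hsa (n := 3) hb (Γ.wk_add hw (Γ.wk_one h01)) hx⟩
  have hbot := Γ.faith h01 W hWe hN0
    (Γ.stb_le (Γ.adj_symm h01) (fun g hg => hN0 hg.2) huN hue.1 hu0)
  obtain ⟨x, hx, hx1⟩ := Γ.za_ne_bot hf.2.1
  exact hx1 (Subgroup.mem_bot.1 (hbot ▸ h00 hx))

theorem k1_odd (ho : ¬ Even Γ.b) (hb : 3 ≤ Γ.b) : Γ.K1 := by
  obtain ⟨f, hf⟩ := Γ.exists_Crit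
  obtain ⟨z, hz, hzm, hzk, hzf⟩ := hf.mover
  obtain ⟨p, hp, hpf⟩ := Γ.shift_odd ho hb hf
  obtain ⟨g, hg, hgm, -, hgf⟩ := hp.mover
  rw [Nat.even_iff] at ho
  obtain ⟨k, hk⟩ : ∃ k, Γ.b = k + 2 := ⟨Γ.b - 2, by omega⟩
  have hr := hf.side_even (show Γ.b + 1 ≤ Γ.b + 1 from le_rfl) (Nat.even_iff.2 (by omega))
  have hrv : Γ.Adj (f (Γ.b + 1)) (f Γ.b) := hf.1.adj' (by omega)
  have hvr := hf.1.1 Γ.b (by omega)
  have hcv := Γ.side_c hrv hr
  have hp1 : p (Γ.b + 1) = f (k + 1) := by rw [← hpf (k + 1) (by omega)]; congr 1; omega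
  have hp0 : p Γ.b = f k := by rw [← hpf k (by omega)]; congr 1
  rw [hp1] at hgm
  have hgk : g • f k = f k := hp0 ▸ hgf Γ.b le_rfl
  have hg1 : g • f 1 = f 1 := by rw [← hpf 1 (by omega)]; exact hgf 3 hb
  have hdis : ∀ x ∈ Γ.zc (f 1), x ∈ Γ.zc (f Γ.b) → x = 1 := by
    intro x hx1 hxv
    have hA : Γ.side (f (k + 1)) = true := hf.side_even (by omega) (Nat.even_iff.2 (by omega))
    have e2 : f (k + 2) = f Γ.b := by rw [hk]
    have hup := hf.1.1 (k + 1) (show k + 1 < Γ.b + 1 by omega)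
    rw [e2] at hup
    have hadj := hf.1.1 k (show k < Γ.b + 1 by omega)
    have hxa := Γ.zc_le_za hup hxv
    have hxa' := Γ.conj_za hxa g
    rw [Γ.zc_comm hx1 hg1, mul_inv_cancel_right] at hxa'
    have hm := Γ.za_inter hb hA hadj (Γ.side_smul_adj hadj hgk) (Ne.symm hgm) hxa hxa'
    refine Γ.zc_disjoint hA hup (Γ.adj_symm hadj) ?_ hxv hm
    rw [← e2]
    exact hf.1.2 k (by omega)
  have h01 := hf.1.1 0 (by omega)
  have hzc : ∀ (c a : V), Γ.Adj c a → Finite (Γ.zc c) := fun c a h =>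
    Γ.fin_le h fun y hy => Γ.kn_le_edg h hy.1
  by_cases hw : Γ.za (f 0) ⊓ Γ.kn (f Γ.b) ≤ Γ.zc (f 1)
  · obtain ⟨j, hj⟩ : ∃ j, Γ.b = j + 1 := ⟨Γ.b - 1, by omega⟩
    have hadj : Γ.Adj (f Γ.b) (f j) := by rw [hj]; exact hf.1.adj' (by omega)
    refine Γ.k1_of hf.2.1 h01 (Γ.side_c h01 hf.2.1) (Γ.card_le_two hadj ?_ hw
      (hzc _ _ (Γ.adj_symm h01)))
    exact fun x hx => ⟨Γ.za_fix hf.2.1 le_rfl (hf.1.wk (i := 0) (by omega) (by omega)) hx,
      Γ.za_fix hf.2.1 (n := j) (by omega) (hf.1.wk (i := 0) (by omega) (by omega)) hx⟩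
  obtain ⟨w, ⟨hwz, hwk⟩, hw1⟩ := SetLike.not_le_iff_exists.1 hw
  have h12 := hf.1.1 1 (by omega)
  refine Γ.k1_of hr hrv hcv (Γ.card_le_two h12 ?_ ?_ (hzc _ _ hvr))
  · exact fun x hx => ⟨Γ.za_fix hr (n := Γ.b) le_rfl (hf.1.wk' (i := 1) (by omega) (by omega)) hx,
      Γ.za_fix hr (n := Γ.b - 1) (by omega) (hf.1.wk' (i := 2) (by omega) (by omega)) hx⟩
  rintro x ⟨hx, hx1⟩
  have hxe : x ∈ edg G (f 0) (f 1) :=
    ⟨Γ.smul_of_kn hx1 (Γ.adj_symm h01), (Γ.mem_kn.1 hx1).1⟩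
  have hwe : w ∈ edg G (f (Γ.b + 1)) (f Γ.b) :=
    ⟨Γ.smul_of_kn hwk hvr, (Γ.mem_kn.1 hwk).1⟩
  have e1 := Γ.za_comm_mem hf.2.1 h01 hwz hxe
  have e2 := Γ.za_comm_mem hr hrv hx hwe
  have heq : (x * (w * x * w⁻¹))⁻¹ = w * (x * w * x⁻¹) := by
    simp only [mul_inv_rev, mul_assoc, Γ.za_inv hr hx, Γ.za_inv hf.2.1 hwz]
  have hc : x * w = w * x := by
    have := hdis _ e1 (heq ▸ inv_mem e2)
    rw [mul_eq_one_iff_inv_eq, Γ.za_inv hf.2.1 hwz] at this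
    exact mul_inv_eq_iff_eq_mul.1 this.symm
  have hxk : x ∈ Γ.kn (f 0) := by
    by_contra hxk
    exact hw1 (Γ.za_fixed hf.2.1 h01 hwz hxe hxk hc)
  exact Γ.za_inter hb hr hvr (Γ.side_smul_adj hvr (hzf _ le_rfl)) (Ne.symm hzm) hx
    (Γ.conj_za_eq hx (Γ.za_comm hf.2.1 hz hxk).symm rfl)

end H79.GAm.Deep
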