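import Cfsg.Agent.H79.GAmalgam.Centre

/-!
When each `zc c` has order two: the involution of a vertex, and basic transitivity.
-/

set_option autoImplicit false
set_option linter.style.haveILetI false

namespace H79.GAm.Deep

open MulAction

variable {G : Type*} [Group G] {V : Type*} [MulAction G V] (Γ : Deep G V)

/-- each `zc c` has order two -/
def K1 : Prop := ∀ c, Γ.side c = false → Nat.card (Γ.zc c) = 2

theorem k1_of {a c c₀ : V} (ha : Γ.side a = true) (h : Γ.Adj a c) (hc₀ : Γ.side c₀ = false)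
    (hle : Nat.card (Γ.za a) ≤ 2 * Nat.card (Γ.zc c₀)) : Γ.K1 := by
  obtain ⟨d, hd, hdc⟩ := Γ.exists_ne h
  have h1 := Γ.zc_sq_le_za ha h hd hdc.symm
  rw [Γ.card_zc_eq (Γ.side_c h ha) hc₀, Γ.card_zc_eq (Γ.side_c hd ha) hc₀] at h1
  have h2 := Γ.one_lt_card_zc hc₀ (Γ.exists_adj c₀).choose_spec
  intro c' hc'
  rw [Γ.card_zc_eq hc' hc₀]
  have h3 := Nat.le_of_mul_le_mul_right (h1.trans hle) (by omega)
  omega

open Classical in
/-- the involution of a vertex -/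
noncomputable def zel (v : V) : G :=
  @Classical.epsilon G ⟨1⟩ (fun x => x ∈ Γ.zc v ∧ x ≠ 1)

theorem zel_spec {c : V} (hc : Γ.side c = false) : Γ.zel c ∈ Γ.zc c ∧ Γ.zel c ≠ 1 := by
  obtain ⟨a, ha⟩ := Γ.exists_adj c
  obtain ⟨x, hx⟩ := Γ.exists_zc hc ha
  exact Classical.epsilon_spec (p := fun y => y ∈ Γ.zc c ∧ y ≠ 1) ⟨x, hx⟩

theorem zel_mem {c : V} (hc : Γ.side c = false) : Γ.zel c ∈ Γ.zc c := (Γ.zel_spec hc).1

theorem zel_za {a c : V} (ha : Γ.side a = true) (h : Γ.Adj a c) : Γ.zel c ∈ Γ.za a :=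
  Γ.zc_le_za h (Γ.zel_mem (Γ.side_c h ha))

attribute [local irreducible] zel

theorem zel_inv {c : V} (hc : Γ.side c = false) : (Γ.zel c)⁻¹ = Γ.zel c :=
  inv_eq_of_mul_eq_one_right (Γ.zc_sq (Γ.zel_mem hc))

theorem zel_sq {c : V} (hc : Γ.side c = false) : Γ.zel c * Γ.zel c = 1 :=
  Γ.zc_sq (Γ.zel_mem hc)

theorem zel_fix {c w : V} (hc : Γ.side c = false) {n : ℕ} (hn : n ≤ Γ.b + 1) (hw : Γ.Wk n c w) :
    Γ.zel c • w = w :=
  Γ.zc_fix hc hn hw (Γ.zel_mem hc)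

theorem zel_comm {c c' : V} (hc : Γ.side c = false) (hc' : Γ.side c' = false) {n : ℕ}
    (hn : n ≤ Γ.b + 1) (hw : Γ.Wk n c c') : Γ.zel c * Γ.zel c' = Γ.zel c' * Γ.zel c :=
  Γ.zc_zc hc hn hw (Γ.zel_mem hc) (Γ.zel_mem hc')

theorem zel_ne {a c c' : V} (ha : Γ.side a = true) (h : Γ.Adj a c) (h' : Γ.Adj a c')
    (hne : c ≠ c') : Γ.zel c ≠ Γ.zel c' := fun e =>
  (Γ.zel_spec (Γ.side_c h ha)).2 (Γ.zc_disjoint ha h h' hne (Γ.zel_mem (Γ.side_c h ha))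
    (e ▸ Γ.zel_mem (Γ.side_c h' ha)))

variable {Γ} (K : Γ.K1)

include K

theorem K1.eq_zel {c : V} (hc : Γ.side c = false) {x : G} (hx : x ∈ Γ.zc c) (hx1 : x ≠ 1) :
    x = Γ.zel c := by
  obtain ⟨y, -, huniq⟩ := (Nat.card_eq_two_iff' (1 : Γ.zc c)).1 (K c hc)
  have h1 := huniq ⟨x, hx⟩ fun e => hx1 (congrArg Subtype.val e)
  have h2 := huniq ⟨_, Γ.zel_mem hc⟩ fun e => (Γ.zel_spec hc).2 (congrArg Subtype.val e)
  exact congrArg Subtype.val (h1.trans h2.symm)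

theorem K1.or_zel {c : V} (hc : Γ.side c = false) {x : G} (hx : x ∈ Γ.zc c) :
    x = 1 ∨ x = Γ.zel c := or_iff_not_imp_left.2 (K.eq_zel hc hx)

theorem K1.conj_zel {c : V} (hc : Γ.side c = false) (g : G) :
    g * Γ.zel c * g⁻¹ = Γ.zel (g • c) :=
  K.eq_zel ((Γ.side_smul g c).trans hc) (Γ.conj_zc (Γ.zel_mem hc) g) fun e =>
    (Γ.zel_spec hc).2 (by
      rw [mul_inv_eq_one] at e
      exact mul_eq_left.1 e)

/-- the three involutions around a vertex multiply to one -/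
theorem K1.zel_mul {a c c' c'' : V} (ha : Γ.side a = true) (h : Γ.Adj a c) (h' : Γ.Adj a c')
    (h'' : Γ.Adj a c'') (n1 : c ≠ c') (n2 : c ≠ c'') (n3 : c' ≠ c'') :
    Γ.zel c * Γ.zel c' = Γ.zel c'' := by
  obtain ⟨t, ht, htk⟩ := Γ.exists_swap h''
  have hs := Γ.smul_other h'' h h' n2.symm n3.symm n1 ht.1 ht.2 (Γ.moves h'' h n2 ht htk)
  have h1 := Γ.za_comm_mem ha h'' (Γ.zel_za ha h) ht
  rw [K.conj_zel (Γ.side_c h ha), hs.1] at h1
  refine K.eq_zel (Γ.side_c h'' ha) h1 fun e => Γ.zel_ne ha h h' n1 ?_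
  rw [mul_eq_one_iff_eq_inv.1 e, Γ.zel_inv (Γ.side_c h' ha)]

theorem K1.mem_za {a c c' c'' : V} (ha : Γ.side a = true) (h : Γ.Adj a c) (h' : Γ.Adj a c')
    (h'' : Γ.Adj a c'') (n1 : c ≠ c') (n2 : c ≠ c'') (n3 : c' ≠ c'') {x : G} (hx : x ∈ Γ.za a) :
    x = 1 ∨ x = Γ.zel c ∨ x = Γ.zel c' ∨ x = Γ.zel c'' := by
  obtain ⟨t, ht, htk⟩ := Γ.exists_swap h''
  have hs := Γ.smul_other h'' h h' n2.symm n3.symm n1 ht.1 ht.2 (Γ.moves h'' h n2 ht htk)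
  have hc'' := Γ.side_c h'' ha
  have fixed : ∀ y ∈ Γ.za a, y * (t * y * t⁻¹) = 1 → y = 1 ∨ y = Γ.zel c'' := by
    intro y hy e
    refine K.or_zel hc'' (Γ.za_fixed ha h'' hy ht htk ?_)
    rw [mul_eq_one_iff_inv_eq.1 e |>.symm.trans (Γ.za_inv ha hy) |> mul_inv_eq_iff_eq_mul.1]
  rcases K.or_zel hc'' (Γ.za_comm_mem ha h'' hx ht) with e | e
  · rcases fixed x hx e with e' | e'
    exacts [Or.inl e', Or.inr (Or.inr (Or.inr e'))]
  · have hz := Γ.zel_za ha h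
    have hm := K.zel_mul ha h h' h'' n1 n2 n3
    have e2 : x * Γ.zel c * (t * (x * Γ.zel c) * t⁻¹) = 1 := by
      have hk := Γ.za_comm ha (Γ.za_normal hx ht.1) (Γ.za_kn ha hz)
      calc x * Γ.zel c * (t * (x * Γ.zel c) * t⁻¹)
          = x * (Γ.zel c * (t * x * t⁻¹)) * (t * Γ.zel c * t⁻¹) := by group
        _ = (x * (t * x * t⁻¹)) * (Γ.zel c * (t * Γ.zel c * t⁻¹)) := by rw [hk]; group
        _ = Γ.zel c'' * Γ.zel c'' := by rw [e, K.conj_zel (Γ.side_c h ha), hs.1, hm]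
        _ = 1 := Γ.zel_sq hc''
    rcases fixed _ (mul_mem hx hz) e2 with e' | e'
    · exact Or.inr (Or.inl (by
        rw [mul_eq_one_iff_eq_inv.1 e', Γ.zel_inv (Γ.side_c h ha)]))
    · refine Or.inr (Or.inr (Or.inl ?_))
      have e3 : x = Γ.zel c'' * Γ.zel c := by
        rw [← e', mul_assoc, Γ.zel_sq (Γ.side_c h ha), mul_one]
      rw [e3, K.zel_mul ha h'' h h' n2.symm n3.symm n1]

omit K

end H79.GAm.Deep
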